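/-
Going down theorem (full form), chief factors of solvable sections, relative M-groups.
-/
import Cfsg.Agent.H21.MS3
import Cfsg.Agent.H21.Glau4
import Cfsg.Agent.H16.Misc

set_option autoImplicit false
set_option linter.unusedSectionVars false
open H17 Cfsg H15 CF H21
open scoped ComplexConjugate commutatorElement

namespace H18

universe u
variable {G : Type u} [Group G] [Finite G] {P H K L M N U T : Subgroup G} {χ ψ θ φ : G → ℂ}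
  {p n : ℕ}

/-- Isaacs (6.18), full form -/
theorem gdown (hLK : L ≤ K) (hd : ⁅K, K⁆ ≤ L) (hL : M ≤ 𝒩(L)) (hK : M ≤ 𝒩(K)) (hKM : K ≤ M)
    (hch : ∀ U, L ≤ U → U ≤ K → M ≤ 𝒩(U) → U = L ∨ U = K) (hθ : θ ∈ Irr K) (hs : M ≤ stab θ) :
    Res (L : Set G) θ ∈ Irr L ∨
      (∃ φ ∈ Irr L, ∃ e : ℕ, Res (L : Set G) θ = (e : ℂ) • φ ∧ e ^ 2 = L.relIndex K) ∨
      ∃ φ ∈ Irr L, dot L θ φ ≠ 0 ∧ K ⊓ stab φ = L := by
  classical
  have hn : K ≤ 𝒩(L) := hKM.trans hL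
  obtain ⟨φ, hφ, h0⟩ := exists_under hLK hθ
  have hLT : L ≤ K ⊓ stab φ := le_inf hLK (le_stab (irr_cf hφ))
  have hT : M ≤ 𝒩(K ⊓ stab φ) := by
    intro g hg
    have h1 : dot L θ (cfj g φ) ≠ 0 := by
      rwa [← mem_stab.1 (hs hg), dot_cfj_norm (hL hg)]
    obtain ⟨k, hk, e⟩ := mem_orb.1 (clifford_mem_orb hLK hn hθ hφ (cfj_mem_Irr_norm (hL hg) hφ) h0 h1)
    rw [mem_norm_iff_cj, cj_inf, ← stab_cfj, ← e, stab_cfj, cj_of_mem_norm (hK hg)]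
    conv_lhs => rw [← cj_of_mem hk]
    rw [← cj_inf]
    exact cj_of_mem_norm (H16.norm_of_der_le (hd.trans hLT) inf_le_left hk)
  obtain ⟨e, he, e1, e2⟩ := deg_clifford hLK hn hφ (mem_over.2 ⟨hθ, h0⟩)
  rcases hch _ hLT inf_le_left hT with h | h
  · exact Or.inr (Or.inr ⟨φ, hφ, h0, h⟩)
  have hs' : K ≤ stab φ := inf_eq_left.1 h
  have hR : Res (L : Set G) θ = (e : ℂ) • φ := e1 ▸ Res_eq_smul_of_le_stab hLK hn hθ hφ hs' h0
  have hV : M ≤ 𝒩(L ⊔ Subgroup.closure {x | θ x ≠ 0}) := by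
    refine H16.norm_sup hL (H16.le_norm_iff_cj.2 fun g hg => ?_)
    rw [H16.cj_le_iff]
    refine (Subgroup.closure_le _).2 fun x hx => ?_
    refine H16.mem_cj.2 (Subgroup.subset_closure ?_)
    change θ _ ≠ 0
    rwa [inv_inv, mem_stab_iff.1 (hs hg)]
  rcases hch _ le_sup_left (sup_le hLK ((Subgroup.closure_le _).2 fun x hx => by
    by_contra hh; exact hx (cf_zero (irr_cf hθ) hh))) hV with h1 | h1
  · refine Or.inr (Or.inl ⟨φ, hφ, e, hR, (H9.sq_eq_iff_vanish hLK hθ hφ hR).2 fun g hg => ?_⟩)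
    by_contra hh
    exact hg (h1 ▸ Subgroup.mem_sup_right (Subgroup.subset_closure hh))
  left
  obtain ⟨e', -, a1, a2, -, a3⟩ := central_inertia hLK hn hφ h.symm hd
  have e3 : e' = e := by exact_mod_cast (a3 θ (mem_over.2 ⟨hθ, h0⟩)).1.symm.trans e1
  subst e3
  have hc : (IrrQ K L).card ≤ (IrrO K L φ).card := by
    refine Finset.card_le_card_of_injOn (fun l => l * θ) (fun l hl => ?_) fun l hl m hm e => ?_
    · have hl := Finset.mem_coe.1 hl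
      refine Finset.mem_coe.2 (mem_over.2 ⟨lin_mul_mem_Irr (isLin_of_IrrQ hd hl) hθ, ?_⟩)
      rwa [dot_congr (φ' := θ) (ψ' := φ) (fun x hx => by
        change l x * θ x = θ x
        rw [cfker_apply ((mem_IrrQ.1 hl).2 hx), (isLin_of_IrrQ hd hl).one_apply,
          one_mul]) fun _ _ => rfl]
    · have hl' := isLin_of_IrrQ hd (Finset.mem_coe.1 hl)
      have hm' := isLin_of_IrrQ hd (Finset.mem_coe.1 hm)
      have h2 : K ≤ cfker (l * star m) := by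
        rw [← h1]
        refine sup_le (le_cfker_mul (mem_IrrQ.1 hl).2 (cfker_star m ▸ (mem_IrrQ.1 hm).2))
          ((Subgroup.closure_le _).2 fun x hx => ?_)
        have hxK : x ∈ K := by by_contra hh; exact hx (cf_zero (irr_cf hθ) hh)
        refine (hl'.mul hm'.star).mem_cfker.2 ?_
        rw [Pi.mul_apply, mul_right_cancel₀ hx (congrFun e x)]
        exact hm'.mul_conj hxK
      have h3 := irr_eq_one_of_le_cfker (hl'.mul hm'.star).mem_Irr h2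
      rw [← hm'.mul_star, mul_comm l, mul_comm m] at h3
      exact hm'.star.mul_left_cancel (cf_le_supp _ hl'.cf) (cf_le_supp _ hm'.cf) h3
  rw [card_IrrQ_of_comm hd hLK, ← a2] at hc
  have h4 : 0 < (IrrO K L φ).card := (over_nonempty hLK hφ).card_pos
  have h5 : e' = 1 := by nlinarith [Nat.le_of_mul_le_mul_right (a := e' ^ 2) (b := 1) (by simpa using hc) h4]
  rw [hR, h5]
  simpa using hφ

/-- a chief factor of a solvable section is abelian and covered by every Sylow subgroup for a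
suitable prime -/
theorem chief_sol (hLK : L < K) (hL : M ≤ 𝒩(L)) (hK : M ≤ 𝒩(K)) (hKM : K ≤ M) (hs : QSol K L)
    (hch : ∀ U, L ≤ U → U ≤ K → M ≤ 𝒩(U) → U = L ∨ U = K) :
    ⁅K, K⁆ ≤ L ∧ ∃ p : ℕ, p.Prime ∧ p ∣ L.relIndex K ∧ ∀ P, Syl(p, P, K) → L ⊔ P = K := by
  have hd : ⁅K, K⁆ ≤ L := by
    rcases hch (⁅K, K⁆ ⊔ L) le_sup_right (sup_le (H16.der_le K) hLK.le)
      (H16.norm_sup (H16.norm_der hK) hL) with h | h
    · exact h ▸ le_sup_left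
    · exact absurd h.ge (hs.not_le (hKM.trans hL) hLK)
  refine ⟨hd, ?_⟩
  obtain ⟨p, hp, hpd⟩ := Nat.exists_prime_and_dvd (n := L.relIndex K)
    (fun h => hLK.not_ge (Subgroup.relIndex_eq_one.1 h))
  have := Fact.mk hp
  refine ⟨p, hp, hpd, fun P hP => ?_⟩
  rcases hch (L ⊔ P) le_sup_left (sup_le hLK.le hP.1) (fun g hg => by
    obtain ⟨k, hk, n, hn, rfl⟩ := H16.sy_frattini hP (hK hg)
    refine mul_mem (H16.norm_of_der_le (hd.trans le_sup_left) (sup_le hLK.le hP.1) hk) ?_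
    have h1 : n ∈ M := (mul_mem_cancel_left (hKM hk)).1 hg
    exact H16.norm_sup (A := Subgroup.zpowers n) ((Subgroup.zpowers_le.2 h1).trans hL)
      (Subgroup.zpowers_le.2 hn) (Subgroup.mem_zpowers n)) with h | h
  · exact absurd (hpd.trans (Subgroup.relIndex_dvd_of_le_left K (h ▸ le_sup_right : P ≤ L)))
      (H16.sy_not_dvd hP hp)
  · exact h

theorem chief_pow (hLK : L < K) (hL : M ≤ 𝒩(L)) (hK : M ≤ 𝒩(K)) (hKM : K ≤ M) (hs : QSol K L)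
    (hch : ∀ U, L ≤ U → U ≤ K → M ≤ 𝒩(U) → U = L ∨ U = K) :
    ∃ p k : ℕ, p.Prime ∧ L.relIndex K = p ^ k := by
  obtain ⟨-, p, hp, -, h⟩ := chief_sol hLK hL hK hKM hs hch
  have := Fact.mk hp
  obtain ⟨P, hP⟩ := H16.sy_exists p K
  obtain ⟨a, ha⟩ := IsPGroup.iff_card.1 (H16.sy_pg hP)
  have h1 : L.relIndex K ∣ p ^ a := by
    rw [← h P hP, H16.relIndex_sup_l ((hP.1.trans hKM).trans hL), ← ha]
    exact Subgroup.relIndex_dvd_card _ _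
  obtain ⟨k, -, hk⟩ := (Nat.dvd_prime_pow hp).1 h1
  exact ⟨p, k, hp, hk⟩

/-- a chief factor of `M` with given top -/
theorem exists_chief_below (hNK : N < K) (hN : M ≤ 𝒩(N)) :
    ∃ L, N ≤ L ∧ L < K ∧ M ≤ 𝒩(L) ∧ ∀ U, L ≤ U → U ≤ K → M ≤ 𝒩(U) → U = L ∨ U = K := by
  obtain ⟨L, h1, ⟨h2, h3⟩, h4⟩ := H16.exists_max_of (C := fun L => L < K ∧ M ≤ 𝒩(L)) ⟨hNK, hN⟩
  exact ⟨L, h1, h2, h3, fun U a b c => (eq_or_lt_of_le b).elim Or.inr
    fun d => Or.inl (h4 U ⟨d, c⟩ a)⟩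

/-- a chief factor of `M` with given bottom -/
theorem exists_chief_above (hLN : L < N) (hN : M ≤ 𝒩(N)) :
    ∃ K, L < K ∧ K ≤ N ∧ M ≤ 𝒩(K) ∧ ∀ U, L ≤ U → U ≤ K → M ≤ 𝒩(U) → U = L ∨ U = K := by
  obtain ⟨K, h1, ⟨h2, h3⟩, h4⟩ := H16.exists_min_of (C := fun K => L < K ∧ M ≤ 𝒩(K)) ⟨hLN, hN⟩
  exact ⟨K, h2, h1, h3, fun U a b c => (eq_or_lt_of_le a).elim (fun d => Or.inl d.symm)
    fun d => Or.inr (h4 U ⟨d, c⟩ b)⟩

/-- Isaacs (6.22) -/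
theorem rel_mono [N.Normal] (hs : QSol ⊤ N)
    (hch : ∀ H K L : Subgroup G, N ≤ L → L < K → K ≤ H → H ≤ 𝒩(K) → H ≤ 𝒩(L) →
      (∀ U, L ≤ U → U ≤ K → H ≤ 𝒩(U) → U = L ∨ U = K) → ¬ IsSquare (L.relIndex K))
    (H : Subgroup G) : N ≤ H → ∀ χ ∈ Irr H, ∃ U, N ≤ U ∧ U ≤ H ∧ ∃ ψ ∈ Irr U, Ind H U ψ = χ ∧
      Res (N : Set G) ψ ∈ Irr N := by
  induction H using H16.ind_down with
  | h H ih =>
  intro hNH χ hχ
  obtain ⟨K, hKH, ⟨a1, a2, a3⟩, a4⟩ := H16.exists_min_of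
    (C := fun K => N ≤ K ∧ H ≤ 𝒩(K) ∧ Res (K : Set G) χ ∈ Irr K) (X := H)
    ⟨hNH, H16.le_norm H, by rwa [Res_cf (irr_cf hχ)]⟩
  rcases eq_or_lt_of_le a1 with h | h
  · exact ⟨H, hNH, le_rfl, χ, hχ, Ind_self (irr_cf hχ), h ▸ a3⟩
  obtain ⟨L, b1, b2, b3, b4⟩ := exists_chief_below (M := H) h (le_top.trans (top_le_norm N))
  have hd := (chief_sol b2 b3 a2 hKH (hs.mono le_top b1) b4).1
  rcases gdown b2.le hd b3 a2 hKH b4 a3 (le_stab_Res a2 (irr_cf hχ)) with c | ⟨φ, -, e, -, c⟩ |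
    ⟨φ, hφ, c1, c2⟩
  · rw [Res_Res_of_le b2.le] at c
    exact absurd (a4 L ⟨b1, b3, c⟩ b2.le) b2.ne
  · exact absurd ⟨e, by rw [← c, sq]⟩ (hch H K L b1 b2 hKH a2 b3 b4)
  · rw [dot_Res_left_of_le b2.le] at c1
    obtain ⟨ψ, hψ, d, -⟩ := cliffCorr_exists (b2.le.trans hKH) b3 hφ rfl hχ c1
    have hlt : H ⊓ stab φ < H := lt_of_le_of_ne inf_le_left fun e =>
      b2.not_ge (c2 ▸ le_inf le_rfl (hKH.trans (inf_eq_left.1 e)))
    obtain ⟨U, u1, u2, η, hη, u3, u4⟩ := ih _ hlt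
      (b1.trans (le_inf (b2.le.trans hKH) (le_stab (irr_cf hφ)))) ψ hψ
    exact ⟨U, u1, u2.trans inf_le_left, η, hη, by rw [← d, ← u3, Ind_Ind u2 inf_le_left], u4⟩

/-- `χ` is not induced from a proper subgroup of `U` -/
def Prim (U : Subgroup G) (χ : G → ℂ) : Prop := ∀ T < U, ∀ ψ, IsChar T ψ → Ind U T ψ ≠ χ

theorem exists_prim (hχ : χ ∈ Irr H) : ∃ U ≤ H, ∃ ψ ∈ Irr U, Ind H U ψ = χ ∧ Prim U ψ := by
  obtain ⟨U, h1, ⟨ψ, hψ, h2⟩, h3⟩ := H16.exists_min_of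
    (C := fun U => ∃ ψ ∈ Irr U, Ind H U ψ = χ) (X := H) ⟨χ, hχ, Ind_self (irr_cf hχ)⟩
  refine ⟨U, h1, ψ, hψ, h2, fun T hT η hη e => hT.ne (h3 T ⟨η, hη.mem_Irr_of_Ind hT.le (e ▸ hψ),
    by rw [← h2, ← e, Ind_Ind hT.le h1]⟩ hT.le)⟩

theorem Prim.homog (h : Prim U χ) (hχ : χ ∈ Irr U) (hM : M ≤ U) (hn : U ≤ 𝒩(M)) :
    ∃ θ ∈ Irr M, U ≤ stab θ ∧ ∃ e : ℕ, 0 < e ∧ Res (M : Set G) χ = (e : ℂ) • θ := by
  rcases homogeneous_or_induced hM hn hχ with h1 | ⟨T, -, h2, ψ, hψ, h3⟩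
  · exact h1
  · exact absurd h3 (h T h2 ψ (irr_char hψ))

theorem cfker_le_of_homog (hχ : IsChar U χ) (hM : M ≤ U) (hθ : θ ∈ Irr M) {e : ℕ} (he : 0 < e)
    (h : Res (M : Set G) χ = (e : ℂ) • θ) : cfker θ = M ⊓ cfker χ := by
  have h0 : (e : ℂ) ≠ 0 := by exact_mod_cast he.ne'
  rw [← cfker_smul h0, ← h, hχ.cfker_Res]
  rintro rfl
  rw [map_zero] at h
  exact irr_ne_zero hθ ((smul_eq_zero.1 h.symm).resolve_left h0)

theorem Prim.comm_le (h : Prim U χ) (hχ : χ ∈ Irr U) (hM : M ≤ U) (hn : U ≤ 𝒩(M))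
    (hd : ⁅M, M⁆ ≤ cfker χ) : ⁅U, M⁆ ≤ cfker χ := by
  obtain ⟨θ, hθ, h1, e, he, h2⟩ := h.homog hχ hM hn
  have h3 := cfker_le_of_homog (irr_char hχ) hM hθ he h2
  have hl : IsLin M θ := isLin_of_le_cfker hθ (h3 ▸ le_inf (H16.der_le M) hd)
  exact ((hl.le_stab_iff hn).1 h1).trans (h3 ▸ inf_le_right)

/-- a solvable normal subgroup with abelian Sylow subgroups is central modulo the kernel of a
primitive character -/
theorem Prim.comm_le_of_syl (h : Prim U χ) (hχ : χ ∈ Irr U) (hM : M ≤ U) (hn : U ≤ 𝒩(M))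
    (hs : Group.IsSolvable M)
    (ha : ∀ p : ℕ, p.Prime → ∀ P ≤ M, IsPGroup p P → IsMulCommutative P) :
    ⁅U, M⁆ ≤ cfker χ := by
  have hk : U ≤ 𝒩(cfker χ) := le_norm_cfker (irr_cf hχ)
  obtain ⟨L, -, ⟨a1, a2, a3⟩, a4⟩ := H16.exists_max_of
    (C := fun L => L ≤ M ∧ U ≤ 𝒩(L) ∧ ⁅U, L⁆ ≤ cfker χ) (X := ⊥)
    ⟨bot_le, by rw [H16.norm_bot]; exact le_top, by simp⟩
  rcases eq_or_lt_of_le a1 with e | e
  · exact e ▸ a3
  obtain ⟨K, b1, b2, b3, b4⟩ := exists_chief_above e hn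
  obtain ⟨-, p, hp, -, c⟩ := chief_sol b1 a2 b3 (b2.trans hM)
    (qsol_of_sol (H16.sol_of_le hs b2) L) b4
  have := Fact.mk hp
  obtain ⟨P, hP⟩ := H16.sy_exists p K
  have hPU : P ≤ U := (hP.1.trans b2).trans hM
  have hLU : L ≤ U := a1.trans hM
  have d1 : ⁅K, L⁆ ≤ cfker χ := (Subgroup.commutator_mono (b2.trans hM) le_rfl).trans a3
  have d2 : ⁅K, P⁆ ≤ cfker χ := by
    rw [← c P hP]
    refine H16.sup_comm_le ?_ ?_ (hLU.trans hk) (hPU.trans hk)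
    · rw [Subgroup.commutator_comm]
      exact (Subgroup.commutator_mono hPU le_rfl).trans a3
    · rw [H16.der_eq_bot.2 (ha p hp P (hP.1.trans b2) (H16.sy_pg hP))]
      exact bot_le
  have d3 : ⁅K, K⁆ ≤ cfker χ := by
    nth_rewrite 2 [← c P hP]
    exact H16.comm_sup_le d1 d2 (hLU.trans hk) (hPU.trans hk)
  exact absurd (a4 K ⟨b2, b3, h.comm_le hχ (b2.trans hM) b3 d3⟩ b1.le) b1.ne'

/-- if an induced character restricts irreducibly to a normal subgroup, the two subgroups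
generate -/
theorem sup_eq_of_Res_Ind (hUH : U ≤ H) (hNH : N ≤ H) (hθ : IsChar U θ)
    (h : Res (N : Set G) (Ind H U θ) ∈ Irr N) : N ⊔ U = H := by
  have h1 : N ⊔ U ≤ H := sup_le hNH hUH
  set η := Ind (N ⊔ U) U θ
  have hη : IsChar (N ⊔ U) η := hθ.Ind le_sup_right
  have e : Ind H (N ⊔ U) η = Ind H U θ := Ind_Ind le_sup_right h1 θ
  rw [← e] at h
  have hχ := hη.Ind h1
  have h2 : Res ((N ⊔ U : Subgroup G) : Set G) (Ind H (N ⊔ U) η) ∈ Irr (N ⊔ U) :=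
    (hχ.Res h1).mem_Irr_of_Res le_sup_left (by rwa [Res_Res_of_le le_sup_left])
  have h3 : Ind H (N ⊔ U) η ∈ Irr H := hχ.mem_Irr_of_Res h1 h2
  have h4 : η ∈ Irr (N ⊔ U) := hη.mem_Irr_of_Ind h1 h3
  have h5 : Res ((N ⊔ U : Subgroup G) : Set G) (Ind H (N ⊔ U) η) = η :=
    irr_eq_of_dot_ne h2 h4 (by
      rw [← dot_Ind_right' h1 _ hχ.cf, dot_irr_self h3]; exact one_ne_zero)
  have h6 := congrFun h5 1
  rw [Res_one, Ind_one h1, mul_eq_right₀ (irr_one_ne h4)] at h6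
  exact le_antisymm h1 (Subgroup.relIndex_eq_one.1 (by exact_mod_cast h6))

/-- Isaacs (6.23) -/
theorem mono_of_rel [N.Normal] (hs : Group.IsSolvable N)
    (ha : ∀ p : ℕ, p.Prime → ∀ P ≤ N, IsPGroup p P → IsMulCommutative P) (hNH : N ≤ H)
    (hψ : ψ ∈ Irr H) (h : Res (N : Set G) ψ ∈ Irr N) : ∃ U ≤ H, ∃ l, IsLin U l ∧ Ind H U l = ψ := by
  obtain ⟨U, hU, θ, hθ, e, hp⟩ := exists_prim hψ
  have h1 := sup_eq_of_Res_Ind hU hNH (irr_char hθ) (e ▸ h)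
  have hn : U ≤ 𝒩(N) := le_top.trans (top_le_norm N)
  have h2 := Res_Ind_of_mul hU hNH (fun k hk => by
    obtain ⟨a, ha, b, hb, e⟩ := (H16.mem_sup_l hn).1 (h1.ge hk)
    exact ⟨a, ha, b, hb, e.symm⟩) (irr_cf hθ)
  rw [e, ← Ind_Res] at h2
  have h3 : Res ((N ⊓ U : Subgroup G) : Set G) θ ∈ Irr (N ⊓ U) :=
    ((irr_char hθ).Res inf_le_right).mem_Irr_of_Ind inf_le_left (h2 ▸ h)
  have h4 := hp.comm_le_of_syl hθ inf_le_right (H16.norm_inf hn (H16.le_norm U))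
    (H16.sol_of_le hs inf_le_left) fun p hp P hP => ha p hp P (hP.trans inf_le_left)
  have h5 := isLin_of_le_cfker h3 (by
    rw [(irr_char hθ).cfker_Res (irr_ne_zero hθ)]
    exact le_inf (H16.der_le _) ((Subgroup.commutator_mono inf_le_right le_rfl).trans h4))
  exact ⟨U, hU, θ, isLin_of_irr hθ (by rw [← h5.one_apply, Res_one]), e⟩

end H18
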