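/-
Characters of extraspecial groups; p-local Brauer induction.
-/
import Cfsg.Agent.H18.CG1
import Cfsg.Agent.H21.Trip
import Cfsg.Agent.H18.Brauer1
import Cfsg.Prelude.Def_Transfer

set_option autoImplicit false
set_option linter.unusedSectionVars false
open H17 Cfsg H15 CF H21
open scoped ComplexConjugate commutatorElement

namespace H18

universe u
variable {G : Type u} [Group G] [Finite G] {P H K L M N U T C E : Subgroup G}
  {χ ψ θ φ η β ϑ γ : G → ℂ} {p n : ℕ}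

theorem es_der (h : IsExtraspecial p G) : ⁅(⊤ : Subgroup G), ⊤⁆ = Subgroup.center G := h.1.2.2

theorem es_index (hp : p.Prime) (h : IsExtraspecial p G) (hc : Nat.card G = p ^ (2 * n + 1)) :
    (Subgroup.center G).index = p ^ (2 * n) := by
  have := (Subgroup.center G).card_mul_index
  rw [h.2, hc, pow_succ, mul_comm] at this
  exact mul_right_cancel₀ hp.ne_zero this

theorem es_ne_zero (hp : p.Prime) (h : IsExtraspecial p G) (hc : Nat.card G = p ^ (2 * n + 1)) :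
    n ≠ 0 := by
  rintro rfl
  have h1 := es_index hp h hc
  rw [mul_zero, pow_zero, Subgroup.index_eq_one] at h1
  have h2 : ⁅(⊤ : Subgroup G), ⊤⁆ = ⊥ := H16.comm_eq_bot.2 (by rw [cent_top, h1])
  have h3 := h.2
  rw [← es_der h, h2, Subgroup.card_bot] at h3
  exact hp.one_lt.ne h3

theorem es_char (hp : p.Prime) (h : IsExtraspecial p G) (hc : Nat.card G = p ^ (2 * n + 1))
    (hχ : χ ∈ Irr ⊤) (hk : ¬ Subgroup.center G ≤ cfker χ) :
    χ 1 = (p : ℂ) ^ n ∧ ∀ x, x ∉ Subgroup.center G → χ x = 0 := by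
  have h1 := H16.inf_bot_of_prime (h.2 ▸ hp) hk
  have h2 : ∀ x, x ∉ Subgroup.center G → χ x = 0 := fun x hx => by
    by_contra h0
    refine hx (Subgroup.mem_center_iff.2 fun y => ?_)
    have h3 : ⁅y, x⁆ ∈ Subgroup.center G :=
      (es_der h).le (Subgroup.commutator_mem_commutator trivial trivial)
    obtain ⟨ω, hω⟩ := exists_central_scalar hχ (Subgroup.mem_top _) (cent_top.ge h3)
    have h4 : ω = 1 := by
      have := hω x
      rw [show ⁅y, x⁆ * x = y * x * y⁻¹ by group, cf_conj (irr_cf hχ) x trivial] at this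
      exact (mul_eq_right₀ h0).1 this.symm
    exact commutatorElement_eq_one_iff_mul_comm.1 (h1.le ⟨h3, fun z => by rw [hω, h4, one_mul]⟩)
  refine ⟨?_, h2⟩
  obtain ⟨l, hl, h3⟩ := exists_under (H := Subgroup.center G) le_top hχ
  obtain ⟨e, he⟩ := (irr_char hχ).dot_nat_of_le le_top (irr_char hl)
  have h4 := Res_eq_smul_of_le_stab le_top (top_le_norm _) hχ hl
    (le_trans (cent_comm cent_top.ge) (cent_le_stab (irr_cf hl).1)) h3
  rw [he] at h4
  have h5 := (H9.sq_eq_iff_vanish le_top hχ hl h4).2 h2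
  rw [Subgroup.relIndex_top_right, es_index hp h hc, mul_comm, pow_mul] at h5
  rw [(norm_eq_of_Res_eq_lin (isLin_of_comm inferInstance hl) h4).1,
    (Nat.pow_left_injective two_ne_zero h5 : e = p ^ n), Nat.cast_pow]

theorem es_card (hp : p.Prime) (h : IsExtraspecial p G) (hc : Nat.card G = p ^ (2 * n + 1))
    [DecidableEq (G → ℂ)] : (Irr ⊤ \ IrrQ ⊤ (Subgroup.center G)).card = p - 1 := by
  have h1 := sum_irr_sq (⊤ : Subgroup G)
  rw [← Finset.sum_sdiff (IrrQ_subset ⊤ (Subgroup.center G)), sum_IrrQ_sq le_top (top_le_norm _),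
    Finset.sum_congr rfl (g := fun _ => ((p : ℂ) ^ n) ^ 2) (fun χ hχ => by
      obtain ⟨a, b⟩ := Finset.mem_sdiff.1 hχ
      rw [(es_char hp h hc a fun c => b (mem_IrrQ.2 ⟨a, c⟩)).1]), Subgroup.relIndex_top_right,
    es_index hp h hc, Subgroup.card_top, hc, Finset.sum_const, nsmul_eq_mul] at h1
  have h2 : ((Irr ⊤ \ IrrQ ⊤ (Subgroup.center G)).card + 1) * p ^ (2 * n) = p * p ^ (2 * n) := by
    have : (((Irr ⊤ \ IrrQ ⊤ (Subgroup.center G)).card + 1) * p ^ (2 * n) : ℂ) = p * p ^ (2 * n) := by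
      push_cast at h1
      linear_combination h1
    exact_mod_cast this
  have := mul_right_cancel₀ (pow_ne_zero _ hp.ne_zero) h2
  omega

/-- the lattice spanned by the characters induced from `p`-elementary subgroups -/
noncomputable def elSpan (p : ℕ) (K : Subgroup G) : Submodule ℤ (G → ℂ) :=
  Z {φ | ∃ E ≤ K, IsElementary p E ∧ ∃ θ, IsChar E θ ∧ Ind K E θ = φ}

theorem Ind_mem_elSpan (hHK : H ≤ K) (h : φ ∈ elSpan p H) : Ind K H φ ∈ elSpan p K := by
  refine map_mem_Z (Ind K H) ?_ h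
  rintro _ ⟨E, h1, h2, θ, h3, rfl⟩
  exact mem_Z_of_mem ⟨E, h1.trans hHK, h2, θ, h3, (Ind_Ind h1 hHK θ).symm⟩

theorem mul_mem_elSpan (h : φ ∈ elSpan p K) (hχ : IsChar K χ) : φ * χ ∈ elSpan p K := by
  refine map_mem_Z (LinearMap.mulRight ℂ χ) ?_ h
  rintro _ ⟨E, h1, h2, θ, h3, rfl⟩
  exact mem_Z_of_mem ⟨E, h1, h2, _, h3.mul (hχ.Res h1), Ind_mul_Res θ hχ.cf⟩

theorem isElementary_sup [hp : Fact p.Prime] (hC : IsCyclic C) (hc : (Nat.card C).Coprime p)
    (hP : IsPGroup p P) (h : C ≤ 𝒞(P)) : IsElementary p (C ⊔ P : Subgroup G) := by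
  obtain ⟨x, rfl⟩ := H16.exists_gen hC
  have hx : x ∈ Subgroup.zpowers x ⊔ P := Subgroup.mem_sup_left (Subgroup.mem_zpowers x)
  refine ⟨⟨x, hx⟩, Subgroup.mem_center_iff.2 fun y => Subtype.ext ?_, ?_, ?_⟩
  · exact H16.mem_cent.1 (H16.le_cent_sup (H16.comm_iff.1 (H16.comm_of_cyclic hC)) h
      (Subgroup.mem_zpowers x)) y y.2
  · rwa [← Subgroup.orderOf_coe, ← H16.card_zpowers]
  · obtain ⟨k, hk⟩ := IsPGroup.iff_card.1 hP
    have h1 : (Subgroup.zpowers x).relIndex (Subgroup.zpowers x ⊔ P) ∣ p ^ k := by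
      rw [H16.relIndex_sup_l (H16.norm_of_cent' h), ← hk]
      exact Subgroup.relIndex_dvd_card _ _
    obtain ⟨j, -, hj⟩ := (Nat.dvd_prime_pow hp.out).1 h1
    refine ⟨j, hj ▸ ?_⟩
    rw [Subgroup.relIndex]
    congr 1
    ext y
    rw [Subgroup.mem_subgroupOf, Subgroup.mem_zpowers_iff, Subgroup.mem_zpowers_iff]
    exact exists_congr fun i => by rw [Subtype.ext_iff]; rfl

theorem one_mem_elSpan [hp : Fact p.Prime] (H : Subgroup G) : IsQE p H → one H ∈ elSpan p H := by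
  classical
  induction H using H16.ind_down with
  | h H ih =>
  intro hH
  obtain ⟨C, h1, h2, h3, h4, k, h5⟩ := id hH
  obtain ⟨P, hP⟩ := H16.sy_exists p H
  have hPp := H16.sy_pg hP
  have hCP : C ⊔ P = H := by
    refine le_antisymm (sup_le h1 hP.1) (Subgroup.relIndex_eq_one.1 ?_)
    obtain ⟨j, -, hj⟩ := (Nat.dvd_prime_pow hp.out).1
      (h5 ▸ Subgroup.relIndex_dvd_of_le_left H (le_sup_left : C ≤ C ⊔ P))
    rcases j with _ | j
    · simpa using hj
    · exact absurd ((hj ▸ dvd_pow_self p j.succ_ne_zero).trans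
        (Subgroup.relIndex_dvd_of_le_left H le_sup_right)) (H16.sy_not_dvd hP hp.out)
  set E := (C ⊓ 𝒞(P)) ⊔ P with hE
  have hEH : E ≤ H := sup_le (inf_le_left.trans h1) hP.1
  have hel : IsElementary p E := isElementary_sup (H16.cyclic_of_le h3 inf_le_left)
    (h4.coprime_dvd_left (H16.card_dvd inf_le_left)) hPp inf_le_right
  have a1 : Ind H E (one E) ∈ elSpan p H := mem_Z_of_mem ⟨E, hEH, hel, _, isChar_one, rfl⟩
  have a2 := isChar_one.Ind hEH
  obtain ⟨m, m1, m2⟩ := a2.exists_coeff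
  have a3 : m (one H) = 1 := by
    have := m1 _ (one_mem_Irr H)
    rw [dot_Ind_one hEH, dot_irr_self (one_mem_Irr E)] at this
    exact_mod_cast this.symm
  rw [m2, ← Finset.add_sum_erase _ _ (one_mem_Irr H), a3, Nat.cast_one, one_smul] at a1
  refine (Submodule.add_mem_iff_left _ (Submodule.sum_mem _ fun χ hχ => ?_)).1 a1
  obtain ⟨b1, b2⟩ := Finset.mem_erase.1 hχ
  by_cases b3 : m χ = 0
  · rw [b3, Nat.cast_zero, zero_smul]; exact zero_mem _
  refine natCast_smul_mem ?_ _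
  obtain ⟨U, hU, l, hl, rfl⟩ := mono_of_pow (H16.comm_of_cyclic h3) H h1 h2 h5.dvd χ b2
  rcases eq_or_lt_of_le hU with rfl | hlt
  swap
  · exact Ind_mem_elSpan hU (one_mul_cf hl.cf ▸ mul_mem_elSpan (ih U hlt (hH.mono hp.out hU)) hl.char)
  rw [Ind_self hl.cf] at b1 b2 b3
  refine absurd (irr_eq_one_of_le_cfker b2 ?_) b1
  have c1 : E ≤ cfker l := by
    have c2 := m1 l b2
    rw [dot_Ind_left' hEH _ hl.cf] at c2
    have c3 := irr_eq_of_dot_ne (one_mem_Irr E) (hl.Res hEH).mem_Irr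
      (by rw [c2]; exact_mod_cast b3)
    intro x hx
    rw [hl.mem_cfker, ← Res_of_mem l hx, ← c3, one_of_mem hx]
  obtain ⟨a, ha⟩ := IsPGroup.iff_card.1 hPp
  rw [← hCP, ← H16.cop_comm_sup_cent (hP.1.trans h2) (ha ▸ (h4.symm.pow_left a))
    (Or.inl (H16.sol_of_nil hPp.isNilpotent))]
  exact sup_le (sup_le ((H16.comm_le_der h1 hP.1).trans hl.commutator_le) (le_sup_left.trans c1))
    (le_sup_right.trans c1)

theorem brauer_loc (hp : p.Prime) :
    ∃ m : ℤ, ¬ (p : ℤ) ∣ m ∧ (fun _ => (m : ℂ)) ∈ elSpan p (⊤ : Subgroup G) := by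
  have := Fact.mk hp
  have := Fintype.ofFinite G
  obtain ⟨m, h1, h2⟩ := solomon (G := G) hp
  refine ⟨m, h1, Submodule.span_le.2 ?_ h2⟩
  rintro _ ⟨H, rfl⟩
  have h3 := Ind_mem_elSpan le_top (one_mem_elSpan H.1 H.2)
  rwa [Ind_top_eq, res_one] at h3

end H18
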