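/-
Applications of Brauer's characterization of characters: section functions, the Brauer--Suzuki
transfer theorem.
-/
import Cfsg.Agent.H18.CG3
import Cfsg.Agent.H21.Dd1

set_option autoImplicit false
set_option linter.unusedSectionVars false
open H17 Cfsg H15 CF H21
open scoped ComplexConjugate commutatorElement

namespace H18

universe u
variable {G : Type u} [Group G] [Finite G] {P H K Q : Subgroup G} {χ ψ θ φ f : G → ℂ}
  {p q m n e : ℕ} {x y : G}

theorem exists_part_exp (h : m.Coprime n) : ∃ e, m ∣ e ∧ e ≡ 1 [MOD n] := by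
  obtain ⟨e, h1, h2⟩ := Nat.chineseRemainder h 0 1
  exact ⟨e, (Nat.modEq_zero_iff_dvd).1 h1, h2⟩

theorem pow_eq_self_of_modEq (he : e ≡ 1 [MOD n]) (hx : x ^ n = 1) : x ^ e = x := by
  nth_rewrite 2 [← pow_one x]
  exact pow_eq_pow_iff_modEq.2 (he.of_dvd (orderOf_dvd_of_pow_eq_one hx))

theorem pow_eq_one_of_dvd' (he : m ∣ e) (hx : x ^ m = 1) : x ^ e = 1 := by
  obtain ⟨k, rfl⟩ := he
  rw [pow_mul, hx, one_pow]

theorem pow_pow_eq_one (hG : Nat.card G = m * n) (he : m ∣ e) (x : G) : (x ^ e) ^ n = 1 := by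
  rw [← pow_mul]
  exact pow_eq_one_of_dvd' (Nat.mul_dvd_mul_right he n) (hG ▸ pow_card_eq_one')

theorem pow_eq_one_of_cop (hG : Nat.card G = m * n) (hx : (orderOf x).Coprime n) : x ^ m = 1 :=
  orderOf_dvd_iff_pow_eq_one.1 (hx.dvd_of_dvd_mul_right (hG ▸ orderOf_dvd_natCard x))

theorem card_dvd_of_pgroup (hG : Nat.card G = m * n) (hq : q.Prime) (hQ : IsPGroup q Q)
    (h : ¬ q ∣ n) : Nat.card Q ∣ m := by
  have := Fact.mk hq
  obtain ⟨k, hk⟩ := IsPGroup.iff_card.1 hQ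
  refine Nat.Coprime.dvd_of_dvd_mul_right (n := n) ?_ (hG ▸ Q.card_subgroup_dvd_card)
  rw [hk]
  exact ((Nat.Prime.coprime_iff_not_dvd hq).2 h).pow_left k

theorem pow_eq_one_of_card_dvd (h : Nat.card Q ∣ m) (hx : x ∈ Q) : x ^ m = 1 :=
  orderOf_dvd_iff_pow_eq_one.1 ((H16.orderOf_dvd_card hx).trans h)

/-- Isaacs (8.19) -/
theorem mem_GC_sec (hG : Nat.card G = m * n) (hc : m.Coprime n) (hf : IsClassFunction G f)
    (h1 : ∀ x, ∃ z ∈ H19.ZB, f x = n * z)
    (h2 : ∀ y u, Commute y u → u ^ m = 1 → f (y * u) = f y) : f ∈ H19.GC H19.ZB G := by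
  refine H19.mem_GC_of_local le_rfl hf fun q hq y Q _ hQ hy => ?_
  by_cases h : q ∣ n
  · have := Fintype.ofFinite Q
    obtain ⟨k, hk⟩ := card_dvd_of_pgroup (hG.trans (mul_comm _ _)) hq hQ
      (fun h' => hq.one_lt.ne' (Nat.eq_one_of_dvd_coprimes hc h' h))
    refine H19.mem_GC_of_inner (fun u a => ?_) fun χ => ?_
    · rw [← hf (y * u) a]
      congr 1
      push_cast
      rw [← mul_assoc (a : G), H16.mem_cent1.1 (hy a.2)]
      group
    · choose z hz hz' using h1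
      simp only [inner_def, hz', hk, Nat.cast_mul, mul_assoc, ← Finset.mul_sum]
      rw [inv_mul_cancel_left₀ (card_ne Q)]
      refine mul_mem (natCast_mem _ _) (sum_mem fun u _ => mul_mem (hz _) ?_)
      rw [χ.2.isCharacter.conj_apply]
      exact χ.2.isCharacter.isIntegral _
  · obtain ⟨z, hz, hz'⟩ := h1 y
    have : (fun u : Q => f (y * u)) = fun _ => f y := funext fun u =>
      h2 y u (H16.mem_cent1.1 (hy u.2)).symm
        (pow_eq_one_of_card_dvd (card_dvd_of_pgroup hG hq hQ h) u.2)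
    rw [this, hz']
    exact H19.const_mem_GC (mul_mem (natCast_mem _ _) hz)

open Classical in
theorem sec_mem_GC (hG : Nat.card G = m * n) (hc : m.Coprime n) (he : m ∣ e) (g : G) :
    (fun x => if IsConj (x ^ e) g then (n : ℂ) else 0) ∈ H19.GC H19.ZB G := by
  refine mem_GC_sec hG hc (fun x a => ?_) (fun x => ?_) fun y u h hu => ?_
  · simp only [conj_pow]
    exact if_congr ⟨fun h => (isConj_iff.2 ⟨a, rfl⟩).trans h,
      fun h => (isConj_iff.2 ⟨a, rfl⟩).symm.trans h⟩ rfl rfl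
  · split_ifs
    · exact ⟨1, one_mem _, (mul_one _).symm⟩
    · exact ⟨0, zero_mem _, (mul_zero _).symm⟩
  · simp only [h.mul_pow, pow_eq_one_of_dvd' he hu, mul_one]

theorem part_iff (hG : Nat.card G = m * n) (hc : m.Coprime n) (he : m ∣ e) (he' : e ≡ 1 [MOD n])
    {x v : G} : (∃ u : G, x = u * v ∧ Commute u v ∧ (orderOf u).Coprime n ∧ (orderOf v).Coprime m) ↔
      x ^ e = v := by
  constructor
  · rintro ⟨u, rfl, h1, h2, h3⟩
    rw [h1.mul_pow, pow_eq_one_of_dvd' he (pow_eq_one_of_cop hG h2), one_mul,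
      pow_eq_self_of_modEq he' (pow_eq_one_of_cop (hG.trans (mul_comm _ _)) h3)]
  · rintro rfl
    have h1 := pow_pow_eq_one hG he x
    have h2 : Commute x (x ^ e)⁻¹ := (Commute.self_pow x e).inv_right
    refine ⟨x * (x ^ e)⁻¹, by group,
      (Commute.self_pow x e).mul_left (Commute.refl _).inv_left, ?_,
      hc.symm.coprime_dvd_left (orderOf_dvd_of_pow_eq_one h1)⟩
    refine Nat.Coprime.coprime_dvd_left (orderOf_dvd_of_pow_eq_one (n := e) ?_) ?_
    · rw [h2.mul_pow, inv_pow, pow_eq_self_of_modEq he' h1, mul_inv_cancel]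
    · exact Nat.coprime_of_mul_modEq_one 1 (by rwa [mul_one])

section transfer
variable (hc : (Nat.card H).Coprime H.index)
  (hfus : ∀ x ∈ H, ∀ y ∈ H, IsConj x y → ∃ h ∈ H, h * x * h⁻¹ = y)
  (hel : ∀ (E : Subgroup G) (p : ℕ), p.Prime → IsElementary p E → Nat.card E ∣ Nat.card H →
    ∃ g : G, cj(g, E) ≤ H)

include hel in
theorem bst_conj (hq : q.Prime) (hy : ¬ q ∣ orderOf y) (hy' : y ^ Nat.card H = 1)
    (hQ : IsPGroup q Q) (hQ' : Nat.card Q ∣ Nat.card H) (h : Q ≤ 𝒞₁(y)) :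
    ∃ g : G, cj(g, Subgroup.zpowers y ⊔ Q) ≤ H := by
  have := Fact.mk hq
  have h1 : (Nat.card (Subgroup.zpowers y)).Coprime q := by
    rw [H16.card_zpowers]; exact ((Nat.Prime.coprime_iff_not_dvd hq).2 hy).symm
  have h2 : Subgroup.zpowers y ≤ 𝒞(Q) := cent_comm (by rwa [cent_zpowers])
  refine hel _ q hq (isElementary_sup (H16.cyclic_zpowers y) h1 hQ h2)
    ((H16.card_sup_dvd (Or.inl (H16.norm_of_cent h2))).trans
      (Nat.Coprime.mul_dvd_of_dvd_of_dvd ?_ ?_ hQ'))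
  · obtain ⟨k, hk⟩ := IsPGroup.iff_card.1 hQ
    exact hk ▸ h1.pow_right k
  · rw [H16.card_zpowers]; exact orderOf_dvd_of_pow_eq_one hy'

include hel in
theorem bst_exists (hy : y ^ Nat.card H = 1) : ∃ h ∈ H, IsConj y h := by
  have := Fact.mk Nat.prime_two
  obtain ⟨a, ha⟩ := H19.exists_isPPart 2 y
  have h1 := H19.isPPart_mem_zpowers ha
  have h2 : ∀ z ∈ Subgroup.zpowers y, z ^ Nat.card H = 1 := fun z hz =>
    pow_eq_one_of_card_dvd (by rw [H16.card_zpowers]; exact orderOf_dvd_of_pow_eq_one hy) hz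
  obtain ⟨g, hg⟩ := bst_conj hel Nat.prime_two (H19.isPPart_preg ha)
    (h2 _ (mul_mem (inv_mem h1) (Subgroup.mem_zpowers y)))
    (H19.isPPart_isPElt ha).isPGroup_zpowers
    (by rw [H16.card_zpowers]; exact orderOf_dvd_of_pow_eq_one (h2 a h1))
    (Subgroup.zpowers_le.2 (H16.mem_cent1.2
      ((Commute.refl a).inv_right.mul_right (H19.isPPart_commute ha))))
  refine ⟨_, hg (H16.cj_mem ?_), isConj_iff.2 ⟨g, rfl⟩⟩
  simpa using mul_mem (Subgroup.mem_sup_right (Subgroup.mem_zpowers a))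
    (Subgroup.mem_sup_left (T := Subgroup.zpowers a) (Subgroup.mem_zpowers (a⁻¹ * y)))

include hc hfus hel in
/-- Isaacs (8.22) -/
theorem bs_transfer : ∃ K : Subgroup G, K.Normal ∧ K ⊔ H = ⊤ ∧ K ⊓ H = ⊥ := by
  classical
  have := Fintype.ofFinite G
  have hG : Nat.card G = H.index * Nat.card H := H.index_mul_card.symm
  obtain ⟨e, he, he'⟩ := exists_part_exp hc.symm
  choose r hr hr' using fun x : G => bst_exists hel (pow_pow_eq_one hG he x)
  have hH : ∀ h ∈ H, h ^ e = h := fun h hh =>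
    pow_eq_self_of_modEq he' (pow_eq_one_of_card_dvd dvd_rfl hh)
  have k1 : ∀ φ ∈ cf H, ∀ x, ∀ h ∈ H, IsConj (x ^ e) h → φ (r x) = φ h := fun φ hφ x h hh hx => by
    obtain ⟨a, ha, rfl⟩ := hfus _ (hr x) h hh ((hr' x).symm.trans hx)
    rw [cf_conj hφ _ ha]
  have k2 : ∀ φ ∈ cf H, IsClassFunction G (φ ∘ r) := fun φ hφ x a =>
    k1 φ hφ _ _ (hr x) (by rw [conj_pow]; exact (isConj_iff.2 ⟨a, rfl⟩).symm.trans (hr' x))
  have k3 : ∀ φ ∈ vchar H, φ ∘ r ∈ vchar ⊤ := fun φ hφ => by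
    have hφ' := vchar_cf hφ
    refine mem_vchar_top.2 (H19.isGen_of_mem_GC (H19.mem_GC_of_local le_rfl (k2 φ hφ')
      fun q hq y Q hy hQ hc' => ?_) fun σ k _ hσ g => ?_)
    · by_cases h : q ∣ H.index
      · have h1 := card_dvd_of_pgroup hG hq hQ
          (fun h' => hq.one_lt.ne' (Nat.eq_one_of_dvd_coprimes hc h' h))
        have : (fun u : Q => (φ ∘ r) (y * u)) = fun _ => φ (r y) := funext fun u =>
          k1 φ hφ' _ _ (hr y) (by
            rw [(show Commute y u from (H16.mem_cent1.1 (hc' u.2)).symm).mul_pow,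
              pow_eq_one_of_dvd' he (pow_eq_one_of_card_dvd h1 u.2), mul_one]
            exact hr' y)
        rw [this]
        exact H19.const_mem_GC (vchar_isIntegral hφ _)
      · have h1 := card_dvd_of_pgroup (hG.trans (mul_comm _ _)) hq hQ h
        have h2 : Q ≤ 𝒞₁(y ^ e) := fun u hu =>
          H16.mem_cent1.2 ((show Commute u y from H16.mem_cent1.1 (hc' hu)).pow_right e)
        obtain ⟨g, hg⟩ := bst_conj hel hq (fun h => hy (h.trans (orderOf_pow_dvd e)))
          (pow_pow_eq_one hG he y) hQ h1 h2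
        have h3 := H16.cj_le_iff.1 hg
        have h4 := shift_mem_GC (A := H19.ZB) le_rfl (cfj_mem_vchar g⁻¹ hφ)
          (h3 (Subgroup.mem_sup_left (Subgroup.mem_zpowers _))) (le_sup_right.trans h3) h2
        convert h4 using 2 with u
        have h5 : (y * u) ^ e = y ^ e * u := by
          rw [(show Commute y u from (H16.mem_cent1.1 (hc' u.2)).symm).mul_pow,
            pow_eq_self_of_modEq he' (pow_eq_one_of_card_dvd h1 u.2)]
        rw [Function.comp_apply, k1 φ hφ' _ (g * (y ^ e * u) * g⁻¹) (hg (H16.cj_mem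
          (Subgroup.mul_mem_sup (Subgroup.mem_zpowers _) u.2))) (h5 ▸ isConj_iff.2 ⟨g, rfl⟩)]
        simp
    · rw [Function.comp_apply, vchar_aut_apply σ hφ hσ (hr g) pow_card_eq_one']
      refine (k1 φ hφ' _ _ (pow_mem (hr g) k) ?_).symm
      rw [← pow_mul, mul_comm, pow_mul]
      exact (hr' g).pow k
  set c : G → ℕ := fun h => ((fs (H : Set G)).filter (IsConj h ·)).card with hcd
  set N : G → ℕ := fun h => (Finset.univ.filter fun x => IsConj (x ^ e) h).card with hN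
  have c1 : ∀ a b, IsConj a b → c a = c b := fun a b h => by
    simp only [hcd]
    congr 1
    exact Finset.filter_congr fun x _ => ⟨h.symm.trans, h.trans⟩
  have c2 : ∀ h ∈ H, 0 < c h := fun h hh =>
    Finset.card_pos.2 ⟨h, Finset.mem_filter.2 ⟨mem_fs.2 hh, IsConj.refl h⟩⟩
  have c3 : ∀ h ∈ H, 0 < N h := fun h hh =>
    Finset.card_pos.2 ⟨h, Finset.mem_filter.2 ⟨Finset.mem_univ _, by rw [hH h hh]⟩⟩
  set w : G → ℚ := fun h => Nat.card H * N h / (Nat.card G * c h) with hw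
  set ϑ : G → ℂ := Res (H : Set G) fun h => (w h : ℂ) with hϑ
  have d1 : ϑ ∈ cf H := mem_cf_of (Res_mem_supp _ _) fun x hx a ha => by
    have h1 : IsConj x (a * x * a⁻¹) := isConj_iff.2 ⟨a, rfl⟩
    rw [hϑ, Res_of_mem _ hx, Res_of_mem _ (mul_mem (mul_mem ha hx) (inv_mem ha))]
    simp only [hw, c1 _ _ h1, hN]
    rw [Finset.filter_congr fun y _ => ⟨fun h => h.trans h1.symm, fun h => h.trans h1⟩]
  have d2 : ∀ F ∈ cf H, dot H F ϑ = dot ⊤ (F ∘ r) (one ⊤) := fun F hF => by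
    have e1 : ∀ x, F (r x) =
        ∑ h ∈ fs (H : Set G), if IsConj (x ^ e) h then F h / c h else 0 := fun x => by
      rw [← Finset.sum_filter, Finset.sum_congr rfl (g := fun _ => F (r x) / c (x ^ e))
        (fun h hh => by
          obtain ⟨a, b⟩ := Finset.mem_filter.1 hh
          rw [k1 F hF x h (mem_fs.1 a) b, c1 _ _ b]), Finset.sum_const, nsmul_eq_mul]
      have : (c (x ^ e) : ℂ) ≠ 0 := by
        rw [c1 _ _ (hr' x)]; exact_mod_cast (c2 _ (hr x)).ne'
      field_simp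
      rfl
    rw [dot_one_right, sum_top_eq, dot_def, Subgroup.card_top]
    simp only [Function.comp_apply, e1]
    rw [Finset.sum_comm, Finset.mul_sum, Finset.mul_sum]
    refine Finset.sum_congr rfl fun h hh => ?_
    rw [← Finset.sum_filter, Finset.sum_const, nsmul_eq_mul, hϑ, Res_of_mem _ (mem_fs.1 hh),
      map_ratCast]
    have := card_ne H
    simp only [hw, hN]
    push_cast
    field_simp
  have d3 : ϑ ∈ vchar H := mem_vchar_of_dot d1 fun χ hχ => by
    obtain ⟨k, hk⟩ := vchar_dot_int (k3 χ (irr_vchar hχ)) (one_mem_vchar ⊤)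
    exact ⟨k, dot_symm_int ((d2 χ (irr_cf hχ)).trans hk)⟩
  have d4 : ∀ h ∈ H, 1 ≤ w h := fun h hh => by
    obtain ⟨k, hk⟩ := (mem_vchar_iff_res.1 d3).2.exists_int_of_rat (g := ⟨h, hh⟩) (q := w h)
      (Res_of_mem _ hh)
    have h1 : w h = k := by
      have : ((w h : ℚ) : ℂ) = k := (Res_of_mem _ hh).symm.trans hk
      exact_mod_cast this
    have h2 : 0 < w h := by
      have := c2 h hh
      have := c3 h hh
      have := H16.card_pos' H
      have : 0 < Nat.card G := Nat.card_pos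
      simp only [hw]
      positivity
    rw [h1] at h2 ⊢
    exact_mod_cast h2
  have d5 : ϑ = one H := by
    have h1 := d2 _ (one_mem_cf H)
    rw [show one H ∘ r = one ⊤ from funext fun x => by
      rw [Function.comp_apply, one_of_mem (hr x), one_of_mem (Subgroup.mem_top x)],
      dot_irr_self (one_mem_Irr ⊤)] at h1
    have h2 := dot_symm_nat (n := 1) (by rw [h1, Nat.cast_one])
    rw [dot_one_right, inv_mul_eq_iff_eq_mul₀ (card_ne H), sum_fs_congr (f := ϑ)
      (g := fun h : G => (w h : ℂ)) fun x hx => Res_of_mem (fun h => (w h : ℂ)) hx] at h2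
    have h3 : ∑ _h ∈ fs (H : Set G), (1 : ℚ) = ∑ h ∈ fs (H : Set G), w h := by
      rw [sum_sub_const, mul_one]
      rw [Nat.cast_one, mul_one] at h2
      exact_mod_cast h2.symm
    refine cf_ext d1 (one_mem_cf H) fun x hx => ?_
    rw [hϑ, Res_of_mem _ hx, one_of_mem hx, ← (Finset.sum_eq_sum_iff_of_le
      fun h hh => d4 h (mem_fs.1 hh)).1 h3 x (mem_fs.2 hx), Rat.cast_one]
  have r1 : r 1 = 1 := Eq.symm (by simpa using hr' 1)
  have d6 : ∀ φ ∈ Irr H, φ ∘ r ∈ Irr ⊤ := fun φ hφ => by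
    refine vchar_mem_Irr (k3 φ (irr_vchar hφ)) ?_ (by
      rw [Function.comp_apply, r1]; exact (irr_one_re_pos hφ).le)
    rw [dot_eq_dot_one, ← dot_irr_self hφ, dot_eq_dot_one (H := H), ← d5,
      d2 _ (mul_mem_cf (irr_cf hφ) (star_mem_cf (irr_cf hφ)))]
    rfl
  have d7 : IsChar ⊤ (reg H ∘ r) := by
    have : reg H ∘ r = ∑ φ ∈ Irr H, φ 1 • (φ ∘ r) := by
      rw [reg_eq_sum]; funext x; simp
    rw [this]
    refine isChar_sum _ _ fun φ hφ => ?_
    obtain ⟨k, -, hk⟩ := irr_pos_one hφ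
    exact hk ▸ (irr_char (d6 φ hφ)).natCast_smul k
  have d8 : ∀ x, x ∈ cfker (reg H ∘ r) ↔ x ^ e = 1 := fun x => by
    rw [d7.mem_cfker, Function.comp_apply, Function.comp_apply, r1]
    refine ⟨fun h => ?_, fun h => k1 _ (isChar_reg H).cf x 1 (one_mem _) (by rw [h])⟩
    by_contra h1
    rw [reg_of_ne H (fun h2 => h1 (by simpa [h2] using hr' x)), reg_one] at h
    exact card_ne H h.symm
  have hK := normal_of_top (le_norm_cfker d7.cf)
  refine ⟨_, hK, Subgroup.index_eq_one.1 (Nat.eq_one_of_dvd_coprimes (a := H.index)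
    (b := (cfker (reg H ∘ r)).index) (Nat.coprime_of_dvd fun q hq h1 h2 => ?_)
    (Subgroup.index_dvd_of_le le_sup_right) (Subgroup.index_dvd_of_le le_sup_left)),
    eq_bot_iff.2 fun x hx => (hH x hx.2).symm.trans ((d8 x).1 hx.1)⟩
  have := Fact.mk hq
  obtain ⟨y, hy⟩ := exists_prime_orderOf_dvd_card' (G := G ⧸ cfker (reg H ∘ r)) q h2
  obtain ⟨x, rfl⟩ := QuotientGroup.mk_surjective y
  have h3 : ((x ^ e : G) : G ⧸ cfker (reg H ∘ r)) = x := by
    rw [QuotientGroup.eq, d8, (Commute.pow_self x e).inv_left.mul_pow, inv_pow,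
      pow_eq_self_of_modEq he' (pow_pow_eq_one hG he x), inv_mul_cancel]
  rw [QuotientGroup.mk_pow, pow_eq_one_of_dvd' (h1.trans he) (hy ▸ pow_orderOf_eq_one _)] at h3
  rw [← h3, orderOf_one] at hy
  exact hq.one_lt.ne hy

end transfer

end H18
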