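import Cfsg.Agent.H18.Small
import Cfsg.Agent.H25.SymIdx
import Cfsg.Agent.H19.BS1
import Cfsg.Agent.S0678
import Cfsg.Agent.S0495
import Cfsg.Agent.S0998
import Cfsg.Agent.S5944

/-! Non-solvable subgroups of `A₈`. -/

set_option autoImplicit false
open Cfsg Subgroup MulAction Equiv

namespace H18.A8

theorem third {G : Type*} [Group G] [Finite G] (h : ¬ Group.IsSolvable G) {p q : ℕ} (hp : p.Prime)
    (hq : q.Prime) : ∃ r, r.Prime ∧ r ∣ Nat.card G ∧ r ≠ p ∧ r ≠ q := by
  by_contra! hn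
  exact h (H17.isSolvable_of_two_primes hp hq fun r a b => or_iff_not_imp_left.2 (hn r a b))

theorem prime_dvd {r a b c : ℕ} {p : ℕ} (hp : p.Prime) (hr : r.Prime) (h : r ∣ 2 ^ a * 3 ^ b * p ^ c) :
    r = 2 ∨ r = 3 ∨ r = p := by
  rw [hr.dvd_mul, hr.dvd_mul, or_assoc] at h
  exact h.imp (fun h => (Nat.prime_dvd_prime_iff_eq hr Nat.prime_two).1 (hr.dvd_of_dvd_pow h))
    (Or.imp (fun h => (Nat.prime_dvd_prime_iff_eq hr Nat.prime_three).1 (hr.dvd_of_dvd_pow h))
      fun h => (Nat.prime_dvd_prime_iff_eq hr hp).1 (hr.dvd_of_dvd_pow h))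

theorem three_dvd {G : Type*} [Group G] [Finite G] (h : ¬ Group.IsSolvable G) {a b c p : ℕ}
    (hp : p.Prime) (hd : Nat.card G ∣ 2 ^ a * 3 ^ b * p ^ c) : 3 ∣ Nat.card G ∧ p ∣ Nat.card G := by
  obtain ⟨r, r1, r2, r3, r4⟩ := third h Nat.prime_two hp
  obtain ⟨s, s1, s2, s3, s4⟩ := third h Nat.prime_two Nat.prime_three
  have := prime_dvd hp r1 (r2.trans hd)
  have := prime_dvd hp s1 (s2.trans hd)
  exact ⟨(show r = 3 by tauto) ▸ r2, (show s = p by tauto) ▸ s2⟩

theorem sixty_dvd {G : Type*} [Group G] [Finite G] (h : ¬ Group.IsSolvable G)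
    (hd : Nat.card G ∣ 720) : 60 ∣ Nat.card G := by
  have h1 := three_dvd h (a := 4) (b := 2) (c := 1) Nat.prime_five hd
  suffices 4 ∣ Nat.card G by omega
  by_contra h4
  obtain ⟨P⟩ : Nonempty (Sylow 2 G) := inferInstance
  obtain ⟨k, hk⟩ := P.2.exists_card_eq
  have : IsCyclic P := by
    refine isCyclic_of_card_dvd_prime (p := 2) ?_
    rcases k with _ | _ | k
    · exact hk.dvd.trans (by norm_num)
    · exact hk.dvd.trans (by norm_num)
    · exact (h4 (Dvd.dvd.trans ⟨2 ^ k, by ring⟩ (hk ▸ card_subgroup_dvd_card (P : Subgroup G)))).elim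
  obtain ⟨N, _, h2, h3⟩ := H19.exists_compl (H19.npc_of_isCyclic P this)
  have := h3.isNilpotent
  have : Group.IsSolvable N := H17.isSolvable_of_two_primes Nat.prime_three Nat.prime_five
    fun r a b => (prime_dvd (a := 4) (b := 2) (c := 1) Nat.prime_five a
      ((b.trans N.card_subgroup_dvd_card).trans hd)).resolve_left fun e => h2 (e ▸ b)
  exact h (H1.isSolvable_of_normal_quotient N inferInstance inferInstance)

theorem a5_of_sixty {G : Type*} [Group G] [Finite G] (h : ¬ Group.IsSolvable G)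
    (hd : Nat.card G = 60) : Nonempty (G ≃* alternatingGroup (Fin 5)) := by
  have : Nontrivial G := Finite.one_lt_card_iff_nontrivial.1 (by omega)
  have : IsSimpleGroup G := ⟨fun N _ => by
    have e := N.index_mul_card
    by_cases h1 : Group.IsSolvable N
    · have h2 := sixty_dvd (G := G ⧸ N) (fun h2 => h (H1.isSolvable_of_normal_quotient N h1 h2))
        (N.index_dvd_card.trans (by rw [hd]; norm_num))
      refine Or.inl (card_eq_one.1 ?_)
      obtain ⟨k, hk⟩ := h2
      rw [Subgroup.index, hk, hd, mul_assoc] at e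
      exact Nat.eq_one_of_mul_eq_one_left (by omega : k * Nat.card N = 1)
    · have h2 := sixty_dvd h1 (N.card_subgroup_dvd_card.trans (by rw [hd]; norm_num))
      exact Or.inr (eq_top_of_le_card N (hd ▸ Nat.le_of_dvd Nat.card_pos h2))⟩
  exact Agent.S0494.result hd

theorem sub_five (L : Subgroup (Perm (Fin 5))) (h : ¬ Group.IsSolvable L) :
    Nonempty (L ≃* alternatingGroup (Fin 5)) ∨ Nonempty (L ≃* Perm (Fin 5)) := by
  have c : Nat.card (Perm (Fin 5)) = 120 := by rw [Nat.card_perm, Nat.card_fin]; rfl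
  have h1 := L.card_subgroup_dvd_card
  rw [c] at h1
  obtain ⟨k, hk⟩ := sixty_dvd h (h1.trans (by norm_num))
  have h2 := Nat.le_of_dvd (by norm_num) h1
  have h3 : 0 < Nat.card L := Nat.card_pos
  obtain rfl | rfl : k = 1 ∨ k = 2 := by omega
  · exact Or.inl (a5_of_sixty h hk)
  · exact Or.inr ⟨(MulEquiv.subgroupCongr (eq_top_of_le_card L (by omega))).trans topEquiv⟩

theorem sub_six (L : Subgroup (Perm (Fin 6))) (h : ¬ Group.IsSolvable L) :
    Nonempty (L ≃* alternatingGroup (Fin 5)) ∨ Nonempty (L ≃* alternatingGroup (Fin 6)) ∨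
      Nonempty (L ≃* Perm (Fin 5)) ∨ Nonempty (L ≃* Perm (Fin 6)) := by
  have c : Nat.card (Perm (Fin 6)) = 720 := by rw [Nat.card_perm, Nat.card_fin]; rfl
  by_cases h1 : L = ⊤
  · exact Or.inr (Or.inr (Or.inr ⟨(MulEquiv.subgroupCongr h1).trans topEquiv⟩))
  by_cases h2 : L = alternatingGroup _
  · exact Or.inr (Or.inl ⟨MulEquiv.subgroupCongr h2⟩)
  have h3 := Agent.S5944.result 6 (by norm_num) L h1 h2
  obtain ⟨k, hk⟩ := sixty_dvd h (c ▸ L.card_subgroup_dvd_card)
  have e := L.index_mul_card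
  rw [c, hk] at e
  have k2 : k ≤ 2 := by nlinarith
  interval_cases k
  · omega
  · exact Or.inl (a5_of_sixty h hk)
  have hi : L.index = Nat.card (Fin 6) := by simp; omega
  classical
  have := Fintype.ofFinite (Perm (Fin 6) ⧸ L)
  obtain ⟨φ, hφ⟩ := H25.exists_mulEquiv_quotient (by simp) hi
  obtain ⟨ψ⟩ := H25.nonempty_stabilizer_equiv ((1 : Perm (Fin 6)) : Perm (Fin 6) ⧸ L) (n := 5)
    (hi.trans (by simp))
  have h4 := hφ ((1 : Perm (Fin 6)) : Perm (Fin 6) ⧸ L)
  rw [stabilizer_quotient] at h4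
  exact Or.inr (Or.inr (Or.inl ⟨(MulEquiv.subgroupCongr h4.symm).trans
    ((equivMapOfInjective _ _ φ.symm.injective).symm.trans ψ)⟩))

theorem even_small {α : Type*} [Fintype α] [DecidableEq α] {g : Perm α} (h : g.sign = 1)
    (h2 : g.support.card ≤ 2) : g = 1 := by
  rcases h2.eq_or_lt with e | e
  · have := (Perm.card_support_eq_two.1 e).sign_eq
    rw [h] at this
    exact absurd this (by decide)
  · exact Perm.card_support_le_one.1 (by omega)

theorem norm_seven {P : Subgroup (Perm (Fin 8))} (hP : Nat.card P = 7) {t : Perm (Fin 8)}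
    (h1 : t.sign = 1) (h2 : t * t = 1) (h3 : ∀ x ∈ P, t * x * t⁻¹ ∈ P) : t = 1 := by
  have : Fact (Nat.Prime 7) := ⟨by norm_num⟩
  obtain ⟨⟨g, gP⟩, hg⟩ := exists_prime_orderOf_dvd_card' (G := P) 7 hP.symm.dvd
  rw [← orderOf_coe] at hg
  have cy := Perm.isCycle_of_prime_order' (σ := g) (hg ▸ this.out) (by simp [hg])
  have s7 : g.support.card = 7 := cy.orderOf.symm.trans hg
  have gen : ∀ h ∈ P, h ≠ 1 → ∀ x ∈ P, x ∈ zpowers h := fun h a b x c => by
    obtain ⟨k, hk⟩ := mem_zpowers_of_prime_card hP (g := ⟨h, a⟩) (g' := ⟨x, c⟩)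
      fun e => b (congrArg Subtype.val e)
    exact ⟨k, congrArg Subtype.val hk⟩
  have fx : ∀ h ∈ P, h ≠ 1 → ∀ x ∈ P, ∀ a, h a = a → x a = a := fun h b c x d a e => by
    obtain ⟨k, rfl⟩ := gen h b c x d
    exact Perm.zpow_apply_eq_self_of_apply_eq_self e k
  have g1 : g ≠ 1 := cy.ne_one
  have ti : t⁻¹ = t := inv_eq_of_mul_eq_one_right h2
  obtain ⟨w, hw⟩ : ∃ w, g.supportᶜ = {w} := Finset.card_eq_one.1 (by simp [Finset.card_compl, s7])
  have hw' : ∀ x, g x = x ↔ x = w := fun x => by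
    rw [← Finset.mem_singleton (a := w), ← hw, Finset.mem_compl, Perm.notMem_support]
  have tw : t w = w := (hw' _).1 (by
    have := fx g gP g1 _ (h3 g gP) w ((hw' w).2 rfl)
    rwa [Perm.mul_apply, Perm.mul_apply, ← Perm.eq_inv_iff_eq, ti] at this)
  have c4 : t.support.card ≤ 4 := by
    have e := Perm.sign_of_cycleType t
    have e2 := Perm.cycleType_of_pow_prime_eq_one (p := 2) ((pow_two t).trans h2)
    have e3 := t.sum_cycleType
    have e4 : t.support.card < 8 := by
      simpa using Finset.card_lt_univ_of_notMem (Perm.notMem_support.2 tw)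
    rw [e2, Multiset.sum_replicate, smul_eq_mul] at e3
    rw [h1, ← t.sum_cycleType.symm, ← e3] at e
    generalize t.cycleType.card = m at e e3
    by_contra h
    obtain rfl : m = 3 := by omega
    exact absurd e (by decide)
  obtain ⟨a, ha, b, hb, ab⟩ := Finset.one_lt_card.1 (show 1 < (g.support \ t.support).card by
    have := Finset.le_card_sdiff t.support g.support
    omega)
  simp only [Finset.mem_sdiff, Perm.mem_support, not_not] at ha hb
  obtain ⟨i, hi⟩ := cy.exists_zpow_eq ha.1 hb.1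
  have m : g ^ i ∈ P := zpow_mem gP i
  have c : t * g ^ i * t⁻¹ = g ^ i := by
    rw [← inv_mul_eq_one]
    by_contra e
    refine ha.1 (fx _ (mul_mem (inv_mem (h3 _ m)) m) e g gP a ?_)
    rw [Perm.mul_apply, hi, Perm.inv_eq_iff_eq, ti, Perm.mul_apply, Perm.mul_apply, ha.2, hi, hb.2]
  have c1 : Commute (g ^ i) t := (mul_inv_eq_iff_eq_mul.1 c).symm
  ext x
  by_cases hx : g x = x
  · rw [(hw' x).1 hx, tw, Perm.one_apply]
  obtain ⟨j, rfl⟩ := cy.exists_zpow_eq ha.1 hx
  obtain ⟨k, hk⟩ := gen _ m (fun e => ab (by rw [← hi, e, Perm.one_apply])) _ (zpow_mem gP j)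
  rw [← Perm.mul_apply, ← hk, ← (c1.zpow_left k).eq, Perm.mul_apply, ha.2, Perm.one_apply]

theorem prim_of_large {G α : Type*} [Group G] [Finite α] [MulAction G α] [FaithfulSMul G α]
    [IsPretransitive G α] {g : G} (hp : (orderOf g).Prime) (h : Nat.card α < 2 * orderOf g) :
    IsPreprimitive G α := by
  obtain ⟨x, hx⟩ : ∃ x : α, g • x ≠ x := by
    by_contra! hn
    rw [eq_of_smul_eq_smul (m₂ := (1 : G)) fun x => (hn x).trans (one_smul _ x).symm, orderOf_one] at hp
    exact Nat.not_prime_one hp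
  have c : (orbit (zpowers g) x).ncard = orderOf g := by
    rw [← index_stabilizer]
    refine ((Nat.dvd_prime hp).1 (Nat.card_zpowers g ▸ index_dvd_card _)).resolve_left fun e => hx ?_
    exact ((index_eq_one.1 e).ge (mem_top ⟨g, mem_zpowers g⟩) :)
  have : IsPreprimitive (zpowers g) (orbit (zpowers g) x) := IsPreprimitive.of_prime_card (by
    rwa [Nat.card_coe_set_eq, c])
  let f : orbit (zpowers g) x →ₑ[(Subtype.val : zpowers g → G)] α := ⟨Subtype.val, fun _ _ => rfl⟩
  exact IsPreprimitive.of_card_lt (f := f) (by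
    rw [show Set.range f = orbit (zpowers g) x from Subtype.range_val, c]; exact h)

theorem trans8 (H : Subgroup (Perm (Fin 8))) [IsPretransitive H (Fin 8)]
    (hA : H ≤ alternatingGroup _) (hs : ¬ Group.IsSolvable H) (hO : pCore 2 H = ⊥) :
    H = alternatingGroup _ ∨ (IsSimpleGroup H ∧ Nat.card H = 168) := by
  refine or_iff_not_imp_left.2 fun h1 => ?_
  have c : Nat.card (Perm (Fin 8)) = 40320 := by rw [Nat.card_perm, Nat.card_fin]; rfl
  have pr : IsPreprimitive H (Fin 8) := by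
    obtain ⟨r, r1, r2, r3, r4⟩ := third hs Nat.prime_two Nat.prime_three
    have := Fact.mk r1
    obtain ⟨g, hg⟩ := exists_prime_orderOf_dvd_card' r r2
    have := r1.five_le_of_ne_two_of_ne_three r3 r4
    exact prim_of_large (hg ▸ r1) (by simp; omega)
  have i3 : 3 ∣ H.index := by_contra fun h => h1 (le_antisymm hA
    (H25.alt_le_of_not_dvd_index H pr Nat.prime_three (by simp) (by simp) h))
  have i5 : 5 ∣ H.index := by_contra fun h => h1 (le_antisymm hA
    (H25.alt_le_of_not_dvd_index H pr Nat.prime_five (by simp) (by simp) h))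
  obtain ⟨i, hi⟩ : 15 ∣ H.index := by omega
  have e := H.index_mul_card
  rw [c, hi] at e
  have d : Nat.card H ∣ 2 ^ 7 * 3 ^ 1 * 7 ^ 1 := ⟨i, by linarith⟩
  have p7 : Fact (Nat.Prime 7) := ⟨by norm_num⟩
  have key : ∀ N : Subgroup H, ¬ Group.IsSolvable N → ∃ k, Nat.card N = 21 * 2 ^ k := fun N h => by
    have d' := N.card_subgroup_dvd_card.trans d
    obtain ⟨m, hm⟩ : 21 ∣ Nat.card N := by
      have := three_dvd h p7.out d'
      omega
    rw [hm] at d'
    obtain ⟨k, -, rfl⟩ := (Nat.dvd_prime_pow Nat.prime_two (m := 7)).1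
      (Nat.dvd_of_mul_dvd_mul_left (k := 21) (by norm_num) d')
    exact ⟨k, hm⟩
  obtain ⟨k, hk⟩ := key ⊤ fun h => hs (Group.isSolvable_of_surjective
    (f := (⊤ : Subgroup H).subtype) fun x => ⟨⟨x, trivial⟩, rfl⟩)
  rw [card_top] at hk
  have : Nontrivial H := Finite.one_lt_card_iff_nontrivial.1 (by have := Nat.one_le_two_pow (n := k); omega)
  have si : IsSimpleGroup H := ⟨fun N _ => or_iff_not_imp_left.2 fun h0 => by
    by_cases h : Group.IsSolvable N
    · have := (nontrivial_iff_ne_bot N).2 h0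
      obtain ⟨p, hp, h2⟩ := H1.exists_pCore_ne_bot (G := N)
      have h3 : pCore p H ≠ ⊥ := fun e => h2 ((map_eq_bot_iff_of_injective _ N.subtype_injective).1
        (le_bot_iff.1 (e ▸ H1.map_pCore_subtype_le p N)))
      have := H25.normal_transitive_of_primitive (α := Fin 8) _ h3
      have h4 := index_dvd_card (stabilizer (pCore p H) (0 : Fin 8))
      have := Fact.mk hp
      obtain ⟨j, hj⟩ := (H1.isPGroup_pCore (G := H) p).exists_card_eq
      rw [index_stabilizer_of_transitive, hj] at h4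
      obtain rfl := (Nat.prime_dvd_prime_iff_eq Nat.prime_two hp).1
        (Nat.prime_two.dvd_of_dvd_pow (Dvd.dvd.trans (by simp) h4))
      exact (h3 hO).elim
    obtain ⟨j, hj⟩ := key N h
    obtain ⟨P⟩ : Nonempty (Sylow 7 N) := inferInstance
    have h2 := P.normalizer_sup_eq_top
    have h3 : Nat.card P = 7 := H25.card_sylow_eq_prime (hj ▸ Dvd.dvd.mul_right (by norm_num) _)
      (fun h => absurd (h.trans (N.card_subgroup_dvd_card.trans d)) (by norm_num)) P
    have h4 : ¬ 2 ∣ Nat.card (normalizer (((P : Subgroup N).map N.subtype : Subgroup H) : Set H)) :=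
      fun h4 => by
        obtain ⟨⟨t, ht⟩, ot⟩ := exists_prime_orderOf_dvd_card' 2 h4
        rw [← orderOf_coe, ← orderOf_coe] at ot
        have := norm_seven (P := ((P : Subgroup N).map N.subtype).map H.subtype) (t := t) (by
          rw [card_map_of_injective H.subtype_injective, card_map_of_injective N.subtype_injective,
            h3]) (hA t.2) ((pow_two _).symm.trans (orderOf_dvd_iff_pow_eq_one.1 ot.dvd))
          (by rintro _ ⟨x, hx, rfl⟩; exact ⟨t * x * t⁻¹, (ht x).1 hx, rfl⟩)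
        simp [this] at ot
    have h5 := relIndex_sup_right (normalizer (((P : Subgroup N).map N.subtype : Subgroup H) : Set H)) N
    rw [h2, relIndex_top_right] at h5
    have h6 : N.index ∣ 2 ^ k := by
      have := N.index_mul_card
      rw [hk, hj] at this
      exact ⟨2 ^ j, by linarith⟩
    obtain ⟨_ | l, -, hl⟩ := (Nat.dvd_prime_pow Nat.prime_two).1 h6
    · exact index_eq_one.1 hl
    · exact (h4 (((dvd_pow_self 2 l.succ_ne_zero).trans (hl.symm.trans h5).dvd).trans
        (relIndex_dvd_card _ _))).elim⟩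
  refine ⟨si, ?_⟩
  rcases Agent.S0998.result (G := H) (fun h => hs inferInstance) 3 2 7 k Nat.prime_three
    Nat.prime_two p7.out (by norm_num) (by norm_num) (by norm_num) hk with
    ⟨F, _, _, h, ⟨f⟩⟩ | ⟨F, _, _, h, ⟨f⟩⟩ <;>
  · have := H4.card_psl (F := F)
    rw [h, ← Nat.card_congr f.toEquiv] at this
    norm_num at this
    omega

theorem exists_orbit {α : Type*} [Finite α] (H : Subgroup (Perm α)) (hs : ¬ Group.IsSolvable H) :
    ∃ x : α, ¬ Group.IsSolvable (toPermHom H (orbit H x)).range := by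
  by_contra! hn
  choose n hn using fun x => (hn x).solvable
  have := Fintype.ofFinite α
  refine hs ⟨⟨Finset.univ.sup n, eq_bot_iff.2 fun g hg => Subtype.ext (Equiv.ext fun x => ?_)⟩⟩
  have h1 := map_derivedSeries_le_derivedSeries (toPermHom H (orbit H x)).rangeRestrict (n x)
    ⟨g, derivedSeries_antitone _ (Finset.le_sup (Finset.mem_univ x)) hg, rfl⟩
  rw [hn] at h1
  exact congrArg (fun σ : (toPermHom H (orbit H x)).range => ((σ.1 ⟨x, mem_orbit_self x⟩).1)) h1

theorem sub_a8 (H : Subgroup (Perm (Fin 8))) (hA : H ≤ alternatingGroup _)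
    (hs : ¬ Group.IsSolvable H) (hO : pCore 2 H = ⊥) :
    (IsSimpleGroup H ∧ Nat.card H = 168) ∨
    (∃ n : ℕ, 5 ≤ n ∧ n ≤ 8 ∧ Nonempty (H ≃* alternatingGroup (Fin n))) ∨
    Nonempty (H ≃* Perm (Fin 5)) ∨ Nonempty (H ≃* Perm (Fin 6)) ∨
    ∃ (N : Subgroup H) (_ : N.Normal), Nat.card N = 3 ∧
      (Nonempty (H ⧸ N ≃* alternatingGroup (Fin 5)) ∨ Nonempty (H ⧸ N ≃* Perm (Fin 5))) := by
  classical
  obtain ⟨x, hx⟩ := exists_orbit H hs
  set ρ := toPermHom H (orbit H x)
  obtain ⟨n, hn⟩ : ∃ n, Fintype.card (orbit H x) = n := ⟨_, rfl⟩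
  let e := Fintype.equivFinOfCardEq hn
  let L := ρ.range.map (e.permCongrHom : Perm (orbit H x) →* Perm (Fin n))
  let eL : ρ.range ≃* L := e.permCongrHom.subgroupMap _
  have hL : ¬ Group.IsSolvable L := fun h =>
    hx (Group.isSolvable_of_surjective (f := eL.symm.toMonoidHom) eL.symm.surjective)
  have n8 : n ≤ 8 := by simpa only [hn, Fintype.card_fin] using set_fintype_card_le_univ (orbit H x)
  have n5 : 5 ≤ n := by
    obtain ⟨r, r1, r2, r3, r4⟩ := third hL Nat.prime_two Nat.prime_three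
    have := r1.five_le_of_ne_two_of_ne_three r3 r4
    have h := r2.trans L.card_subgroup_dvd_card
    rw [Nat.card_perm, Nat.card_fin, r1.dvd_factorial] at h
    omega
  have cc : (orbit H x).toFinsetᶜ.card = 8 - n := by simp [Finset.card_compl, ← hn]
  have sp : ∀ g ∈ ρ.ker, (g : Perm (Fin 8)).support ⊆ (orbit H x).toFinsetᶜ := fun g hg y hy => by
    rw [Finset.mem_compl, Set.mem_toFinset]
    exact fun h => Perm.mem_support.1 hy (congrArg (fun σ : Perm (orbit H x) => (σ ⟨y, h⟩).1) hg)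
  have q := (QuotientGroup.quotientKerEquivRange ρ).trans eL
  have inj : ρ.ker = ⊥ → Nonempty (H ≃* L) := fun h =>
    ⟨(MonoidHom.ofInjective (ρ.ker_eq_bot_iff.1 h)).trans eL⟩
  have k6 : 6 ≤ n → ρ.ker = ⊥ := fun h => eq_bot_iff.2 fun g hg => Subtype.ext
    (even_small (hA g.2) ((Finset.card_le_card (sp g hg)).trans (by omega)))
  interval_cases n
  · by_cases h : ρ.ker = ⊥
    · obtain ⟨f⟩ := inj h
      rcases sub_five L hL with ⟨⟨f'⟩⟩ | ⟨⟨f'⟩⟩
      · exact Or.inr (Or.inl ⟨5, le_rfl, by norm_num, ⟨f.trans f'⟩⟩)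
      · exact Or.inr (Or.inr (Or.inl ⟨f.trans f'⟩))
    refine Or.inr (Or.inr (Or.inr (Or.inr ⟨ρ.ker, inferInstance, ?_,
      (sub_five L hL).imp (Nonempty.map q.trans) (Nonempty.map q.trans)⟩)))
    obtain ⟨⟨g, hg⟩, g1⟩ := ne_bot_iff_exists_ne_one.1 h
    have s3 : (g : Perm (Fin 8)).support.card = 3 :=
      le_antisymm ((Finset.card_le_card (sp g hg)).trans cc.le) (not_le.1 fun h =>
        g1 (Subtype.ext (Subtype.ext (even_small (hA g.2) h))))
    have d := orderOf_dvd_natCard (⟨g, hg⟩ : ρ.ker)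
    rw [← orderOf_coe, ← orderOf_coe, (card_support_eq_three_iff.1 s3).orderOf] at d
    obtain ⟨a, ha⟩ := Finset.card_pos.1 (cc.symm ▸ by norm_num : 0 < (orbit H x).toFinsetᶜ.card)
    have l : Nat.card ρ.ker ≤ Nat.card ((orbit H x).toFinsetᶜ : Finset _) := by
      refine Nat.card_le_card_of_injective (fun k => ⟨k.1.1 a, ?_⟩) fun k k' h => ?_
      · rw [Finset.mem_compl, Set.mem_toFinset] at ha ⊢
        exact fun h => ha (inv_smul_smul k.1 a ▸ mem_orbit_of_mem_orbit k.1⁻¹ h)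
      · rw [← inv_mul_eq_one]
        refine Subtype.ext (Subtype.ext (even_small (hA (k⁻¹ * k').1.2) ?_))
        have := Finset.card_lt_card (Finset.ssubset_iff_of_subset (sp _ (k⁻¹ * k').2) |>.2 ⟨a, ha,
          Perm.notMem_support.2 (Perm.inv_eq_iff_eq.2 (congrArg Subtype.val h).symm)⟩)
        omega
    rw [Nat.card_eq_finsetCard, cc] at l
    have := Nat.le_of_dvd Nat.card_pos d
    omega
  · obtain ⟨f⟩ := inj (k6 le_rfl)
    rcases sub_six L hL with ⟨⟨f'⟩⟩ | ⟨⟨f'⟩⟩ | ⟨⟨f'⟩⟩ | ⟨⟨f'⟩⟩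
    · exact Or.inr (Or.inl ⟨5, le_rfl, by norm_num, ⟨f.trans f'⟩⟩)
    · exact Or.inr (Or.inl ⟨6, by norm_num, by norm_num, ⟨f.trans f'⟩⟩)
    · exact Or.inr (Or.inr (Or.inl ⟨f.trans f'⟩))
    · exact Or.inr (Or.inr (Or.inr (Or.inl ⟨f.trans f'⟩)))
  · obtain ⟨f⟩ := inj (k6 (by norm_num))
    have : IsPretransitive ρ.range (orbit H x) := ⟨fun a b => by
      obtain ⟨g, hg⟩ := exists_smul_eq H a b
      exact ⟨⟨ρ g, g, rfl⟩, hg⟩⟩
    have f' := f.trans eL.symm
    by_cases h : alternatingGroup _ ≤ ρ.range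
    · have := Fintype.one_lt_card_iff_nontrivial.1 (show 1 < Fintype.card (orbit H x) by omega)
      have h1 := index_dvd_of_le h
      rw [alternatingGroup.index_eq_two] at h1
      rcases (Nat.dvd_prime Nat.prime_two).1 h1 with h1 | h1
      · have h2 := H.index_mul_card
        rw [Nat.card_congr f'.toEquiv, index_eq_one.1 h1, card_top, Nat.card_perm, Nat.card_perm,
          Nat.card_eq_fintype_card, hn, Nat.card_fin] at h2
        obtain ⟨a, ha⟩ := H25.eq_stabilizer_of_index (H := H) (by simp) (by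
          norm_num [Nat.factorial] at h2 ⊢; omega)
        obtain ⟨b, c, h3, h4⟩ := (by decide : ∀ a : Fin 8, ∃ b c, b ≠ c ∧ swap b c a = a) a
        have := hA (ha.ge (show swap b c ∈ stabilizer (Perm (Fin 8)) a from h4))
        rw [Perm.mem_alternatingGroup, Perm.sign_swap h3] at this
        exact absurd this (by decide)
      · exact Or.inr (Or.inl ⟨7, by norm_num, by norm_num, ⟨f'.trans ((MulEquiv.subgroupCongr
          (Perm.eq_alternatingGroup_of_index_eq_two h1)).trans e.altCongrHom)⟩⟩)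
    · obtain ⟨h1, h2⟩ := Agent.S0678.result hn ρ.range hx h
      exact Or.inl ⟨f'.isSimpleGroup, (Nat.card_congr f'.toEquiv).trans h1⟩
  · have : IsPretransitive H (Fin 8) := (isPretransitive_iff_orbit_eq_univ x).2
      (Set.toFinset_eq_univ.1 (by simpa using cc))
    rcases trans8 H hA hs hO with h | h
    · exact Or.inr (Or.inl ⟨8, by norm_num, le_rfl, ⟨MulEquiv.subgroupCongr h⟩⟩)
    · exact Or.inl h

theorem emb_a8 {G : Type*} [Group G] [Finite G] (f : G →* alternatingGroup (Fin 8))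
    (hf : Function.Injective f) (hs : ¬ Group.IsSolvable G) (hO : pCore 2 G = ⊥) :
    (IsSimpleGroup G ∧ Nat.card G = 168) ∨
    (∃ n : ℕ, 5 ≤ n ∧ n ≤ 8 ∧ Nonempty (G ≃* alternatingGroup (Fin n))) ∨
    Nonempty (G ≃* Perm (Fin 5)) ∨ Nonempty (G ≃* Perm (Fin 6)) ∨
    ∃ (N : Subgroup G) (_ : N.Normal), Nat.card N = 3 ∧
      (Nonempty (G ⧸ N ≃* alternatingGroup (Fin 5)) ∨ Nonempty (G ⧸ N ≃* Perm (Fin 5))) := by
  let e := MonoidHom.ofInjective (f := (alternatingGroup _).subtype.comp f)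
    ((subtype_injective _).comp hf)
  rcases sub_a8 ((alternatingGroup _).subtype.comp f).range (by rintro _ ⟨g, rfl⟩; exact (f g).2)
    (fun h => hs (Group.isSolvable_of_surjective (f := e.symm.toMonoidHom) e.symm.surjective))
    (by rw [← H1.map_pCore_equiv 2 e, hO, Subgroup.map_bot]) with h | ⟨n, h1, h2, h⟩ | h | h | ⟨N, _, h1, h⟩
  · exact Or.inl ⟨have := h.1; e.isSimpleGroup, (Nat.card_congr e.toEquiv).trans h.2⟩
  · exact Or.inr (Or.inl ⟨n, h1, h2, h.map e.trans⟩)
  · exact Or.inr (Or.inr (Or.inl (h.map e.trans)))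
  · exact Or.inr (Or.inr (Or.inr (Or.inl (h.map e.trans))))
  · have : (N.map (e.symm : _ →* G)).Normal := ‹N.Normal›.map _ e.symm.surjective
    have q := (QuotientGroup.congr N _ e.symm rfl).symm
    exact Or.inr (Or.inr (Or.inr (Or.inr ⟨_, this, by
      rw [card_map_of_injective e.symm.injective, h1],
      h.imp (Nonempty.map q.trans) (Nonempty.map q.trans)⟩)))

theorem sl3_of_simple {G : Type*} [Group G] [Finite G] [IsSimpleGroup G] (h : Nat.card G = 168) :
    Nonempty (G ≃* Matrix.SpecialLinearGroup (Fin 3) (ZMod 2)) := by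
  have : Fact (Nat.Prime 7) := ⟨by norm_num⟩
  obtain ⟨e1⟩ := Agent.S0495.result h (F := ZMod 7) (by simp)
  exact (H18.psl_sl3 (F := ZMod 7) (by simp)).map e1.trans

theorem sl3_gl3 : Nonempty (Matrix.SpecialLinearGroup (Fin 3) (ZMod 2) ≃* GL (Fin 3) (ZMod 2)) :=
  ⟨MulEquiv.ofBijective Matrix.SpecialLinearGroup.toGL ⟨Matrix.SpecialLinearGroup.toGL_injective,
    fun g => ⟨⟨g, (by decide : ∀ a b : ZMod 2, a * b = 1 → a = 1) _ (g⁻¹).1.det (by
      rw [← Matrix.det_mul, Units.mul_inv, Matrix.det_one])⟩, Units.ext rfl⟩⟩⟩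

end H18.A8
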