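import Cfsg.Agent.H3.Transv
import Cfsg.Agent.H13.SimpleGrp
import Cfsg.Agent.H9.Basic

/-! Fusion systems over a `p`-group with an extraspecial subgroup of index `p`. -/

set_option autoImplicit false
set_option linter.unusedSectionVars false

open Cfsg Cfsg.FusionSystem Equiv H13 H3
open Subgroup (zpowers mem_zpowers)
open scoped commutatorElement

namespace H18.FX

variable {Ω : Type*} [Group Ω] {p : ℕ} [hp : Fact p.Prime] {S Q : Subgroup Ω} [Finite S] {z : Ω}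

structure XS (p : ℕ) (S Q : Subgroup Ω) (z : Ω) : Prop where
  pg : IsPGroup p S
  le : Q ≤ S
  mem : z ∈ Q
  ord : orderOf z = p
  cent : ∀ g ∈ S, Commute g z
  comm : ∀ a ∈ Q, ∀ b ∈ Q, ⁅a, b⁆ ∈ zpowers z
  zq : ∀ x ∈ Q, (∀ a ∈ Q, Commute a x) → x ∈ zpowers z
  der : z ∈ ⁅Q, Q⁆
  card : Nat.card S = p * Nat.card Q

theorem exists_xs (hS : IsPGroup p S) (hQS : Q ≤ S) (hQ : IsExtraspecial p Q)
    (hQi : (Q.subgroupOf S).index = p) : ∃ z, XS p S Q z := by
  have := finite_of_le hQS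
  have hn : (Q.subgroupOf S).Normal := H9.normal_of_index_eq_prime hS hQi
  have hN := (normal_subgroupOf_iff hQS).1 hn
  set T := (Subgroup.center Q).map Q.subtype with hT
  have hTm : ∀ x, x ∈ T ↔ x ∈ Q ∧ ∀ a ∈ Q, Commute a x := by
    intro x
    constructor
    · rintro ⟨y, hy, rfl⟩
      exact ⟨y.2, fun a ha => congrArg Subtype.val (Subgroup.mem_center_iff.1 hy ⟨a, ha⟩)⟩
    · rintro ⟨h1, h2⟩
      exact ⟨⟨x, h1⟩, Subgroup.mem_center_iff.2 fun a => Subtype.ext (h2 a a.2), rfl⟩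
  have hTc : Nat.card T = p := by
    rw [hT, Subgroup.card_map_of_injective Q.subtype_injective, hQ.2]
  have hTQ : T ≤ Q := fun x hx => ((hTm x).1 hx).1
  have := finite_of_le hTQ
  obtain ⟨z, hz, ho, hc⟩ := exists_central_mem hS (hTQ.trans hQS)
    (by intro h; rw [h, Subgroup.card_bot] at hTc; exact hp.out.one_lt.ne hTc)
    (fun x hx g hg => by
      obtain ⟨h1, h2⟩ := (hTm x).1 hx
      refine (hTm _).2 ⟨conj_mem_of_normalizer (hN hg) h1, fun a ha => ?_⟩
      have h3 := h2 _ (conj_mem_of_normalizer' (hN hg) ha)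
      have h4 : a * (g * x * g⁻¹) = g * ((g⁻¹ * a * g) * x) * g⁻¹ := by group
      show a * (g * x * g⁻¹) = g * x * g⁻¹ * a
      rw [h4, h3.eq]; group)
  have hzT : zpowers z = T := eq_of_le_of_card_le (Subgroup.zpowers_le.2 hz)
    (by rw [hTc, Nat.card_zpowers, ho])
  have hD : ⁅Q, Q⁆ = T := by rw [hT, ← hQ.1.2.2, Subgroup.map_subtype_commutator]
  refine ⟨z, hS, hQS, hTQ hz, ho, hc, fun a ha b hb => ?_, fun x hx h => ?_, hD ▸ hz, ?_⟩
  · rw [hzT, ← hD]; exact Subgroup.commutator_mem_commutator ha hb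
  · rw [hzT]; exact (hTm x).2 ⟨hx, h⟩
  · have h1 := (Q.subgroupOf S).card_mul_index
    rw [hQi, Nat.card_congr (Subgroup.subgroupOfEquivOfLe hQS).toEquiv] at h1
    rw [← h1, mul_comm]

theorem XS.zp (h : XS p S Q z) : z ^ p = 1 := by rw [← h.ord, pow_orderOf_eq_one]

theorem XS.zne (h : XS p S Q z) : z ≠ 1 := by
  rintro rfl
  exact hp.out.one_lt.ne (by simpa using h.ord)

theorem XS.cz (h : XS p S Q z) {g c : Ω} (hg : g ∈ S) (hc : c ∈ zpowers z) : Commute g c := by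
  obtain ⟨k, rfl⟩ := hc
  exact (h.cent g hg).zpow_right k

theorem mul_card_le_of_lt {E C : Subgroup Ω} [Finite C] (hC : IsPGroup p C) (h : E < C) :
    p * Nat.card E ≤ Nat.card C := by
  have h1 := card_mul_relIndex h.le
  have h2 : E.relIndex C ≠ 1 := by rw [Ne, Subgroup.relIndex_eq_one]; exact h.not_ge
  obtain ⟨n, hn⟩ := IsPGroup.iff_card.1 hC
  have h3 : E.relIndex C ∣ p ^ n := hn ▸ Dvd.intro_left _ h1
  obtain ⟨k, -, hk⟩ := (Nat.dvd_prime_pow hp.out).1 h3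
  have h4 : p ≤ E.relIndex C := by
    rw [hk]
    refine Nat.le_self_pow ?_ p
    rintro rfl
    exact h2 (by simpa using hk)
  rw [← h1, mul_comm]
  exact Nat.mul_le_mul_left _ h4

theorem XS.card_le (h : XS p S Q z) {K : Subgroup Ω} (hK : K ≤ Q) {w : Ω} (hw : w ∈ Q) :
    Nat.card K ≤ p * Nat.card (K ⊓ Subgroup.centralizer {w} : Subgroup Ω) := by
  have := finite_of_le (hK.trans h.le)
  have hf : HomOn K (fun q => ⁅q, w⁆) := by
    intro a ha b hb
    have h1 := h.cz (h.le (hK ha)) (h.comm _ (hK hb) _ hw)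
    have h2 := h.cz (h.le (Q.mul_mem (Q.mul_mem (hK ha) hw) (Q.inv_mem (hK ha))))
      (h.comm _ (hK hb) _ hw)
    have h3 := h.cz (h.le (Q.inv_mem hw)) (h.comm _ (hK hb) _ hw)
    show ⁅a * b, w⁆ = ⁅a, w⁆ * ⁅b, w⁆
    have e1 : ⁅a * b, w⁆ = a * ⁅b, w⁆ * a⁻¹ * ⁅a, w⁆ := by simp only [commutatorElement_def]; group
    rw [e1, h1.eq, mul_inv_cancel_right]
    exact (h.cz (h.le (Q.mul_mem (Q.mul_mem (Q.mul_mem (hK hb) hw) (Q.inv_mem (hK hb)))
      (Q.inv_mem hw))) (h.comm _ (hK ha) _ hw)).eq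
  have h1 := hf.card_eq_card_pre_bot_mul
  have hzf : Finite (zpowers z) := finite_of_le ((Subgroup.zpowers_le.2 h.mem).trans h.le)
  have h2 : Nat.card (img (fun q => ⁅q, w⁆) K) ≤ p := by
    rw [← h.ord, ← Nat.card_zpowers]
    exact card_le_of_le (img_le_iff.2 fun x hx => h.comm _ (hK hx) _ hw)
  have h3 : pre K (fun q => ⁅q, w⁆) ⊥ = K ⊓ Subgroup.centralizer {w} := by
    ext x
    rw [hf.mem_pre, Subgroup.mem_bot, Subgroup.mem_inf, Subgroup.mem_centralizer_singleton_iff,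
      commutatorElement_eq_one_iff_mul_comm]
  rw [h1, h3, mul_comm]
  exact Nat.mul_le_mul_right _ h2

def chain3 (T1 T2 P : Subgroup Ω) (n : ℕ) : Subgroup Ω :=
  Nat.casesOn n ⊥ fun m => Nat.casesOn m T1 fun k => Nat.casesOn k T2 fun _ => P

theorem mem_op_chain3 {P T1 T2 : Subgroup Ω} [Finite P] (hP : IsPGroup p P) (h12 : T1 ≤ T2)
    (h2 : T2 ≤ P) {A : Subgroup (Perm Ω)} (hAP : A ≤ AutAll P) {α : Perm Ω} (hα : α ∈ A)
    (e1 : ∀ x ∈ T1, α x = x) (e2 : ∀ x ∈ T2, x⁻¹ * α x ∈ T1) (e3 : ∀ x ∈ P, x⁻¹ * α x ∈ T2) :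
    α ∈ Op p (A ⊓ stab T1 ⊓ stab T2) := by
  have := finite_of_le h2
  have := finite_of_le h12
  have ha := (mem_autAll.1 (hAP hα)).1
  refine mem_op_of_chain hP ((inf_le_left.trans inf_le_left).trans hAP) (chain3 T1 T2 P) rfl ?_
    (n := 3) rfl ?_ ⟨⟨hα, ?_⟩, ?_⟩ ?_
  · rintro (_ | _ | _ | i)
    exacts [bot_le, h12.trans h2, h2, le_rfl]
  · rintro β hβ (_ | _ | _ | i)
    · exact ((mem_autAll.1 (hAP hβ.1.1)).1.mono bot_le).maps_iff.2
        (mem_autAll.1 (hAP hβ.1.1)).1.img_bot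
    · exact mem_stab.1 hβ.1.2
    · exact mem_stab.1 hβ.2
    · exact (mem_autAll.1 (hAP hβ.1.1)).2.1
  · exact mem_stab.2 ((ha.mono (h12.trans h2)).maps_of_mem fun x hx => by rw [e1 x hx]; exact hx)
  · refine mem_stab.2 ((ha.mono h2).maps_of_mem fun x hx => ?_)
    have := T2.mul_mem hx (h12 (e2 x hx))
    rwa [mul_inv_cancel_left] at this
  · rintro (_ | _ | _ | i) x hx
    · show _ ∈ (⊥ : Subgroup Ω)
      rw [e1 x hx, inv_mul_cancel]; exact Subgroup.one_mem _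
    · exact e2 x hx
    · exact e3 x hx
    · exact P.mul_mem (P.inv_mem hx) ((mem_autAll.1 (hAP hα)).2.1.mem hx)

variable {F : FusionSystem S}

theorem XS.ess_eq (h : XS p S Q z) (h6 : p ^ 6 ≤ Nat.card S) (hF : F.IsSaturated p)
    {E : Subgroup Ω} (hEQ : E ≤ Q) (hE : F.IsEssential p E) : E = Q := by
  by_contra hne
  have hlt : E < Q := lt_of_le_of_ne hEQ hne
  have hES := hEQ.trans h.le
  have := finite_of_le hES
  have := finite_of_le h.le
  obtain ⟨hc, -, H, hHA, hHne, hU, hIU, hH⟩ := (essential_iff h.pg hF).1 hE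
  have := finite_autF_of_le F hES
  have hcE : centralizerIn S E ≤ E := (centric_iff.1 hc).2 E 1 (iso_one F hES)
  have hzE : z ∈ E := hcE ⟨h.le h.mem, fun x hx => (h.cent x (hES hx)).eq⟩
  have hzle : zpowers z ≤ E := Subgroup.zpowers_le.2 hzE
  have hQN : Q ≤ Subgroup.normalizer (E : Set Ω) := le_normalizer_iff.2 fun g hg x hx => by
    have := E.mul_mem (hzle (h.comm g hg x (hEQ hx))) hx
    rwa [commutatorElement_def, inv_mul_cancel_right] at this
  apply hHne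
  refine le_antisymm hHA fun g hg => ?_
  have hg1 := homOn_of_mem_autF hg
  have hg2 := maps_of_mem_autF hg
  set y := g z with hy
  have hyE : y ∈ E := hg2.mem hzE
  have hEy : E ≤ Q ⊓ Subgroup.centralizer {y} := fun x hx => ⟨hEQ hx, by
    refine Subgroup.mem_centralizer_singleton_iff.2 ?_
    have h1 := hg2.inv_mem hx
    rw [← ap_inv g x, hy, ← hg1.map_mul h1 hzE, ← hg1.map_mul hzE h1, (h.cent _ (hES h1)).eq]⟩
  have hElt : E < Q ⊓ Subgroup.centralizer {y} := by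
    refine lt_of_le_of_ne hEy fun he => ?_
    by_cases hyz : y ∈ zpowers z
    · refine hlt.not_ge (he ▸ fun x hx => ⟨hx, ?_⟩)
      exact Subgroup.mem_centralizer_singleton_iff.2 (h.cz (h.le hx) hyz).eq
    have hab : ∀ a ∈ E, ∀ b ∈ E, Commute a b := by
      intro a ha b hb
      by_contra hn
      obtain ⟨k, hk⟩ := exists_pow_of_mem_zp h.zp (h.comm a (hEQ ha) b (hEQ hb))
        (fun e => hn (commutatorElement_eq_one_iff_commute.1 e)) (mem_zpowers z)
      apply hyz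
      rw [hy, ← hk, hg1.map_pow (hzle (h.comm a (hEQ ha) b (hEQ hb))), hg1.map_commutator ha hb, hk]
      exact Subgroup.pow_mem _ (h.comm _ (hEQ (hg2.mem ha)) _ (hEQ (hg2.mem hb))) k
    have c1 := h.card_le le_rfl (hEQ hyE)
    rw [← he] at c1
    obtain ⟨q, hq, hqE⟩ := SetLike.exists_of_lt hlt
    have c2 := h.card_le hEQ hq
    have c3 : E ⊓ Subgroup.centralizer {q} ≤ zpowers z := by
      rintro x ⟨hx, hx2⟩
      replace hx2 := Subgroup.mem_centralizer_singleton_iff.1 hx2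
      have d1 : E < Q ⊓ Subgroup.centralizer {x} := by
        refine lt_of_le_of_ne (fun a ha => ⟨hEQ ha, ?_⟩) fun e => hqE ?_
        · exact Subgroup.mem_centralizer_singleton_iff.2 (hab a ha x hx).eq
        · rw [e]
          exact ⟨hq, Subgroup.mem_centralizer_singleton_iff.2 hx2.symm⟩
      have := finite_of_le (inf_le_left : Q ⊓ Subgroup.centralizer {x} ≤ Q)
      have d2 := mul_card_le_of_lt (h.pg.to_le (inf_le_left.trans h.le)) d1
      have d3 := eq_of_le_of_card_le (inf_le_left : Q ⊓ Subgroup.centralizer {x} ≤ Q) (c1.trans d2)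
      refine h.zq x (hEQ hx) fun a ha => ?_
      rw [← d3] at ha
      exact Subgroup.mem_centralizer_singleton_iff.1 ha.2
    have := finite_of_le hzle
    have c4 := card_le_of_le c3
    rw [Nat.card_zpowers, h.ord] at c4
    have c5 : Nat.card S ≤ p ^ 4 := by
      rw [h.card]
      calc p * Nat.card Q ≤ p * (p * (p * p)) :=
            Nat.mul_le_mul_left _ (c1.trans (Nat.mul_le_mul_left _
              (c2.trans (Nat.mul_le_mul_left _ c4))))
        _ = p ^ 4 := by ring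
    exact absurd (h6.trans c5) (not_le.2 (Nat.pow_lt_pow_right hp.out.one_lt (by norm_num)))
  have hyle : zpowers y ≤ E := Subgroup.zpowers_le.2 hyE
  have hEp := h.pg.to_le hES
  set R := Op p (AutF F E ⊓ stab (zpowers y) ⊓ stab (zpowers y ⊔ zpowers z)) with hR
  obtain ⟨a, ha, hR1⟩ := hU.exists_conj (T := R) (isPGroup_op _ _)
    ((op_le _ _).trans (inf_le_left.trans inf_le_left))
  have key := mem_of_conj_le hU (autF_le_normalizer_inn F E) hH
  have hQN' : Q ≤ normalizerIn S E := fun x hx => ⟨h.le hx, hQN hx⟩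
  have haH : a ∈ H := by
    refine key (AutBy (Q ⊓ Subgroup.centralizer {y}) E) (autBy_mono (inf_le_left.trans h.le) E)
      (inn_lt_autBy hcE hElt (inf_le_left.trans hQN')) a ha fun u hu => hR1 u ?_
    obtain ⟨t, ht, htN, rfl⟩ := mem_autBy.1 hu
    have hfix : ∀ x ∈ zpowers y ⊔ zpowers z, cr E t x = x := by
      intro x hx
      rw [cr_apply htN ((sup_le hyle hzle) hx)]
      have : zpowers y ⊔ zpowers z ≤ Subgroup.centralizer {t} := by
        refine sup_le (Subgroup.zpowers_le.2 ?_) (Subgroup.zpowers_le.2 ?_)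
        · rw [Subgroup.mem_centralizer_singleton_iff]
          exact (Subgroup.mem_centralizer_singleton_iff.1 ht.2).symm
        · rw [Subgroup.mem_centralizer_singleton_iff]
          exact (h.cent t (h.le ht.1)).eq.symm
      rw [← Subgroup.mem_centralizer_singleton_iff.1 (this hx), mul_inv_cancel_right]
    refine mem_op_chain3 hEp le_sup_left (sup_le hyle hzle) (autF_le_autAll F E)
      (cr_mem_autF F hES (h.le ht.1) htN) (fun x hx => hfix x (Subgroup.mem_sup_left hx))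
      (fun x hx => by rw [hfix x hx, inv_mul_cancel]; exact one_mem _) fun x hx => ?_
    rw [cr_apply htN hx]
    refine Subgroup.mem_sup_right ?_
    have := h.comm _ (Q.inv_mem (hEQ hx)) _ ht.1
    rwa [commutatorElement_def, inv_inv, mul_assoc, mul_assoc, ← mul_assoc t] at this
  have hagH : a * g ∈ H := by
    refine key (AutBy Q E) (autBy_mono h.le E) (inn_lt_autBy hcE hlt hQN') (a * g)
      (mul_mem ha hg) fun u hu => ?_
    have e : a * g * u * (a * g)⁻¹ = a * (g * u * g⁻¹) * a⁻¹ := by group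
    rw [e]
    refine hR1 _ ?_
    obtain ⟨t, ht, htN, rfl⟩ := mem_autBy.1 hu
    have hA : g * cr E t * g⁻¹ ∈ AutF F E :=
      mul_mem (mul_mem hg (cr_mem_autF F hES (h.le ht) htN)) (inv_mem hg)
    have hall : ∀ x ∈ E, x⁻¹ * (g * cr E t * g⁻¹) x ∈ zpowers y := by
      intro x hx
      have h1 := hg2.inv_mem hx
      have h2 := h.comm _ (Q.inv_mem (hEQ h1)) _ ht
      rw [commutatorElement_def, inv_inv, mul_assoc, mul_assoc, ← mul_assoc t] at h2
      have h3 := H3.HomOn.map_zp hg1 hzE (mem_zpowers y) h2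
      rw [hg1.map_mul (E.inv_mem h1) (conj_mem_of_normalizer htN h1), hg1.map_inv h1, ap_inv] at h3
      rw [mul_ap, mul_ap, cr_apply htN h1]
      exact h3
    refine mem_op_chain3 hEp le_sup_left (sup_le hyle hzle) (autF_le_autAll F E) hA
      (fun x hx => H3.HomOn.fix_zp (homOn_of_mem_autF hA) hyE ?_ hx)
      (fun x hx => hall x ((sup_le hyle hzle) hx)) fun x hx => Subgroup.mem_sup_left (hall x hx)
    rw [mul_ap, mul_ap, hy, inv_ap, cr_apply htN hzE, (h.cent t (h.le ht)).eq,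
      mul_inv_cancel_right]
  simpa using H.mul_mem (H.inv_mem haH) hagH

theorem XS.exists_c2 (h : XS p S Q z) {c : Ω} (hc : c ∈ centralizerIn S S) (hcQ : c ∉ Q) :
    C2 p S z := by
  have := finite_of_le h.le
  have hle : Q ⊔ zpowers c ≤ S := sup_le h.le (Subgroup.zpowers_le.2 hc.1)
  have := finite_of_le hle
  have h1 : Q < Q ⊔ zpowers c := lt_of_le_of_ne le_sup_left fun e =>
    hcQ (e ▸ Subgroup.mem_sup_right (mem_zpowers c))
  have h2 := eq_of_le_of_card_le hle (h.card ▸ mul_card_le_of_lt (h.pg.to_le hle) h1)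
  have hcc : ∀ d ∈ zpowers c, ∀ s ∈ S, Commute s d := by
    rintro _ ⟨k, rfl⟩ s hs
    exact Commute.zpow_right (hc.2 s hs) k
  have h3 : ∀ s ∈ S, ∃ q ∈ Q, ∃ d ∈ zpowers c, q * d = s := fun s hs =>
    (mem_sup_of_normalizes' (le_normalizer_iff.2 fun d hd x hx => by
      rw [← (hcc d hd x (h.le hx)).eq, mul_inv_cancel_right]; exact hx)).1 (h2 ▸ hs)
  refine ⟨h.le h.mem, h.zp, h.cent, fun a ha b hb => ?_⟩
  obtain ⟨q, hq, d, hd, rfl⟩ := h3 a ha
  obtain ⟨q', hq', d', hd', rfl⟩ := h3 b hb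
  have e1 := (hcc d hd _ hb).eq
  have e2 := (hcc d' hd' _ (S.inv_mem (h.le hq))).eq
  have e : ⁅q * d, q' * d'⁆ = ⁅q, q'⁆ := by
    simp only [commutatorElement_def]
    calc q * d * (q' * d') * (q * d)⁻¹ * (q' * d')⁻¹
        = q * (d * (q' * d')) * d⁻¹ * q⁻¹ * d'⁻¹ * q'⁻¹ := by group
      _ = q * q' * (d' * q⁻¹) * d'⁻¹ * q'⁻¹ := by rw [← e1]; group
      _ = q * q' * q⁻¹ * q'⁻¹ := by rw [← e2]; group
  rw [e]
  exact h.comm q hq q' hq'

theorem iso_cen {τ : Perm Ω} (hτ : Iso F S S τ) {x : Ω} (hx : x ∈ centralizerIn S S) :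
    τ x ∈ centralizerIn S S :=
  hτ.mor.mem_centralizerIn le_rfl hτ.maps hx.1 hx.2

theorem fix_cen (hS : IsPGroup p S) (hF : F.IsSaturated p) (hz : z ∈ centralizerIn S S)
    {γ : Perm Ω} (hγ : Iso F S S γ) (h1 : γ z = z)
    (h2 : ∀ x ∈ centralizerIn S S, x⁻¹ * γ x ∈ zpowers z) : ∀ x ∈ centralizerIn S S, γ x = x := by
  have := finite_autF_of_le F (le_refl S)
  have hU := sylIn_of_fullyNormalized hS hF (P := S) (fullyNormalized_iff.2 ⟨le_rfl, fun Q σ _ => by
    rw [normalizerIn_self]; exact card_le_of_le (normalizerIn_le S Q)⟩)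
  have hα := hγ.rs_mem
  have hn : ((AutBy S S).subgroupOf (AutF F S)).Normal :=
    (normal_subgroupOf_iff hU.le).2 (autF_le_normalizer_inn F S)
  have h3 : rs S γ ^ (AutBy S S).relIndex (AutF F S) ∈ AutBy S S :=
    Subgroup.pow_index_mem (H := (AutBy S S).subgroupOf (AutF F S)) ⟨_, hα⟩
  have hZ : centralizerIn S S ≤ S := centralizerIn_le S S
  have := finite_of_le hZ
  have hzle : zpowers z ≤ centralizerIn S S := Subgroup.zpowers_le.2 hz
  have hh := (homOn_of_mem_autF hα).mono hZ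
  have hr : ∀ x ∈ centralizerIn S S, rs S γ x = γ x := fun x hx => rs_apply hγ.maps (hZ hx)
  intro x hx
  rw [← hr x hx]
  refine fix_of_chain (hS.to_le hZ) (chain2 (zpowers z) (centralizerIn S S)) rfl ?_ hh
    (hh.maps_of_mem fun x hx => by rw [hr x hx]; exact iso_cen hγ hx) ?_
    ((Nat.Prime.coprime_iff_not_dvd hp.out).2 hU.not_dvd_relIndex).symm ?_ 2 x hx
  · rintro (_ | _ | i)
    exacts [bot_le, hzle, le_rfl]
  · rintro (_ | _ | i) x hx
    · show _ ∈ (⊥ : Subgroup Ω)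
      rw [H3.HomOn.fix_zp hh hz (by rw [hr z hz, h1]) hx, inv_mul_cancel]; exact Subgroup.one_mem _
    · show _ ∈ zpowers z
      rw [hr x hx]; exact h2 x hx
    · show _ ∈ centralizerIn S S
      rw [hr x hx]; exact mul_mem (inv_mem hx) (iso_cen hγ hx)
  · intro x hx
    obtain ⟨s, hs, hsN, e⟩ := mem_autBy.1 h3
    rw [← e, cr_apply hsN (hZ hx), hx.2 s hs, mul_inv_cancel_right]

/-- An automorphism of `S` inverting `z` and trivial on `Z(S) / ⟨z⟩`. -/
def Good (F : FusionSystem S) (z : Ω) (τ : Perm Ω) : Prop :=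
  Iso F S S τ ∧ τ z = z⁻¹ ∧ ∀ x ∈ centralizerIn S S, x⁻¹ * τ x ∈ zpowers z

theorem Good.eq (hS : IsPGroup p S) (hF : F.IsSaturated p) (hz : z ∈ centralizerIn S S)
    {τ τ' : Perm Ω} (h : Good F z τ) (h' : Good F z τ') : ∀ x ∈ centralizerIn S S, τ' x = τ x := by
  have hi := h.1.inv
  have hzi : τ⁻¹ z⁻¹ = z := by rw [← h.2.1, inv_ap]
  have hzi' : τ⁻¹ z ∈ zpowers z := by
    have := hi.hom.map_inv (S.inv_mem hz.1)
    rw [inv_inv, hzi] at this
    rw [this]; exact inv_mem (mem_zpowers z)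
  have hzle : zpowers z ≤ S := Subgroup.zpowers_le.2 hz.1
  intro x hx
  have := fix_cen hS hF hz (hi.mul h'.1) (by rw [mul_ap, h'.2.1, hzi]) (fun x hx => by
    have h1 := h.2.2 _ (iso_cen hi hx)
    rw [ap_inv] at h1
    have h2 := H3.HomOn.map_zp hi.hom hz.1 hzi' (h'.2.2 x hx)
    rw [hi.hom.map_mul (S.inv_mem hx.1) (h'.1.mem hx.1), hi.hom.map_inv hx.1] at h2
    have h3 := mul_mem (inv_mem h1) h2
    rw [mul_ap]
    convert h3 using 1
    group) x hx
  rw [mul_ap] at this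
  rw [← this, ap_inv, this]

theorem TV_good (hp2 : Odd p) {E W : Subgroup Ω} {y g : Ω} (h : TV p F S E W z y g) :
    ∃ τ, Good F z τ ∧ ∀ x, x ∈ W ↔ x ∈ centralizerIn S S ∧ τ x = x := by
  obtain ⟨τ, h1, h2, h3, -⟩ := h.tau
  have hz := h.c2.mem
  have key : ∀ x ∈ centralizerIn S S, ∃ i : ℕ, x * (z ^ i)⁻¹ ∈ W ∧ x⁻¹ * τ x = ((z ^ i) ^ 2)⁻¹ := by
    intro x hx
    obtain ⟨i, hi⟩ := h.low x hx
    refine ⟨i, hi, ?_⟩
    have e : τ x = τ (x * (z ^ i)⁻¹ * z ^ i) := by rw [inv_mul_cancel_right]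
    rw [e, h1.hom.map_mul (h.wle hi).1 (S.pow_mem hz i), h3 _ hi, h1.hom.map_pow hz, h2]
    group
  refine ⟨τ, ⟨h1, h2, fun x hx => ?_⟩, fun x => ⟨fun hx => ⟨h.wle hx, h3 x hx⟩, fun hx => ?_⟩⟩
  · obtain ⟨i, -, e⟩ := key x hx
    rw [e]
    exact inv_mem (pow_mem (pow_mem (mem_zpowers z) i) 2)
  · obtain ⟨i, hi, e⟩ := key x hx.1
    rw [hx.2, inv_mul_cancel, eq_comm, inv_eq_one] at e
    have e2 : (z ^ i) ^ p = 1 := by rw [← pow_mul, mul_comm, pow_mul, h.c2.ord, one_pow]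
    have e3 : z ^ i = 1 := orderOf_eq_one_iff.1 (Nat.eq_one_of_dvd_coprimes
      (Nat.coprime_two_left.2 hp2) (orderOf_dvd_of_pow_eq_one e) (orderOf_dvd_of_pow_eq_one e2))
    rwa [e3, inv_one, mul_one] at hi

theorem XS.center_eq (h : XS p S Q z) (hp2 : Odd p) (hF : F.IsSaturated p) (hO : F.core = ⊥) :
    S ⊓ Subgroup.centralizer (S : Set Ω) = Q ⊓ Subgroup.centralizer (Q : Set Ω) := by
  have hz : z ∈ centralizerIn S S := ⟨h.le h.mem, fun g hg => (h.cent g hg).eq⟩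
  refine le_antisymm (fun c hc => ?_) fun x hx => (Subgroup.zpowers_le.2 hz) (h.zq x hx.1 hx.2)
  refine ⟨?_, fun a ha => hc.2 a (h.le ha)⟩
  by_contra hcQ
  have c2 := h.exists_c2 hc hcQ
  have hn : ¬ F.IsNormal S := fun hn => h.zne (by
    have := H13.le_core hn (h.le h.mem)
    rwa [hO, Subgroup.mem_bot] at this)
  obtain ⟨E0, hE0⟩ := exists_rr h.pg hF (H13.sc_top F) hn
  obtain ⟨W, y, g, tv⟩ := hE0.tv c2
  obtain ⟨τ, hτ, hW⟩ := TV_good hp2 tv
  have hWS : W ≤ S := tv.wle.trans (centralizerIn_le S S)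
  have := finite_of_le hWS
  have hzσ : ∀ σ, Iso F S S σ → σ z ∈ zpowers z := by
    intro σ hσ
    have h1 : ⁅S, S⁆ ≤ zpowers z := Subgroup.commutator_le.2 c2.comm
    have h2 : z ∈ ⁅S, S⁆ := Subgroup.commutator_mono h.le h.le h.der
    have h3 := mem_img_of_mem σ h2
    rw [hσ.hom.img_commutator le_rfl le_rfl, hσ.img_eq] at h3
    exact h1 h3
  have hWn : F.IsNormal W := by
    refine normal_of_base h.pg hF ?_
    rintro P (rfl | hP)
    · refine ⟨hWS, fun σ hσ => (hσ.hom.mono hWS).maps_of_mem fun w hw => ?_⟩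
      have hg : Good F z (σ * τ * σ⁻¹) := by
        refine ⟨(hσ.mul hτ.1).mul hσ.inv, ?_, fun x hx => ?_⟩
        · obtain ⟨k, hk⟩ := hzσ _ hσ.inv
          simp only at hk
          rw [mul_ap, mul_ap, ← hk, hτ.1.hom.map_zpow hz.1, hτ.2.1, inv_zpow,
            hσ.hom.map_inv (Subgroup.zpow_mem _ hz.1 k), hk, ap_inv]
        · have h1 := iso_cen hσ.inv hx
          have h2 := H3.HomOn.map_zp hσ.hom hz.1 (hzσ σ hσ) (hτ.2.2 _ h1)
          rwa [hσ.hom.map_mul (inv_mem h1.1) (hτ.1.mem h1.1), hσ.hom.map_inv h1.1, ap_inv] at h2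
      have h1 := iso_cen hσ (tv.wle hw)
      refine (hW _).2 ⟨h1, ?_⟩
      rw [← Good.eq h.pg hF hz hτ hg _ h1, mul_ap, mul_ap, inv_ap, ((hW w).1 hw).2]
    · obtain ⟨W', y', g', tv'⟩ := (rr_of_essential h.pg hF hP).tv c2
      obtain ⟨τ', hτ', hW'⟩ := TV_good hp2 tv'
      have e : W' = W := by
        ext x
        rw [hW, hW']
        exact and_congr_right fun hx => by rw [Good.eq h.pg hF hz hτ hτ' x hx]
      subst e
      have hWP := tv'.wle.trans tv'.cenQ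
      refine ⟨hWP, fun σ hσ => (hσ.hom.mono hWP).maps_of_mem fun w hw => ?_⟩
      rw [← rs_apply hσ.maps (hWP hw)]
      exact tv'.invW _ hσ.rs_mem w hw
  obtain ⟨i, hi⟩ := tv.low c hc
  have h1 := H13.le_core hWn hi
  rw [hO, Subgroup.mem_bot, mul_inv_eq_one] at h1
  exact hcQ (h1 ▸ Q.pow_mem h.mem i)

end H18.FX
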