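import Cfsg.Agent.H8.A8h
import Cfsg.Agent.H13.Xs
import Cfsg.Agent.H29.Mathieu
import Cfsg.Agent.H10.S34
import Cfsg.Agent.H6.Dihedral
import Cfsg.Agent.H1.Cores

/-! Final step in the 3-local recognition of the alternating group of degree 8. -/

set_option autoImplicit false
set_option linter.unusedSectionVars false

namespace H18.Fin8

open Subgroup Equiv H8A

/-- the statement of the recognition theorem via an extraspecial group of order 32 -/
def T44 (G : Type*) [Group G] : Prop :=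
  ∀ (s : G) (_ : orderOf s = 2) (L : Subgroup G) (_ : L = Subgroup.centralizer ({s} : Set G))
    (Q : Subgroup G) (_ : Q = (Cfsg.pCore 2 L).map L.subtype)
    (_ : Cfsg.IsExtraspecial 2 Q) (_ : Nat.card Q = 32)
    (_ : L ⧸ Cfsg.pCore 2 L ≃* Equiv.Perm (Fin 3))
    (X : Sylow 3 L) (_ : Q ⊓ Subgroup.centralizer (((X : Subgroup L).map L.subtype : Subgroup G) : Set G) = Subgroup.zpowers s)
    (_ : ∃ g : G, g * s * g⁻¹ ∈ Q ∧ g * s * g⁻¹ ≠ s),
    (∃ (N : Subgroup G) (_ : N.Normal), IsMulCommutative N ∧ (∀ n ∈ N, n ^ 2 = 1) ∧ Nat.card N = 8 ∧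
        Nonempty (G ⧸ N ≃* Matrix.ProjectiveSpecialLinearGroup (Fin 3) (ZMod 2))) ∨
    Nonempty (G ≃* alternatingGroup (Fin 8)) ∨ Nonempty (G ≃* alternatingGroup (Fin 9)) ∨
      Cfsg.Spor.IsoM12 G

def g8 : Fin 4 → A8 := ![ev (swap 0 3 * swap 1 4), ev (swap 0 3 * swap 2 5),
  ev (swap 0 2 * swap 1 6 * swap 3 5 * swap 4 7), ev (swap 0 1 * swap 2 6 * swap 3 4 * swap 5 7)]
def y8 : A8 := z8 * d8
def v8 : A8 := ev (swap 0 1 * swap 3 4)
def h8 : A8 := ev (swap 0 4 * swap 2 7)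
def pi4 : Fin 4 → Fin 4 := ![2, 3, 0, 1]
def l8 : List A8 := [0, 1, 2, 3].foldr (fun i l => l ++ l.map (g8 i * ·)) [1, s8]

theorem f1 : s8 ≠ 1 ∧ s8 * s8 = 1 ∧ (∀ i, s8 * g8 i = g8 i * s8) ∧ (∀ i, g8 i * g8 i = 1) ∧
    (∀ i j, g8 (pi4 i) * g8 j = (if j = i then s8 else 1) * (g8 j * g8 (pi4 i))) ∧
    (∀ i, ∃ j, pi4 j = i) ∧ y8 * s8 = s8 * y8 ∧ v8 * s8 = s8 * v8 ∧ v8 * y8 * v8⁻¹ = y8⁻¹ ∧
    v8 * v8 = 1 ∧ y8 ^ 3 = 1 ∧ y8 ≠ 1 ∧ h8 * s8 * h8⁻¹ = g8 3 ∧ g8 3 ≠ s8 ∧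
    s8 = g8 0 * g8 2 * g8 0 * g8 2 := by decide +kernel

theorem f2 : (∀ i, ∃ j k, y8 * g8 i * y8⁻¹ = g8 j ∨ y8 * g8 i * y8⁻¹ = g8 j * g8 k) ∧
    (∀ i, ∃ j k, v8 * g8 i * v8⁻¹ = g8 j ∨ v8 * g8 i * v8⁻¹ = g8 j * g8 k) := by decide +kernel

def fn (c : ℕ) (p : Fin 8) : Fin 8 := Fin.ofNat 8 (c / 10 ^ p.val % 10)
def gF (i : Fin 4) : Fin 8 → Fin 8 := fn ([76510243, 76240513, 41375062, 52734601].getD i.val 0)

theorem tb : (∀ i p, (g8 i).1 p = gF i p) ∧ (∀ p, s8.1 p = fn 67210543 p) ∧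
    ∀ p, y8.1 p = fn 76354021 p := by decide +kernel

theorem tl (L : List (Fin 4)) : (L.foldr (fun i l => l ++ l.map (g8 i * ·)) [1, s8]).map
    (fun x : A8 => ⇑x.1) = L.foldr (fun i l => l ++ l.map (gF i ∘ ·)) [id, fn 67210543] := by
  induction L with
  | nil => simp only [List.foldr_nil, List.map_cons, List.map_nil, funext tb.2.1]; rfl
  | cons i L ih =>
    simp only [List.foldr_cons, List.map_append, ← ih, List.map_map, ← funext (tb.1 i)]; rfl

def lF : List (Fin 8 → Fin 8) := ([0, 1, 2, 3] : List (Fin 4)).foldr (fun i l => l ++ l.map (gF i ∘ ·)) [id, fn 67210543]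
def P8 : List (Fin 8) := [0, 1, 2, 3, 4, 5, 6, 7]
theorem f6 : lF.all (fun f => !(P8.all fun p => f (fn 76354021 p) == fn 76354021 (f p)) || (P8.all fun p => f p == p) || P8.all fun p => f p == fn 67210543 p) = true := by decide +kernel
theorem f5 : ∀ f ∈ lF, (∀ p : Fin 8, f (fn 76354021 p) = fn 76354021 (f p)) → (∀ p : Fin 8, f p = p) ∨ ∀ p : Fin 8, f p = fn 67210543 p := fun f hf h => by
  have := List.all_eq_true.1 f6 f hf
  have m : ∀ p : Fin 8, p ∈ P8 := by decide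
  simpa [h, m] using this

theorem f4 : ∀ x ∈ l8, x * y8 = y8 * x → x = 1 ∨ x = s8 := fun x hx c => by
  have m := List.mem_map_of_mem (f := fun x : A8 => ⇑x.1) hx
  rw [l8, tl] at m
  have := f5 x.1 m fun p => by
    rw [← tb.2.2, ← tb.2.2]
    exact congrArg (fun u : A8 => u.1 p) c
  exact this.imp (fun h => Subtype.ext (Equiv.ext h)) fun h =>
    Subtype.ext (Equiv.ext fun p => (h p).trans (tb.2.1 p).symm)

theorem nf_iff (L : List (Fin 4)) (x : A8) : x ∈ H13.Xs.NF s8 g8 L ↔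
    x ∈ L.foldr (fun i l => l ++ l.map (g8 i * ·)) [1, s8] := by
  induction L generalizing x with
  | nil => simp [H13.Xs.NF]
  | cons i L ih => simp only [H13.Xs.NF, Set.mem_union, Set.mem_image, ih, List.foldr_cons,
      List.mem_append, List.mem_map]

theorem f3 : 1 ∈ l8 ∧ (∀ x ∈ l8, ∀ i, g8 i * x ∈ l8) ∧
    ∀ x ∈ l8, x * y8 = y8 * x → x = 1 ∨ x = s8 := by
  obtain ⟨-, a2, a3, a4, a5, a6, -⟩ := f1
  refine ⟨(nf_iff _ _).1 (H13.Xs.nf_one _ _ _), fun x hx i => (nf_iff _ _).1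
    (H13.Xs.nf_g a2 a3 a4 (fun i j => ?_) _ i (by fin_cases i <;> simp) x ((nf_iff _ _).2 hx)), f4⟩
  obtain ⟨k, rfl⟩ := a6 i
  rw [a5]
  split_ifs
  · exact .inr rfl
  · exact .inl (one_mul _)

variable {G : Type*} [Group G] [Finite G] {φ : A8 →* G}

theorem base (inj : Function.Injective φ) : ∃ Q : Subgroup G, Nat.card Q = 32 ∧
    Cfsg.IsExtraspecial 2 Q ∧ Q ≤ centralizer {φ s8} ∧ φ s8 ∈ Q ∧ φ (g8 3) ∈ Q ∧
    φ y8 ∈ normalizer (Q : Set G) ∧ φ v8 ∈ normalizer (Q : Set G) ∧ (∀ k, φ y8 ^ k ∈ Q → 3 ∣ k) ∧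
    φ v8 ∉ Q ∧ ∀ x ∈ Q, x * φ y8 = φ y8 * x → x ∈ zpowers (φ s8) := by
  obtain ⟨a1, a2, a3, a4, a5, a6, a7, a8, a9, a10, a11, a12, a13, a14, a15⟩ := f1
  obtain ⟨c, e⟩ := H13.Xs.gen (z := φ s8) (g := fun i => φ (g8 i)) pi4
    (fun z => a1 (inj (z.trans (map_one φ).symm))) (by rw [← map_mul, a2, map_one])
    (fun i => by simp only [← map_mul, a3]) (fun i => by simp only [← map_mul, a4, map_one])
    (fun i j => by
      rw [← map_mul, a5]; split_ifs <;> simp only [map_mul, map_one]) a6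
  set Q := closure (Set.range fun i => φ (g8 i)) with hQ
  have m : ∀ i, φ (g8 i) ∈ Q := fun i => subset_closure ⟨i, rfl⟩
  have nn : ∀ t : A8, (∀ i, ∃ j k, t * g8 i * t⁻¹ = g8 j ∨ t * g8 i * t⁻¹ = g8 j * g8 k) →
      φ t ∈ normalizer (Q : Set G) := fun t ht => H10.mem_NN_of_conj_mem fun x hx => by
    induction hx using closure_induction with
    | mem x hx =>
      obtain ⟨i, rfl⟩ := hx
      obtain ⟨j, k, z | z⟩ := ht i <;> rw [← map_inv, ← map_mul, ← map_mul, z]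
      · exact m j
      · rw [map_mul]; exact mul_mem (m j) (m k)
    | one => simp
    | mul x y _ _ hx hy => rw [← conj_mul]; exact mul_mem hx hy
    | inv x _ hx => rw [← conj_inv]; exact inv_mem hx
  have c' : Nat.card Q = 32 := by rw [c]; rfl
  have yQ : ∀ k, φ y8 ^ k ∈ Q → 3 ∣ k := fun k hk => by
    haveI := Fact.mk Nat.prime_three
    have o : orderOf (φ y8) = 3 := by rw [orderOf_injective φ inj, orderOf_eq_prime a11 a12]
    have := Q.orderOf_dvd_natCard hk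
    rw [c', orderOf_dvd_iff_pow_eq_one, ← pow_mul, ← orderOf_dvd_iff_pow_eq_one, o] at this
    omega
  refine ⟨Q, c', e, (closure_le _).2 ?_, ?_, m 3, nn _ f2.1, nn _ f2.2, yQ, fun hv => ?_,
    fun x hx cx => ?_⟩
  · rintro _ ⟨i, rfl⟩
    exact mem_centralizer_singleton_iff.2 (by simp only [← map_mul, a3])
  · rw [a15]; simp only [map_mul]; exact mul_mem (mul_mem (mul_mem (m _) (m _)) (m _)) (m _)
  · have := mul_mem (H10.conj_mem_of_mem_NN (nn _ f2.1) hv) (inv_mem hv)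
    rw [show φ y8 * φ v8 * (φ y8)⁻¹ * (φ v8)⁻¹ = φ y8 * (φ v8 * φ y8 * (φ v8)⁻¹)⁻¹ by group,
      ← map_inv, ← map_mul, ← map_mul, a9, map_inv, inv_inv, ← pow_two] at this
    have := yQ 2 this
    omega
  · have : ∃ u ∈ l8, φ u = x := by
      clear cx
      induction hx using closure_induction_left with
      | one => exact ⟨1, f3.1, map_one φ⟩
      | mul_left x hx y _ hy =>
        obtain ⟨i, rfl⟩ := hx
        obtain ⟨u, hu, rfl⟩ := hy
        exact ⟨_, f3.2.1 u hu i, map_mul _ _ _⟩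
      | inv_mul_cancel x hx y _ hy =>
        obtain ⟨i, rfl⟩ := hx
        obtain ⟨u, hu, rfl⟩ := hy
        exact ⟨_, f3.2.1 u hu i, by
          rw [map_mul, ← map_inv, inv_eq_of_mul_eq_one_right (a4 i)]⟩
    obtain ⟨u, hu, rfl⟩ := this
    rcases f3.2.2 u hu (inj (by simpa using cx)) with rfl | rfl
    · simp
    · exact mem_zpowers _

theorem six {T Q : Subgroup G} (hT : T ≤ normalizer (Q : Set G)) (le : Q ≤ T) (c : Nat.card Q = 32)
    (hy : φ y8 ∈ T) (hv : φ v8 ∈ T) (yQ : ∀ k, φ y8 ^ k ∈ Q → 3 ∣ k) (vQ : φ v8 ∉ Q) :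
    192 ∣ Nat.card T := by
  obtain ⟨a1, a2, a3, a4, a5, a6, a7, a8, a9, a10, a11, a12, a13, a14, a15⟩ := f1
  haveI := normal_subgroupOf_of_le_normalizer hT
  haveI := Fact.mk Nat.prime_three
  have o3 : orderOf (QuotientGroup.mk ⟨_, hy⟩ : T ⧸ Q.subgroupOf T) = 3 := orderOf_eq_prime
    (by rw [← QuotientGroup.mk_pow, QuotientGroup.eq_one_iff, mem_subgroupOf]
        simp [← map_pow, a11])
    fun z => by have := yQ 1 (by simpa [mem_subgroupOf] using (QuotientGroup.eq_one_iff _).1 z); omega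
  have o2 : orderOf (QuotientGroup.mk ⟨_, hv⟩ : T ⧸ Q.subgroupOf T) = 2 := orderOf_eq_prime
    (by rw [← QuotientGroup.mk_pow, QuotientGroup.eq_one_iff, mem_subgroupOf]
        simp [pow_two, ← map_mul, a10])
    fun z => vQ (by simpa [mem_subgroupOf] using (QuotientGroup.eq_one_iff _).1 z)
  have d3 := o3 ▸ orderOf_dvd_natCard (QuotientGroup.mk ⟨_, hy⟩ : T ⧸ Q.subgroupOf T)
  have d2 := o2 ▸ orderOf_dvd_natCard (QuotientGroup.mk ⟨_, hv⟩ : T ⧸ Q.subgroupOf T)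
  rw [card_eq_card_quotient_mul_card_subgroup (Q.subgroupOf T),
    Nat.card_congr (subgroupOfEquivOfLe le).toEquiv, c]
  omega

theorem d192 (inj : Function.Injective φ) : ∃ Q : Subgroup G, (Nat.card Q = 32 ∧
    Cfsg.IsExtraspecial 2 Q ∧ Q ≤ centralizer {φ s8} ∧ φ s8 ∈ Q ∧ φ (g8 3) ∈ Q ∧
    φ y8 ∈ normalizer (Q : Set G) ∧ φ v8 ∈ normalizer (Q : Set G) ∧ (∀ k, φ y8 ^ k ∈ Q → 3 ∣ k) ∧
    φ v8 ∉ Q ∧ ∀ x ∈ Q, x * φ y8 = φ y8 * x → x ∈ zpowers (φ s8)) ∧
    φ y8 ∈ centralizer {φ s8} ∧ φ v8 ∈ centralizer {φ s8} ∧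
    192 ∣ Nat.card (centralizer {φ s8} ⊓ normalizer (Q : Set G) : Subgroup G) := by
  obtain ⟨a1, a2, a3, a4, a5, a6, a7, a8, -⟩ := f1
  obtain ⟨Q, h⟩ := base inj
  have hy : φ y8 ∈ centralizer {φ s8} := mem_centralizer_singleton_iff.2 (by simp only [← map_mul, a7])
  have hv : φ v8 ∈ centralizer {φ s8} := mem_centralizer_singleton_iff.2 (by simp only [← map_mul, a8])
  exact ⟨Q, h, hy, hv, six inf_le_right (le_inf h.2.2.1 le_normalizer) h.1 ⟨hy, h.2.2.2.2.2.1⟩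
    ⟨hv, h.2.2.2.2.2.2.1⟩ h.2.2.2.2.2.2.2.1 h.2.2.2.2.2.2.2.2.1⟩

theorem fin64 (inj : Function.Injective φ) : 64 ∣ Nat.card (centralizer ({φ s8} : Set G)) := by
  obtain ⟨Q, -, -, -, h⟩ := d192 inj
  exact (by norm_num : 64 ∣ 192).trans (h.trans (card_dvd_of_le inf_le_left))

theorem s3d : ∀ r : Perm (Fin 3), r ^ 6 = 1 := by decide +kernel

theorem s3c : ∀ r e : Perm (Fin 3), e ^ 3 = 1 ∧ e ≠ 1 ∧ r ^ 2 = 1 ∧
    (r * e * r⁻¹ * e⁻¹) ^ 2 = 1 → r = 1 := by decide +kernel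

theorem fin' (t44 : T44 G) (inj : Function.Injective φ) (n27 : ¬ 27 ∣ Nat.card G)
    (hle : Nat.card (centralizer ({φ s8} : Set G)) ≤ 192) :
    Nonempty (G ≃* alternatingGroup (Fin 8)) := by
  obtain ⟨a1, a2, a3, a4, a5, a6, a7, a8, a9, a10, a11, a12, a13, a14, a15⟩ := f1
  obtain ⟨Q, ⟨c, ex, le, sQ, gQ, -, -, yQ, vQ, cy⟩, hy, hv, h⟩ := d192 inj
  haveI := Fact.mk Nat.prime_three
  set L := centralizer ({φ s8} : Set G) with hL
  have eL : L ⊓ normalizer (Q : Set G) = L :=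
    eq_of_le_of_card_ge inf_le_left (hle.trans (Nat.le_of_dvd Nat.card_pos h))
  have cL : Nat.card L = 192 := le_antisymm hle (Nat.le_of_dvd Nat.card_pos (eL ▸ h))
  haveI := normal_subgroupOf_of_le_normalizer (inf_eq_left.1 eL)
  have cQ : Nat.card (Q.subgroupOf L) = 32 := (Nat.card_congr (subgroupOfEquivOfLe le).toEquiv).trans c
  have c6 : Nat.card (L ⧸ Q.subgroupOf L) = 6 := by
    have := card_eq_card_quotient_mul_card_subgroup (Q.subgroupOf L)
    rw [cQ, cL] at this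
    omega
  let π := QuotientGroup.mk' (Q.subgroupOf L)
  have hπ : ∀ u : L, π u = 1 ↔ (u : G) ∈ Q := fun u => QuotientGroup.eq_one_iff u
  have y3 : (⟨_, hy⟩ : L) ^ 3 = 1 := Subtype.ext (by simp [← map_pow, a11])
  have y1 : π ⟨_, hy⟩ ≠ 1 := fun z => by have := yQ 1 (by simpa using (hπ _).1 z); omega
  have o3 : orderOf (π ⟨_, hy⟩) = 3 := orderOf_eq_prime (by rw [← map_pow, y3, map_one]) y1
  have v2 : π ⟨_, hv⟩ ^ 2 = 1 := by
    rw [← map_pow, hπ]; simp [pow_two, ← map_mul, a10]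
  have nm : π ⟨_, hv⟩ ∉ zpowers (π ⟨_, hy⟩) := fun z => by
    have d := (zpowers _).orderOf_dvd_natCard z
    rw [Nat.card_zpowers, o3, orderOf_eq_prime v2 fun z => vQ ((hπ _).1 z)] at d
    omega
  obtain ⟨f⟩ := H6.equiv_dihedral_of_top o3 (pow_two (π ⟨_, hv⟩) ▸ v2) (by
    rw [← map_inv, ← map_inv, ← map_mul, ← map_mul]
    congr 1
    exact Subtype.ext (by simp [← map_inv, ← map_mul, a9])) nm (by
      set K := closure ({π ⟨_, hy⟩, π ⟨_, hv⟩} : Set (L ⧸ Q.subgroupOf L))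
      have d3 := K.orderOf_dvd_natCard (x := π ⟨_, hy⟩) (subset_closure (by simp))
      have d2 := K.orderOf_dvd_natCard (x := π ⟨_, hv⟩) (subset_closure (by simp))
      rw [o3] at d3
      rw [orderOf_eq_prime v2 fun z => vQ ((hπ _).1 z)] at d2
      have := Nat.card_pos (α := K)
      exact eq_top_of_le_card K (by omega))
  obtain ⟨f'⟩ := H10.d3_equiv
  let e := f.trans f'
  have pc : Cfsg.pCore 2 L = Q.subgroupOf L := by
    refine le_antisymm (fun x hx => ?_) (H1.le_pCore (IsPGroup.of_card (n := 5) cQ))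
    have sq : ∀ x ∈ Cfsg.pCore 2 L, e (π x) ^ 2 = 1 := fun x hx => by
      obtain ⟨n, hn⟩ := H1.isPGroup_pCore 2 ⟨x, hx⟩
      have h1 : e (π x) ^ 2 ^ n = 1 := by
        rw [← map_pow, ← map_pow, show x ^ 2 ^ n = 1 from congrArg Subtype.val hn, map_one, map_one]
      have := Nat.dvd_gcd (orderOf_dvd_of_pow_eq_one h1) (orderOf_dvd_of_pow_eq_one (s3d (e (π x))))
      rw [show 6 = 2 * 3 from rfl, Nat.Coprime.gcd_mul_right_cancel_right _
        (Nat.Coprime.pow_right n (by norm_num))] at this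
      exact orderOf_dvd_iff_pow_eq_one.1 (this.trans (Nat.gcd_dvd_right _ _))
    have := s3c (e (π x)) (e (π ⟨_, hy⟩)) ⟨by rw [← map_pow, ← map_pow, y3, map_one, map_one],
      fun z => y1 (e.map_eq_one_iff.1 z), sq x hx, by
        simp only [← map_inv, ← map_mul]
        refine sq _ ?_
        rw [mul_assoc x, mul_assoc x]
        exact mul_mem hx (Subgroup.Normal.conj_mem inferInstance _ (inv_mem hx) _)⟩
    exact (hπ x).1 (e.map_eq_one_iff.1 this)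
  have oy : orderOf (⟨_, hy⟩ : L) = 3 := orderOf_eq_prime y3 fun z => y1 (by rw [z, map_one])
  obtain ⟨X, hX⟩ := (IsPGroup.of_card (p := 3) (n := 1) (G := zpowers (⟨_, hy⟩ : L))
    (by rw [Nat.card_zpowers, oy, pow_one])).exists_le_sylow
  have os : orderOf (φ s8) = 2 := orderOf_eq_prime (by rw [pow_two, ← map_mul, a2, map_one])
    fun z => a1 (inj (z.trans (map_one φ).symm))
  have big : 20160 ≤ Nat.card G := by
    have := Nat.card_le_card_of_injective φ inj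
    rw [nat_card_alternatingGroup, Nat.card_fin] at this
    norm_num [Nat.factorial] at this
    exact this
  rcases t44 (φ s8) os L rfl Q (by rw [pc, subgroupOf_map_subtype, inf_eq_left.2 le]) ex c
    ((QuotientGroup.quotientMulEquivOfEq pc).trans e) X (le_antisymm (fun x hx => cy x hx.1
      (hx.2 _ (mem_map_of_mem _ (hX (mem_zpowers _)))).symm) (zpowers_le.2 ⟨sQ, by
        rintro _ ⟨u, -, rfl⟩
        exact mem_centralizer_singleton_iff.1 u.2⟩))
    ⟨φ h8, by rwa [← map_inv, ← map_mul, ← map_mul, a13], by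
      rw [← map_inv, ← map_mul, ← map_mul, a13]; exact fun z => a14 (inj z)⟩ with
    ⟨N, _, -, -, cN, ⟨i⟩⟩ | i | ⟨⟨i⟩⟩ | ⟨⟨i⟩⟩
  · exfalso
    have h1 : Nat.card (Matrix.ProjectiveSpecialLinearGroup (Fin 3) (ZMod 2)) ≤ 512 :=
      (Nat.card_le_card_of_surjective _ (QuotientGroup.mk'_surjective _)).trans
        ((Nat.card_le_card_of_injective _ Subtype.val_injective).trans (by
          simp [Matrix, Nat.card_eq_fintype_card]))
    rw [card_eq_card_quotient_mul_card_subgroup N, cN, Nat.card_congr i.toEquiv] at big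
    omega
  · exact i
  · exfalso
    rw [Nat.card_congr i.toEquiv, nat_card_alternatingGroup, Nat.card_fin] at n27
    norm_num [Nat.factorial] at n27
  · exfalso
    rw [Nat.card_congr i.toEquiv, H29.card_M12] at n27
    norm_num at n27

end H18.Fin8
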