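import Cfsg.Agent.H25.M11b
import Cfsg.Agent.H25.Tri5
import Cfsg.Agent.H19.Ht4

/-! Simple groups of order 95040: general tools. -/

set_option autoImplicit false
set_option linter.unusedSectionVars false

namespace H18.M12

open Cfsg H19 Subgroup H2 H25
open H17 hiding dg
open H20 (cent nrm)

variable {G : Type*} [Group G] [Finite G]

theorem iv_four (hG : commutator G = ⊤) {u : G} (hu : u ^ 2 = 1) (χ : IrrCharacter G) :
    ∃ k : ℕ, (dg χ : ℤ) = iv χ u + 4 * k := by
  classical
  have hχ := χ.2.isCharacter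
  obtain ⟨n, l, hn, hl⟩ := (hχ.restrict (zpowers u)).exists_sum_linear (ch_comm_zpowers u)
  set v : zpowers u := ⟨u, mem_zpowers u⟩
  have h3 := ch_det_prod hG hχ (zpowers u).subtype l hl v
  have hv : ∀ i, l i v = 1 ∨ l i v = -1 := fun i => by
    have : (l i v) ^ 2 = 1 := by
      rw [← map_pow, show v ^ 2 = 1 from Subtype.ext hu, map_one]
    rw [sq, ← Units.val_eq_one, Units.val_mul, mul_self_eq_one_iff] at this
    exact this.imp (fun e => Units.ext e) fun e => Units.ext (by simpa using e)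
  set S := Finset.univ.filter fun i => l i v = -1 with hS
  have e1 : ∏ i, l i v = (-1) ^ S.card := by
    rw [← Finset.prod_filter_mul_prod_filter_not Finset.univ (fun i => l i v = -1),
      Finset.prod_congr rfl (g := fun _ => -1) fun i hi => (Finset.mem_filter.1 hi).2,
      Finset.prod_const, Finset.prod_eq_one fun i hi =>
        (hv i).resolve_right (Finset.mem_filter.1 hi).2, mul_one]
  have e2 : (χ : G → ℂ) u = n - 2 * S.card := by
    have := hl v
    simp only [v] at this
    rw [this, Finset.sum_congr rfl (g := fun i => (1 : ℂ) - 2 * if l i v = -1 then 1 else 0)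
      fun i _ => by
        rcases hv i with e | e
        · have : l i v ≠ -1 := by rw [e]; intro h; have := congrArg Units.val h; norm_num at this
          simp only [v] at e this; simp [e, this, v]
        · simp only [v] at e; simp [e, v]; norm_num]
    rw [Finset.sum_sub_distrib, ← Finset.mul_sum, Finset.sum_boole]
    simp [hS]
  rw [e1, neg_one_pow_eq_one_iff_even (by
    intro h; have := congrArg Units.val h; norm_num at this)] at h3
  obtain ⟨k, hk⟩ := h3
  refine ⟨k, ?_⟩
  have e3 := (ratE_of_two hu).cast χ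
  have e4 : (dg χ : ℂ) = n := by rw [cast_deg]; simpa using hn
  rw [e2, hk, ← e4] at e3
  exact_mod_cast (by push_cast at e3 ⊢; linear_combination -e3 : (dg χ : ℂ) = iv χ u + 4 * k)

theorem iv_lt [IsSimpleGroup G] (hG : ¬ IsMulCommutative G) {χ : IrrCharacter G}
    (h : χ ≠ triv G) {g : G} (hg : RatE g) (h1 : g ≠ 1) :
    -(dg χ : ℤ) < iv χ g ∧ iv χ g < dg χ := by
  rw [← abs_lt]
  have l := χ.2.isCharacter.norm_le g
  have n : ‖(χ : G → ℂ) g‖ ≠ (dg χ : ℕ) := fun e => h (eq_triv_of_charCenter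
    (by by_contra! h'; exact hG ⟨⟨h'⟩⟩) h1
    ((χ.2.isCharacter.mem_charCenter' (cast_deg χ).symm).2 e))
  rw [← hg.cast, ← cast_deg, Complex.norm_intCast] at l
  rw [← hg.cast, Complex.norm_intCast] at n
  have l' : |(iv χ g : ℝ)| ≤ (dg χ : ℕ) := by simpa using l
  exact_mod_cast lt_of_le_of_ne l' n

def solG (g : ℤ → List ℤ → Bool) (n p e d v : ℕ) : Bool :=
  ((Filt.degs n p e d v).filter fun w : ℤ => w % p == e).any fun w =>
    Filt.search (fun L => Filt.fin n p e d w L && !g w L)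
      ((Filt.degs n p e d v).filter fun z : ℤ => z % p == 1)
      (e - 1) (w - 1) (n - 1 - ((p - 1) / e : ℕ) * (w * w)) []

theorem filt_good [IsSimpleGroup G] (hG : ¬ IsMulCommutative G) {p : ℕ} [hp : Fact p.Prime]
    {O : ValuationSubring ℂ} [CharP (kk O) p] {P : Subgroup G} {e : ℕ}
    {X Y : Finset (IrrCharacter G)} {s : IrrCharacter G → ℤ} {ε : ℤ} (h : D1 p O P e X Y s ε)
    (hn : Nat.card G < 490000) {d v : ℕ} (hd : (cent P).index = d * e)
    (hv : Nat.card (cent P) = p * v) (g : ℤ → List ℤ → Bool)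
    (hg : solG g (Nat.card G) p e d v = false) {θ : IrrCharacter G} (hθ : θ ∈ Y) :
    ∃ l : List (IrrCharacter G), X.val = l ∧
      g (ε * dg θ) (l.map fun χ => s χ * dg χ) = true := by
  classical
  have hperf := sm_commutator_eq_top hG
  have hsq := h.sq_le hθ
  have hde : d * e ≠ 0 := hd ▸ index_ne_zero_of_finite
  have hv1 : cent P ≤ P → v = 1 := by
    intro h1
    rw [le_antisymm h1 h.af.comm, h.card] at hv
    exact (Nat.eq_of_mul_eq_mul_left hp.out.pos (by rw [← hv, mul_one])).symm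
  have hdeg : ∀ χ ∈ irr (B0 O G), χ ≠ triv G → dg χ ∣ d * e → dg χ ^ 2 ≤ Nat.card G → ∀ z : ℤ,
      z.natAbs = dg χ → z ∈ Filt.degs (Nat.card G) p e d v := by
    intro χ h1 h2 h3 h4 z hz
    refine Filt.mem_degs hn hde ?_ (hz ▸ h3) ?_ ?_
    · have := ch_deg_ne_one hperf h2
      have := dg_pos χ
      rw [hz]; unfold dg at *; omega
    · rw [← Int.natAbs_mul_self' z, hz]; exact_mod_cast sq (dg χ) ▸ h4
    · rw [hz]
      by_contra h5
      push Not at h5
      exact h5.1 (hv1 (h.cent_le_of_small hperf h1 h5.2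
        (χ.2.charKer_eq_bot_of_simple fun e => h2 (Subtype.ext e))))
  have ht := h.cardY'
  by_contra! hc
  rw [← Bool.not_eq_true] at hg
  apply hg
  simp only [solG, List.any_eq_true, List.mem_filter, beq_iff_eq]
  refine ⟨ε * dg θ, ⟨?_, h.modY hθ⟩, ?_⟩
  · refine hdeg θ (h.Y_mem hθ) (h.Y_ne hθ) (hd ▸ h.dvdY hθ) ?_ _ (h.natAbsY θ)
    have := Nat.le_mul_of_pos_left (dg θ ^ 2) h.Y_nonempty.card_pos
    omega
  have key := Filt.search_sound (fun L => Filt.fin (Nat.card G) p e d (ε * dg θ) L &&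
      !g (ε * dg θ) L) ((Filt.degs (Nat.card G) p e d v).filter fun z : ℤ => z % p == 1)
    (X.val.map fun χ => s χ * dg χ)
    (Nat.card G - 1 - ((p - 1) / e : ℕ) * (ε * dg θ * (ε * dg θ))) [] ?_ ?_ fun L hL => ?_
  · have c : (X.val.map fun χ => s χ * (dg χ : ℤ)).card = e - 1 := by
      have := h.cardX
      simp only [Multiset.card_map, Finset.card_val]; omega
    have c2 : (X.val.map fun χ => s χ * (dg χ : ℤ)).sum = ε * dg θ - 1 := by
      rw [h.eqn_deg hθ]; simp
    rwa [c, c2] at key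
  · intro z hz
    obtain ⟨χ, hχ, rfl⟩ := Multiset.mem_map.1 hz
    simp only [List.mem_filter, beq_iff_eq]
    refine ⟨hdeg χ (h.X_mem hχ) (h.X_ne hχ) (hd ▸ h.dvdX hχ) ?_ _ (h.natAbsX hχ), h.modX hχ⟩
    have := Finset.single_le_sum (f := fun χ => dg χ ^ 2) (fun _ _ => Nat.zero_le _) hχ
    omega
  · rw [Multiset.map_map, ← ht]
    have e1 : (X.val.map ((fun z => z * z) ∘ fun χ => s χ * (dg χ : ℤ))).sum =
        ((∑ χ ∈ X, dg χ ^ 2 : ℕ) : ℤ) := by
      push_cast
      exact Finset.sum_congr rfl fun χ hχ => by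
        rcases h.sgn χ hχ with h1 | h1 <;> simp [h1, sq]
    have e2 : ε * dg θ * (ε * dg θ) = (dg θ ^ 2 : ℕ) := by
      rcases h.eps with h1 | h1 <;> simp [h1, sq]
    rw [e1, e2]
    have : ((1 + ∑ χ ∈ X, dg χ ^ 2 + Y.card * dg θ ^ 2 : ℕ) : ℤ) ≤ Nat.card G := by
      exact_mod_cast hsq
    push_cast at this ⊢
    omega
  · rw [Multiset.coe_nil, add_zero] at hL
    rw [Bool.and_eq_true]
    constructor
    · refine Filt.fin_sound fun q hq => ?_
      haveI : Fact q.Prime := ⟨hq⟩
      obtain ⟨O', _, f, hf, hal⟩ := filt_al hG q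
      obtain ⟨k, -, hk⟩ := (Nat.dvd_prime_pow hq).1 (Nat.gcd_dvd_left (q ^ 20) (d * e))
      have hk' : q ^ k ∣ (cent P).index := by rw [hd, ← hk]; exact Nat.gcd_dvd_right _ _
      have e1 : ((X.filter (· ∈ irr (B0 O' G))).val.map fun χ => s χ * (dg χ : ℤ)).sum =
          ∑ χ ∈ X with χ ∈ irr (B0 O' G), s χ * dg χ := rfl
      have e2 : (if triv G ∈ irr (B0 O' G) then (1 : ℤ) else 0) = 1 := if_pos triv_mem_B0
      refine Filt.btq_sound hf ((X.filter (· ∈ irr (B0 O' G))).val.map fun χ => s χ * dg χ)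
        (hL ▸ Multiset.map_le_map (Finset.val_le_iff.2 (Finset.filter_subset _ _))) ?_
        (Y.filter (· ∈ irr (B0 O' G))).card (ht ▸ Finset.card_filter_le _ _) ?_ ?_ ?_ ?_
      · intro z hz
        obtain ⟨χ, hχ, rfl⟩ := Multiset.mem_map.1 hz
        have h1 := Finset.mem_filter.1 hχ
        exact hal χ h1.2 (h.X_ne h1.1) _ (h.natAbsX h1.1)
      · intro h1
        rw [hk, e1, ← e2]
        exact_mod_cast h.bt_zero _ hk' (Finset.filter_eq_empty_iff.1 (Finset.card_eq_zero.1 h1))
      · intro h1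
        obtain ⟨θ', h2⟩ := Finset.card_ne_zero.1 h1
        have h3 := Finset.mem_filter.1 h2
        exact hal θ' h3.2 (h.Y_ne h3.1) _ ((h.natAbsY θ).trans (h.degY_eq hθ h3.1))
      · intro h1
        rw [hk, e1, ← e2]
        exact_mod_cast h.bt_all _ hk' hθ (Finset.card_filter_eq_iff.1 (h1.trans ht.symm))
      · have := h.bt_sum (B0 O' G) hk' hθ
        rw [e2] at this
        rw [hk, e1]
        exact_mod_cast this
    · obtain ⟨l0, hl0⟩ := Quotient.exists_rep X.val
      have hl1 : X.val = (l0 : Multiset _) := hl0.symm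
      rw [hl1, Multiset.map_coe, Multiset.coe_eq_coe] at hL
      obtain ⟨l, e1, e2⟩ : ∃ l : List (IrrCharacter G),
          L = l.map (fun χ => s χ * (dg χ : ℤ)) ∧ l.Perm l0 := by
        have := congrFun (congrFun (List.eq_map_comp_perm (fun χ => s χ * (dg χ : ℤ))) L) l0
        rw [← this] at hL
        obtain ⟨l, e1, e2⟩ := hL
        exact ⟨l, e1, e2⟩
      have := hc l (hl1.trans (Multiset.coe_eq_coe.2 e2.symm))
      rw [e1]
      simpa using this

theorem no33 {α : Type*} [Fintype α] [DecidableEq α] (hα : Fintype.card α = 12)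
    (σ : Equiv.Perm α) : orderOf σ ≠ 33 := by
  intro h
  rw [← Equiv.Perm.lcm_cycleType] at h
  have hs := σ.sum_cycleType_le
  have key : ∀ p : ℕ, p.Prime → p ∣ σ.cycleType.lcm → ∃ n ∈ σ.cycleType, p ∣ n := fun p hp hd => by
    exact hp.prime.exists_mem_multiset_dvd (hd.trans (Multiset.lcm_dvd.2
        fun b hb => Multiset.dvd_prod hb))
  obtain ⟨a, ha, h11⟩ := key 11 (by norm_num) (by rw [h]; norm_num)
  obtain ⟨b, hb, h3⟩ := key 3 (by norm_num) (by rw [h]; norm_num)
  have a2 := Equiv.Perm.two_le_of_mem_cycleType ha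
  have b2 := Equiv.Perm.two_le_of_mem_cycleType hb
  have la := Multiset.single_le_sum (fun _ _ => Nat.zero_le _) a ha
  obtain ⟨M, hM⟩ := Multiset.exists_cons_of_mem ha
  have hb' : b ∈ M := by
    rw [hM, Multiset.mem_cons] at hb
    exact hb.resolve_left (by omega)
  have lb := Multiset.single_le_sum (fun _ _ => Nat.zero_le _) b hb'
  rw [hM, Multiset.sum_cons] at hs
  omega

theorem par11 [IsSimpleGroup G] (hn : Nat.card G = 95040) (P : Sylow 11 G) :
    Nat.card (P : Subgroup G) = 11 ∧ Nat.card (Sylow 11 G) = 1728 ∧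
      (cent (P : Subgroup G)).relIndex (nrm (P : Subgroup G)) = 5 ∧ cent (P : Subgroup G) ≤ P := by
  classical
  have hG : ¬ IsMulCommutative G := sm_noncomm_of_card (by rw [hn]; norm_num)
  have hP := sm_sylow_prime (by rw [hn]; norm_num) (by rw [hn]; norm_num) P
  obtain ⟨v, hv, h⟩ := filt_par hG (by omega) (by norm_num) P hP
  rw [hn, show Filt.par 95040 11 = [(144, 10, 6), (1728, 5, 1)] by decide +kernel] at h
  simp only [List.mem_cons, Prod.mk.injEq, List.not_mem_nil, or_false] at h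
  rcases h with ⟨h1, h2, rfl⟩ | ⟨h1, h2, rfl⟩
  swap
  · exact ⟨hP, h1, h2, (eq_of_le_of_card_ge (sm_le_cent hP) (hv.trans hP.symm).le).ge⟩
  exfalso
  haveI : Fact (Nat.Prime 3) := ⟨Nat.prime_three⟩
  obtain ⟨⟨k, hk⟩, k3⟩ := exists_prime_orderOf_dvd_card' (G := cent (P : Subgroup G)) 3
    (by rw [hv]; norm_num)
  rw [← orderOf_coe] at k3
  simp only at k3
  obtain ⟨a, ha, a1⟩ := sm_exists_ne_one hP
  have oa := sm_orderOf_eq hP ha a1
  have c : Commute a k := hk a ha
  have oz : orderOf (a * k) = 33 := by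
    rw [c.orderOf_mul_eq_mul_orderOf_of_coprime, oa, k3]
    rw [oa, k3]; norm_num
  have zC : zpowers (a * k) ≤ cent (P : Subgroup G) :=
    zpowers_le.2 (mul_mem (sm_le_cent hP ha) hk)
  have i2 : ((zpowers (a * k)).subgroupOf (cent (P : Subgroup G))).index = 2 := by
    have := ((zpowers (a * k)).subgroupOf (cent (P : Subgroup G))).index_mul_card
    rw [Nat.card_congr (subgroupOfEquivOfLe zC).toEquiv, Nat.card_zpowers, oz, hv] at this
    omega
  have k3' : k ^ 3 = 1 := k3 ▸ pow_orderOf_eq_one k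
  have a11 : a ^ 11 = 1 := oa ▸ pow_orderOf_eq_one a
  have hN : nrm (P : Subgroup G) ≤ nrm (zpowers k) := fun g hg => by
    refine sm_mem_normalizer_zpowers ?_
    have m : g * k * g⁻¹ ∈ cent (P : Subgroup G) := fun x hx => by
      have h3 := hk _ ((mem_normalizer_iff''.1 hg x).1 hx)
      calc x * (g * k * g⁻¹) = g * (g⁻¹ * x * g * k) * g⁻¹ := by group
        _ = _ := by rw [h3]; group
    have m2 := sq_mem_of_index_two i2 (⟨_, m⟩ ^ 2)
    rw [mem_subgroupOf, mem_zpowers_iff] at m2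
    obtain ⟨j, hj⟩ := m2
    have e4 : (g * k * g⁻¹) ^ 3 = 1 := by rw [conj_pow, k3']; simp
    have e5 : g * k * g⁻¹ = ((a * k) ^ j) ^ 22 := by
      rw [hj]
      simp only [SubmonoidClass.coe_pow, ← pow_mul]
      rw [show 2 * 2 * 22 = 3 * 29 + 1 from rfl, pow_succ, pow_mul, e4, one_pow, one_mul]
    rw [e5, ← zpow_natCast, ← zpow_mul, mul_comm j, zpow_mul, zpow_natCast, c.mul_pow,
      show 22 = 11 * 2 from rfl, pow_mul, a11, one_pow, one_mul]
    exact zpow_mem (pow_mem (mem_zpowers k) _) _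
  set L := nrm (zpowers k) with hL
  have hPL : (P : Subgroup G) ≤ L := le_normalizer.trans hN
  have h9 : 3 ^ (1 + 1) ∣ Nat.card L := Sylow.prime_pow_dvd_card_normalizer
    (by rw [hn]; norm_num) (by rw [Nat.card_zpowers, k3, pow_one])
  have Lt : L ≠ ⊤ := sm_normalizer_ne_top
    (fun e => by have := Nat.card_zpowers k; rw [e, card_bot] at this; omega)
    (fun e => by have := Nat.card_zpowers k; rw [e, card_top] at this; omega)
  have cN : Nat.card (nrm (P : Subgroup G)) = 660 := by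
    have := sm_sylow_mul P
    rw [h1, hn] at this
    change 144 * Nat.card (nrm (P : Subgroup G)) = _ at this
    omega
  have s1 := sm_sylow_mul (P.subtype hPL)
  have s2 := card_sylow_modEq_one 11 L
  rw [Sylow.coe_subtype, ← subgroupOf_normalizer_eq hPL,
    Nat.card_congr (subgroupOfEquivOfLe hN).toEquiv, cN] at s1
  have s3 := L.index_mul_card
  have s4 : L.index ≠ 1 := fun e' => Lt (index_eq_one.1 e')
  rw [hn, ← s1] at s3
  rw [← s1] at h9
  have s6 : L.index * Nat.card (Sylow 11 L) = 144 := by nlinarith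
  have s7 : Nat.card (Sylow 11 L) ≤ 144 := Nat.le_of_dvd (by norm_num) (Dvd.intro_left _ s6)
  have s8 : L.index = 12 := by
    unfold Nat.ModEq at s2
    generalize Nat.card (Sylow 11 L) = m at s2 s6 s7 h9
    generalize L.index = i at s4 s6
    have k : ∀ m < 145, m % 11 = 1 % 11 → 3 ^ (1 + 1) ∣ m * 660 → m ∣ 144 → m = 12 ∨ m = 144 := by
      decide +kernel
    rcases k m (by omega) s2 h9 (Dvd.intro_left _ s6) with rfl | rfl <;> omega
  obtain ⟨f, hf⟩ := sm_embed_alt hG L Lt
  generalize L.index = m at f hf s8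
  subst s8
  refine no33 (α := Fin 12) (Fintype.card_fin 12) (f (a * k)) ?_
  rw [orderOf_coe, orderOf_injective f hf, oz]

end H18.M12
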