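import Cfsg.Agent.H18.M12a

/-! Simple groups of order 95040: the principal 11-block and elements of order five. -/

set_option autoImplicit false
set_option linter.unusedSectionVars false

namespace H18.M12

open Cfsg H19 Subgroup H2 H25
open H17 hiding dg
open H20 (cent nrm)

variable {G : Type*} [Group G] [Finite G]

theorem sum_zp (w : G) [Fintype (zpowers w)] (F : G → ℂ) :
    ∑ x : zpowers w, F x = ∑ k ∈ Finset.range (orderOf w), F (w ^ k) := by
  rw [← (finEquivZPowers (isOfFinOrder_of_finite w)).sum_comp,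
    ← Fin.sum_univ_eq_sum_range (fun k => F (w ^ k))]
  rfl

theorem ten {w : G} (hw : orderOf w = 10) (χ : IrrCharacter G) :
    ∃ m : ℕ, ∑ k ∈ Finset.range 10, (χ : G → ℂ) (w ^ k) = 10 * m := by
  haveI := Fintype.ofFinite (zpowers w)
  obtain ⟨m, hm⟩ := ch_sum_sub χ.2.isCharacter (zpowers w)
  rw [sum_zp, Nat.card_zpowers, hw] at hm
  exact ⟨m, by exact_mod_cast hm⟩

theorem small [IsSimpleGroup G] (hn : Nat.card G = 95040) {w : G} (hw : orderOf w = 10)
    {χ : IrrCharacter G} (h1 : χ ≠ triv G) : dg χ ≠ 5 ∧ dg χ ≠ 10 := by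
  have hG : ¬ IsMulCommutative G := sm_noncomm_of_card (by rw [hn]; norm_num)
  by_cases h5 : 5 ∣ dg χ
  swap
  · omega
  obtain ⟨m, hm⟩ := ten hw χ
  have z : ∀ k, 5 ∣ 10 / Nat.gcd 10 k → (χ : G → ℂ) (w ^ k) = 0 := fun k hk =>
    dz_vanish (p := 5) (k := 1) (m := 19008) hn (by norm_num) (by simpa using h5)
      (by rwa [orderOf_pow, hw])
  have t2 : (w ^ 5) ^ 2 = 1 := by rw [← pow_mul]; exact orderOf_dvd_iff_pow_eq_one.1 (by rw [hw])
  have t1 : w ^ 5 ≠ 1 := pow_ne_one_of_lt_orderOf (by norm_num) (by omega)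
  simp only [Finset.sum_range_succ, Finset.sum_range_zero, z 1 (by decide), z 2 (by decide),
    z 3 (by decide), z 4 (by decide), z 6 (by decide), z 7 (by decide), z 8 (by decide),
    z 9 (by decide), pow_zero, ← (ratE_of_two t2).cast χ, ← cast_deg] at hm
  have hm' : (dg χ : ℤ) + iv χ (w ^ 5) = 10 * m := by
    exact_mod_cast (by linear_combination hm : (dg χ : ℂ) + iv χ (w ^ 5) = 10 * m)
  obtain ⟨k, hk⟩ := iv_four (sm_commutator_eq_top hG) t2 χ
  have := iv_lt hG h1 (ratE_of_two t2) t1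
  omega

section
variable {O : ValuationSubring ℂ} [CharP (kk O) 11] {P : Subgroup G}
  {X Y : Finset (IrrCharacter G)} {s : IrrCharacter G → ℤ} {ε : ℤ}

theorem dvd11 (h : D1 11 O P 5 X Y s ε) (hC : cent P ≤ P) {χ : IrrCharacter G}
    (hχ : χ ∉ irr (B0 O G)) : 11 ∣ dg χ := by
  haveI := Fintype.ofFinite P
  obtain ⟨m, hm⟩ := ch_sum_sub χ.2.isCharacter P
  rw [ch_sum_const (fun x : P => (χ : G → ℂ) x) 0 fun x hx =>
    h.zero_of_not_mem hC hχ (h.sing x.2 fun e => hx (Subtype.ext e)),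
    h.card, mul_zero, add_zero, OneMemClass.coe_one, ← cast_deg] at hm
  exact ⟨m, by exact_mod_cast hm⟩

theorem st11 (h : D1 11 O P 5 X Y s ε) (hC : cent P ≤ P) {a : G} (ha : 11 ∣ orderOf a)
    {θ : IrrCharacter G} (hθ : θ ∈ Y) {g k : G} (hg : ¬ 11 ∣ orderOf g) (hk : ¬ 11 ∣ orderOf k) :
    (Nat.card G : ℂ) * (1 + ∑ χ ∈ X, (χ : G → ℂ) g * (χ : G → ℂ) k / (s χ * dg χ : ℤ) -
      (θ : G → ℂ) g * (θ : G → ℂ) k / (ε * dg θ : ℤ)) =
      (cz g⁻¹ : ℂ) * cz k⁻¹ * ncl g⁻¹ k⁻¹ a := by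
  classical
  rw [← struct_const, h.sum_all, Finset.sum_eq_zero (s := Finset.univ.filter _) fun χ hχ => by
    rw [h.zero_of_not_mem hC (Finset.mem_filter.1 hχ).2 ha]; simp]
  congr 1
  have e1 : ∑ χ ∈ Y, (χ : G → ℂ) g⁻¹⁻¹ * (χ : G → ℂ) k⁻¹⁻¹ * (χ : G → ℂ) a / (χ : G → ℂ) 1 =
      (θ : G → ℂ) g * (θ : G → ℂ) k / (θ : G → ℂ) 1 * -ε := by
    rw [← h.sumY ha, Finset.mul_sum]
    refine Finset.sum_congr rfl fun χ hχ => ?_
    rw [inv_inv, inv_inv, h.regY hχ hθ hg, h.regY hχ hθ hk, h.regY hχ hθ (g := 1) (by simp)]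
    ring
  rw [e1, Finset.sum_congr rfl (g := fun χ : IrrCharacter G =>
    (χ : G → ℂ) g⁻¹⁻¹ * (χ : G → ℂ) k⁻¹⁻¹ * (χ : G → ℂ) a / (χ : G → ℂ) 1) fun χ hχ => ?_]
  · push_cast
    rw [cast_deg]
    rcases h.eps with e | e <;> simp [e] <;> ring
  · rw [inv_inv, inv_inv, h.valX χ hχ a ha]
    push_cast
    rw [cast_deg]
    rcases h.sgn χ hχ with e | e <;> simp [e] <;> ring

end

theorem frob [IsSimpleGroup G] (hn : Nat.card G = 95040) (P : Sylow 11 G) :
    ∃ a ∈ (P : Subgroup G), ∃ y ∈ nrm (P : Subgroup G), orderOf a = 11 ∧ orderOf y = 5 ∧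
      y * a * y⁻¹ = a ^ 3 := by
  classical
  obtain ⟨hP, n11, e11, hC⟩ := par11 hn P
  obtain ⟨a, ha, a1⟩ := sm_exists_ne_one hP
  obtain ⟨y, hy, y5, -⟩ := af_exists_gen hP hC e11 (by norm_num)
  have oa := sm_orderOf_eq hP ha a1
  have m := (mem_normalizer_iff.1 hy a).1 ha
  rw [← sm_zpowers_eq hP ha a1, mem_zpowers_iff_mem_range_orderOf, oa, Finset.mem_image] at m
  obtain ⟨k, hk, m⟩ := m
  rw [Finset.mem_range] at hk
  have h5 := conj_pow_iter m.symm 5
  rw [← y5, pow_orderOf_eq_one, y5, one_mul, inv_one, mul_one] at h5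
  nth_rw 1 [← pow_one a] at h5
  rw [pow_eq_pow_iff_modEq, oa] at h5
  have k1 : k ≠ 1 := by
    rintro rfl
    rw [pow_one, eq_mul_inv_iff_mul_eq] at m
    rw [cent, sm_cent_eq hP ha a1] at hC
    have := orderOf_dvd_natCard (⟨y, hC (mem_centralizer_singleton_iff.2 m.symm)⟩ : (P : Subgroup G))
    rw [hP, ← orderOf_coe, y5] at this
    omega
  obtain ⟨j, -, j5, hj⟩ : ∃ j < 5, j.Coprime 5 ∧ k ^ j ≡ 3 [MOD 11] :=
    (by decide : ∀ k < 11, 1 ≡ k ^ 5 [MOD 11] → k ≠ 1 →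
      ∃ j < 5, j.Coprime 5 ∧ k ^ j ≡ 3 [MOD 11]) k hk h5 k1
  refine ⟨a, ha, y ^ j, pow_mem hy j, oa, ?_, ?_⟩
  · rw [Nat.Coprime.orderOf_pow (y5 ▸ j5.symm), y5]
  · rw [conj_pow_iter m.symm, pow_eq_pow_iff_modEq, oa]; exact hj

theorem ncl_real [IsSimpleGroup G] (hn : Nat.card G = 95040) {a g : G} (ha : orderOf a = 11)
    (hg : g ^ 2 = 1) : ncl g g a = 0 := by
  by_contra h
  obtain ⟨⟨s, t⟩, hs, ht, e⟩ := Set.nonempty_of_ncard_ne_zero h
  have sq : ∀ s, IsConj g s → s * s = 1 := fun s hs => by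
    obtain ⟨c, rfl⟩ := isConj_iff.1 hs
    rw [← pow_two, conj_pow, hg]; simp
  simp only at hs ht e
  have h1 : s * a * s⁻¹ = a⁻¹ := by
    rw [← e, mul_inv_rev, inv_eq_of_mul_eq_one_right (sq t ht), ← mul_assoc, sq s hs, one_mul]
  obtain ⟨P, hP'⟩ := (IsPGroup.of_card (p := 11) (n := 1) (G := zpowers a)
    (by rw [Nat.card_zpowers, ha, pow_one])).exists_le_sylow
  obtain ⟨hP, n11, -, -⟩ := par11 hn P
  have a1 : a ≠ 1 := fun e => by simp [e] at ha
  have cN : Nat.card (nrm (P : Subgroup G)) = 55 := by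
    have := sm_sylow_mul P
    rw [n11, hn] at this
    change 1728 * Nat.card (nrm (P : Subgroup G)) = _ at this
    omega
  have m : s ∈ nrm (P : Subgroup G) := by
    rw [← sm_zpowers_eq hP (hP' (mem_zpowers a)) a1]
    exact sm_mem_normalizer_zpowers (h1 ▸ inv_mem (mem_zpowers a))
  have d1 := orderOf_dvd_natCard (⟨s, m⟩ : nrm (P : Subgroup G))
  rw [cN, ← orderOf_coe] at d1
  have d2 : orderOf s ∣ 2 := orderOf_dvd_of_pow_eq_one (by rw [pow_two, sq s hs])
  have s1 : s = 1 := orderOf_eq_one_iff.1 (Nat.eq_one_of_dvd_coprimes (by norm_num) d1 d2)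
  rw [s1, one_mul, inv_one, mul_one, eq_inv_iff_mul_eq_one, ← pow_two,
    ← orderOf_dvd_iff_pow_eq_one, ha] at h1
  omega

theorem sq9 (u : ℤ) : u ^ 2 % 9 = 0 ∨ u ^ 2 % 9 = 1 ∨ u ^ 2 % 9 = 4 ∨ u ^ 2 % 9 = 7 := by
  rcases (by omega : u % 9 = 0 ∨ u % 9 = 1 ∨ u % 9 = 2 ∨ u % 9 = 3 ∨ u % 9 = 4 ∨ u % 9 = 5 ∨
    u % 9 = 6 ∨ u % 9 = 7 ∨ u % 9 = 8) with h | h | h | h | h | h | h | h | h <;>
    simp [sq, Int.mul_emod, h]

theorem no45 (x : ℤ) (N : ℕ) : 176 * (360 + x ^ 2) ≠ 81 * N := fun h => by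
  have h3 : (3 : ℤ) ∣ x := Int.prime_three.dvd_of_dvd_pow (n := 2) (by omega)
  obtain ⟨k, rfl⟩ := h3
  rw [mul_pow] at h
  have := sq9 k
  omega

def g11 (w : ℤ) (L : List ℤ) : Bool :=
  w == 5 || L.contains (-10) || (w == 16 && L == [144, -120, -54, 45]) ||
    (w == 27 && L == [144, -54, -32, -32]) || (w != 16 && !L.contains 144)

def g12 (w : ℤ) (L : List ℤ) : Bool := L.count 12 ≤ 1 || (w == 5 && L == [12, 12, -10, -10]) ||
  (w == 27 && L == [12, 12, 12, -10]) || (w == 60 && L == [45, 12, 12, -10])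

def g5 (w : ℤ) (L : List ℤ) : Bool :=
  (w :: L).any fun z => [16, 144, 24, 36, 96].contains z.natAbs

theorem e_two [IsSimpleGroup G] (hn : Nat.card G = 95040) (Q : Sylow 5 G) :
    (cent (Q : Subgroup G)).relIndex (nrm (Q : Subgroup G)) ≠ 2 := by
  classical
  intro e5
  have hG : ¬ IsMulCommutative G := sm_noncomm_of_card (by rw [hn]; norm_num)
  obtain ⟨P⟩ : Nonempty (Sylow 11 G) := inferInstance
  obtain ⟨hP, n11, e11, hC⟩ := par11 hn P
  obtain ⟨O, _, hO⟩ := exists_ovp 11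
  obtain ⟨X, Y, s, ε, h⟩ := d1_exists hO (by norm_num) P hP
  have hi : (cent (P : Subgroup G)).index = 1728 * 5 := by rw [sm_index_cent, n11, e11]
  rw [e11] at h
  have hv : Nat.card (cent (P : Subgroup G)) = 11 * 1 := by
    rw [le_antisymm hC (sm_le_cent hP), hP]
  have hQ := sm_sylow_prime (by rw [hn]; norm_num) (by rw [hn]; norm_num) Q
  obtain ⟨v, hv5, hp⟩ := filt_par hG (by omega) (by norm_num) Q hQ
  rw [hn, e5, show Filt.par 95040 5 = [(66, 2, 144), (396, 2, 24), (396, 4, 12), (1056, 2, 9),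
    (2376, 2, 4), (2376, 4, 2)] by decide +kernel] at hp
  obtain ⟨O', _, hO'⟩ := exists_ovp 5
  obtain ⟨X', Y', s', ε', h'⟩ := d1_exists hO' (by norm_num) Q hQ
  have hi5 := sm_index_cent Q
  rw [e5] at h' hi5
  have d12 : ∀ θ ∈ Y', ε' * dg θ = 12 := fun θ hθ => by
    obtain ⟨l, -, hl⟩ := filt_good hG h' (by omega) hi5 hv5 (fun w _ => w == 12) (by
      simp only [List.mem_cons, Prod.mk.injEq, List.not_mem_nil, or_false] at hp
      rw [hn]
      rcases hp with ⟨e, -, rfl⟩ | ⟨e, -, rfl⟩ | ⟨-, e, -⟩ | ⟨e, -, rfl⟩ | ⟨e, -, rfl⟩ |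
        ⟨-, e, -⟩ <;> first | omega | (rw [e]; decide +kernel)) hθ
    simpa using hl
  have cY : Y'.card = 2 := by have := h'.cardY; omega
  obtain ⟨θ1, θ2, n12, hY'⟩ := Finset.card_eq_two.1 cY
  have mX : ∀ θ ∈ Y', θ ∈ X ∧ s θ * dg θ = 12 := fun θ hθ => by
    have := d12 θ hθ
    have e : dg θ = 12 := by rcases h'.eps with e | e <;> rw [e] at this <;> omega
    have m : θ ∈ irr (B0 O G) := by
      by_contra hm
      have := dvd11 h hC hm
      omega
    rcases (h.mem θ).1 m with m | m | m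
    · exact absurd m (h'.Y_ne hθ)
    · have := h.modX m
      exact ⟨m, by rcases h.sgn θ m with e' | e' <;> rw [e'] at this ⊢ <;> omega⟩
    · have := h.modY m
      rcases h.eps with e' | e' <;> rw [e'] at this <;> omega
  have m1 := mX θ1 (by simp [hY'])
  have m2 := mX θ2 (by simp [hY'])
  obtain ⟨θ, hθ⟩ := h.Y_nonempty
  obtain ⟨l, hl, hg⟩ := filt_good hG h (by omega) hi hv g12 (by rw [hn]; decide +kernel) hθ
  have cnt : 2 ≤ (l.map fun χ => s χ * (dg χ : ℤ)).count 12 := by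
    rw [← Multiset.coe_count, ← Multiset.map_coe, ← hl, Multiset.count_map]
    exact Finset.one_lt_card.2 ⟨θ1, Finset.mem_filter.2 ⟨m1.1, m1.2.symm⟩, θ2,
      Finset.mem_filter.2 ⟨m2.1, m2.2.symm⟩, n12⟩
  have ml : ∀ χ, χ ∈ X ↔ χ ∈ l := fun χ => by rw [← Finset.mem_val, hl, Multiset.mem_coe]
  have sl : ∀ {M : Type} [AddCommMonoid M] (F : IrrCharacter G → M),
      ∑ χ ∈ X, F χ = (l.map F).sum := fun F => by
    rw [Finset.sum, hl, Multiset.map_coe, Multiset.sum_coe]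
  obtain ⟨c1, c2, c3, c4, rfl⟩ : ∃ c1 c2 c3 c4, l = [c1, c2, c3, c4] := by
    have := h.cardX
    rw [← Finset.card_val, hl, Multiset.coe_card] at this
    exact List.length_eq_four.1 (by omega)
  simp only [g12, Bool.or_eq_true, decide_eq_true_eq, Bool.and_eq_true, beq_iff_eq] at hg
  have hg' := (or_assoc.1 (or_assoc.1 hg)).resolve_left (by omega)
  simp only [List.map_cons, List.map_nil, List.cons.injEq, and_true] at hg'
  have d4 : dg c4 = 10 := by
    rcases h.sgn c4 ((ml _).2 (by simp)) with e | e <;> rw [e] at hg' <;> omega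
  obtain ⟨y, hy, y1⟩ := sm_exists_ne_one hQ
  have oy := sm_orderOf_eq hQ hy y1
  have v9 : v = 9 := by
    by_contra h9
    have h2 : 2 ∣ v := by
      simp only [List.mem_cons, Prod.mk.injEq, List.not_mem_nil, or_false] at hp
      omega
    obtain ⟨⟨u, hu⟩, hu2⟩ := exists_prime_orderOf_dvd_card' (G := cent (Q : Subgroup G)) 2
      (hv5 ▸ h2.mul_left 5)
    rw [← orderOf_coe] at hu2
    simp only at hu2
    have c : Commute y u := hu y hy
    have o : orderOf (y * u) = 10 := by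
      rw [c.orderOf_mul_eq_mul_orderOf_of_coprime, oy, hu2]
      rw [oy, hu2]; norm_num
    exact (small hn o (h.X_ne ((ml _).2 (by simp)))).2 d4
  subst v9
  haveI := Fintype.ofFinite (Q : Subgroup G)
  set S := (Finset.univ : Finset (Q : Subgroup G)).erase 1 with hS
  have oS : ∀ g ∈ S, orderOf (g : G) = 5 := fun g hg =>
    sm_orderOf_eq hQ g.2 fun e => (Finset.mem_erase.1 hg).1 (Subtype.ext e)
  have cS : S.card = 4 := by
    rw [hS, Finset.card_erase_of_mem (Finset.mem_univ _), Finset.card_univ, ← Nat.card_eq_fintype_card,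
      hQ]
  have cz45 : ∀ g ∈ S, cz (g : G)⁻¹ = 45 := fun g hg => by
    rw [cz, ← sm_cent_eq hQ (inv_mem g.2) (by
      have := oS g hg
      intro e; rw [inv_eq_one] at e; simp [e] at this)]
    exact hv5
  have hu : ∀ χ : IrrCharacter G, ∃ u : ℤ, ∑ g ∈ S, (χ : G → ℂ) g = u := fun χ => by
    obtain ⟨m, hm⟩ := ch_sum_sub χ.2.isCharacter (Q : Subgroup G)
    rw [ch_sum_split, OneMemClass.coe_one, ← cast_deg] at hm
    exact ⟨Nat.card (Q : Subgroup G) * m - dg χ, by push_cast; linear_combination hm⟩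
  choose u hu using hu
  have u0 : ∀ χ, 5 ∣ dg χ → u χ = 0 := fun χ h5 => by
    have := hu χ
    rw [Finset.sum_eq_zero fun g hg => dz_vanish (p := 5) (k := 1) (m := 19008) hn (by norm_num)
      (by simpa using h5) (oS g hg).symm.dvd] at this
    exact_mod_cast this.symm
  have u2 : ∀ θ ∈ Y', u θ = -2 := fun θ hθ => by
    have e := h'.sumP_Y hθ
    rw [ch_sum_split, OneMemClass.coe_one, ← cast_deg, ← hS, hu] at e
    have e' : u θ = -ε' * 2 := by
      exact_mod_cast (by push_cast at e; linear_combination e : (u θ : ℂ) = -ε' * 2)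
    have := d12 θ hθ
    rcases h'.eps with e | e <;> rw [e] at this e' <;> omega
  obtain ⟨a, ha, a1⟩ := sm_exists_ne_one hP
  have key : (95040 : ℂ) * (16 + ∑ χ ∈ X, (u χ : ℂ) ^ 2 / (s χ * dg χ : ℤ) -
      (u θ : ℂ) ^ 2 / (ε * dg θ : ℤ)) = 2025 * (∑ g ∈ S, ∑ k ∈ S, ncl (g : G)⁻¹ (k : G)⁻¹ a : ℕ) := by
    have := Finset.sum_congr rfl fun g (hg : g ∈ S) => Finset.sum_congr rfl fun k (hk : k ∈ S) =>
      (st11 h hC (h.sing ha a1) hθ (g := g) (k := k) (by rw [oS g hg]; norm_num)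
        (by rw [oS k hk]; norm_num)).trans (by rw [cz45 g hg, cz45 k hk])
    simp only [← Finset.mul_sum, Finset.sum_add_distrib, Finset.sum_sub_distrib, Finset.sum_const,
      cS, hn] at this
    push_cast at this ⊢
    rw [← show (45 : ℂ) * 45 = 2025 by norm_num, ← this]
    congr 3
    · norm_num
    · simp only [← hu, sq, Finset.sum_mul_sum, Finset.sum_div]
      rw [Finset.sum_comm]
      exact Finset.sum_congr rfl fun g _ => Finset.sum_comm
    · simp only [← hu, sq, Finset.sum_mul_sum, Finset.sum_div]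
  have eq : (ε : ℂ) * u θ = 4 + ∑ χ ∈ X, (s χ : ℂ) * u χ := by
    have := Finset.sum_congr rfl fun g (hg : g ∈ S) => h.eqn θ hθ g (by rw [oS g hg]; norm_num)
    rw [← Finset.mul_sum, hu, Finset.sum_add_distrib, Finset.sum_comm] at this
    simp only [← Finset.mul_sum, hu, Finset.sum_const, cS] at this
    rw [this]; norm_num
  generalize (∑ g ∈ S, ∑ k ∈ S, ncl (g : G)⁻¹ (k : G)⁻¹ a : ℕ) = N at key
  rw [sl] at key eq
  simp only [List.map_cons, List.map_nil, List.sum_cons, List.sum_nil] at key eq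
  have dz : ∀ χ ∈ X, ∀ z : ℤ, s χ * dg χ = z → 5 ∣ z → u χ = 0 := fun χ hχ z e h5 =>
    u0 χ (by rcases h.sgn χ hχ with e' | e' <;> rw [e'] at e <;> omega)
  have s1 : ∀ χ ∈ X, s χ * dg χ = 12 → s χ = 1 := fun χ hχ e => by
    rcases h.sgn χ hχ with e' | e' <;> rw [e'] at e ⊢ <;> omega
  rcases hg' with ⟨w, e1, e2, e3, e4⟩ | ⟨w, e1, e2, e3, e4⟩ | ⟨w, e1, e2, e3, e4⟩
  · rw [w, e1, e2, dz c3 ((ml _).2 (by simp)) _ e3 (by norm_num),
      dz c4 ((ml _).2 (by simp)) _ e4 (by norm_num),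
      u0 θ (by rcases h.eps with e' | e' <;> rw [e'] at w <;> omega)] at key
    have k : 880 * (192 + u c1 ^ 2 + u c2 ^ 2) = 225 * N := by
      exact_mod_cast (by push_cast at key; linear_combination key / 9 :
        (880 * (192 + u c1 ^ 2 + u c2 ^ 2) : ℂ) = 225 * N)
    have := sq9 (u c1)
    have := sq9 (u c2)
    omega
  · have e : ε = 1 := by rcases h.eps with e' | e' <;> rw [e'] at w ⊢ <;> omega
    rw [w, e1, e2, e3, dz c4 ((ml _).2 (by simp)) _ e4 (by norm_num)] at key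
    rw [e, s1 c1 ((ml _).2 (by simp)) e1, s1 c2 ((ml _).2 (by simp)) e2,
      s1 c3 ((ml _).2 (by simp)) e3, dz c4 ((ml _).2 (by simp)) _ e4 (by norm_num)] at eq
    have k : 1520640 + 7920 * (u c1 ^ 2 + u c2 ^ 2 + u c3 ^ 2) - 3520 * u θ ^ 2 = 2025 * N := by
      exact_mod_cast (by push_cast at key; linear_combination key :
        (1520640 + 7920 * (u c1 ^ 2 + u c2 ^ 2 + u c3 ^ 2) - 3520 * u θ ^ 2 : ℂ) = 2025 * N)
    have k2 : u θ = 4 + u c1 + u c2 + u c3 := by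
      exact_mod_cast (by push_cast at eq; linear_combination eq :
        (u θ : ℂ) = 4 + u c1 + u c2 + u c3)
    have a1 := u2 θ1 (by simp [hY'])
    have a2 := u2 θ2 (by simp [hY'])
    have b1 := (ml _).1 m1.1
    have b2 := (ml _).1 m2.1
    have b3 := m1.2
    have b4 := m2.2
    simp only [List.mem_cons, List.not_mem_nil, or_false] at b1 b2
    refine no45 (u θ) N (mul_left_cancel₀ (show (25 : ℤ) ≠ 0 by norm_num) ?_)
    rcases b1 with rfl | rfl | rfl | rfl <;> rcases b2 with rfl | rfl | rfl | rfl <;>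
      first
        | exact absurd rfl n12
        | (rw [k2, a1, a2] at k; rw [k2, a1, a2]; linear_combination k)
        | omega
  · rw [w, e2, e3, dz c1 ((ml _).2 (by simp)) _ e1 (by norm_num),
      dz c4 ((ml _).2 (by simp)) _ e4 (by norm_num),
      u0 θ (by rcases h.eps with e' | e' <;> rw [e'] at w <;> omega)] at key
    have k : 880 * (192 + u c2 ^ 2 + u c3 ^ 2) = 225 * N := by
      exact_mod_cast (by push_cast at key; linear_combination key / 9 :
        (880 * (192 + u c2 ^ 2 + u c3 ^ 2) : ℂ) = 225 * N)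
    have := sq9 (u c2)
    have := sq9 (u c3)
    omega

end H18.M12
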