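import Cfsg.Agent.H18.M12b

/-! Simple groups of order 95040: the principal 11-block and the centralizer of order ten. -/

set_option autoImplicit false
set_option linter.unusedSectionVars false

namespace H18.M12

open Cfsg H19 Subgroup H2 H25
open H17 hiding dg
open H20 (cent nrm)

variable {G : Type*} [Group G] [Finite G]

theorem ratE_of_conj {g : G} (h : ∀ k < orderOf g, k.Coprime (orderOf g) → IsConj g (g ^ k)) :
    RatE g := fun χ => by
  refine χ.2.isCharacter.isGen.exists_int_of_pow fun k hk => ?_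
  have hk' : k.Coprime (orderOf g) := hk.coprime_dvd_right (orderOf_dvd_natCard g)
  rw [← pow_mod_orderOf]
  exact (χ.2.isClassFunction.of_isConj (h _ (Nat.mod_lt _ (orderOf_pos g))
    (by rw [Nat.Coprime, ← Nat.gcd_rec, Nat.gcd_comm]; exact hk'))).symm

theorem b0_val {O : ValuationSubring ℂ} [CharP (kk O) 5] {P : Subgroup G}
    {X Y : Finset (IrrCharacter G)} {s : IrrCharacter G → ℤ} {ε : ℤ}
    (h : D1 5 O P 4 X Y s ε) {χ : IrrCharacter G} (hχ : χ ∈ irr (B0 O G)) :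
    ∃ v : ℤ, v ^ 2 = 1 ∧ ∀ g, 5 ∣ orderOf g → (χ : G → ℂ) g = v := by
  rcases (h.mem χ).1 hχ with rfl | h3 | h3
  · exact ⟨1, rfl, fun g _ => by simp⟩
  · exact ⟨_, by rcases h.sgn χ h3 with e | e <;> simp [e], h.valX χ h3⟩
  · have c := h.cardY
    obtain ⟨θ, rfl⟩ := Finset.card_eq_one.1 (show Y.card = 1 by omega)
    rw [Finset.mem_singleton.1 h3]
    exact ⟨-ε, by rcases h.eps with e | e <;> simp [e], fun g hg => by simpa using h.sumY hg⟩

theorem five {y : G} (hy : orderOf y = 5) (hc : ∀ k, 0 < k → k < 5 → IsConj y (y ^ k))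
    (hr : RatE y) (χ : IrrCharacter G) : ∃ m : ℕ, (dg χ : ℤ) + 4 * iv χ y = 5 * m := by
  haveI := Fintype.ofFinite (zpowers y)
  obtain ⟨m, hm⟩ := ch_sum_sub χ.2.isCharacter (zpowers y)
  rw [sum_zp, Nat.card_zpowers, hy] at hm
  have z : ∀ k, 0 < k → k < 5 → (χ : G → ℂ) (y ^ k) = iv χ y := fun k h1 h2 => by
    rw [hr.cast, χ.2.isClassFunction.of_isConj (hc k h1 h2)]
  simp only [Finset.sum_range_succ, Finset.sum_range_zero, z 1 (by decide) (by decide),
    z 2 (by decide) (by decide), z 3 (by decide) (by decide), z 4 (by decide) (by decide),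
    pow_zero, ← cast_deg] at hm
  exact ⟨m, by exact_mod_cast (by push_cast at hm; linear_combination hm :
    (dg χ : ℂ) + 4 * iv χ y = 5 * m)⟩

/-- The data obtained from the principal blocks. -/
structure Su (w : G) (c144 c120 c54 c45 θ θ' : IrrCharacter G) (Z : Finset (IrrCharacter G)) :
    Prop where
  ow : orderOf w = 10
  cw : centralizer {w ^ 2} = zpowers w
  cj : IsConj w (w ^ 7)
  n5 : Nat.card (Sylow 5 G) = 2376
  c5 : ∀ x : G, orderOf x = 5 → IsConj (w ^ 6) x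
  sum : ∀ {M : Type} [AddCommMonoid M] (F : IrrCharacter G → M), ∑ χ, F χ =
    F (triv G) + (F c144 + F c120 + F c54 + F c45 + (F θ + F θ')) + ∑ χ ∈ Z, F χ
  d144 : dg c144 = 144
  d120 : dg c120 = 120
  d54 : dg c54 = 54
  d45 : dg c45 = 45
  d16 : dg θ = 16
  d16' : dg θ' = 16
  dZ : ∀ χ ∈ Z, 11 ∣ dg χ
  eq11 : ∀ g, ¬ 11 ∣ orderOf g → RatE g →
    iv θ g = 1 + iv c144 g - iv c120 g - iv c54 g + iv c45 g ∧ iv θ' g = iv θ g
  gam : ∀ g, g ^ 2 = 1 → 2160 + 15 * iv c144 g ^ 2 - 18 * iv c120 g ^ 2 - 40 * iv c54 g ^ 2 +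
    48 * iv c45 g ^ 2 - 135 * iv θ g ^ 2 = 0
  pq : ∀ χ, (iv χ (w ^ 6) = iv χ w ∧ iv χ w ^ 2 = 1) ∨ iv χ w = -iv χ (w ^ 6)
  rw : RatE w
  ry : RatE (w ^ 6)

theorem sq_bd {x : ℤ} (hx : x ^ 2 ≤ 60) : -8 < x ∧ x < 8 := by constructor <;> nlinarith

theorem ar27 {x1 x2 x3 x4 x5 : ℤ} {v N : ℕ} (hv : v = 12 ∨ v = 2) (N0 : N ≠ 0)
    (k : 95040 + 660 * x1 ^ 2 - 1760 * x2 ^ 2 - 2970 * (x3 ^ 2 + x4 ^ 2) - 3520 * x5 ^ 2 =
      25 * v ^ 2 * N) (k2 : x5 = 1 + x1 - x2 - x3 - x4) (g1 : x1 % 5 = 4) (g2 : x2 % 5 = 4)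
    (g3 : x3 % 5 = 2) (g4 : x4 % 5 = 2) (g5 : x5 % 5 = 2)
    (n : 1 + x1 ^ 2 + x2 ^ 2 + x3 ^ 2 + x4 ^ 2 + 2 * x5 ^ 2 ≤ 5 * v) : False := by
  have := sq_nonneg x1
  have := sq_nonneg x2
  have := sq_nonneg x3
  have := sq_nonneg x4
  have := sq_nonneg x5
  have b1 := sq_bd (x := x1) (by omega)
  have b2 := sq_bd (x := x2) (by omega)
  have b3 := sq_bd (x := x3) (by omega)
  have b4 := sq_bd (x := x4) (by omega)
  subst k2
  rcases (by omega : x1 = -6 ∨ x1 = -1 ∨ x1 = 4) with rfl | rfl | rfl <;>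
  rcases (by omega : x2 = -6 ∨ x2 = -1 ∨ x2 = 4) with rfl | rfl | rfl <;>
  rcases (by omega : x3 = -3 ∨ x3 = 2 ∨ x3 = 7) with rfl | rfl | rfl <;>
  rcases (by omega : x4 = -3 ∨ x4 = 2 ∨ x4 = 7) with rfl | rfl | rfl <;>
  rcases hv with rfl | rfl <;> omega

theorem ar12 {x1 x3 x5 : ℤ} {N : ℕ}
    (k : 95040 + 660 * x1 ^ 2 - 1760 * x3 ^ 2 - 5940 * x5 ^ 2 = 3600 * N)
    (k2 : x5 = 1 + x1 - 0 - x3 + 0) (g1 : x1 % 5 = 4) (g3 : x3 % 5 = 4)
    (n : 1 + x1 ^ 2 + x3 ^ 2 + 2 * x5 ^ 2 ≤ 60) : False := by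
  have := sq_nonneg x1
  have := sq_nonneg x3
  have := sq_nonneg x5
  have b1 := sq_bd (x := x1) (by omega)
  have b3 := sq_bd (x := x3) (by omega)
  subst k2
  rcases (by omega : x1 = -6 ∨ x1 = -1 ∨ x1 = 4) with rfl | rfl | rfl <;>
  rcases (by omega : x3 = -6 ∨ x3 = -1 ∨ x3 = 4) with rfl | rfl | rfl <;>
  omega

set_option maxHeartbeats 800000 in
theorem setup [IsSimpleGroup G] (hn : Nat.card G = 95040) :
    ∃ (w : G) (c144 c120 c54 c45 θ θ' : IrrCharacter G) (Z : Finset (IrrCharacter G)),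
      Su w c144 c120 c54 c45 θ θ' Z := by
  classical
  have hG : ¬ IsMulCommutative G := sm_noncomm_of_card (by rw [hn]; norm_num)
  obtain ⟨P⟩ : Nonempty (Sylow 11 G) := inferInstance
  obtain ⟨hP, n11, e11, hC⟩ := par11 hn P
  obtain ⟨O, _, hO⟩ := exists_ovp 11
  obtain ⟨X, Y, s, ε, h⟩ := d1_exists hO (by norm_num) P hP
  have hi : (cent (P : Subgroup G)).index = 1728 * 5 := by rw [sm_index_cent, n11, e11]
  rw [e11] at h
  have hv : Nat.card (cent (P : Subgroup G)) = 11 * 1 := by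
    rw [le_antisymm hC (sm_le_cent hP), hP]
  obtain ⟨a, ha, y, -, oa, oy, hya⟩ := frob hn P
  obtain ⟨Q, hQ'⟩ := (IsPGroup.of_card (p := 5) (n := 1) (G := zpowers y)
    (by rw [Nat.card_zpowers, oy, pow_one])).exists_le_sylow
  have hy : y ∈ (Q : Subgroup G) := hQ' (mem_zpowers y)
  have y1 : y ≠ 1 := fun e => by simp [e] at oy
  have hQ := sm_sylow_prime (by rw [hn]; norm_num) (by rw [hn]; norm_num) Q
  obtain ⟨v, hv5, hp⟩ := filt_par hG (by omega) (by norm_num) Q hQ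
  rw [hn, show Filt.par 95040 5 = [(66, 2, 144), (396, 2, 24), (396, 4, 12), (1056, 2, 9),
    (2376, 2, 4), (2376, 4, 2)] by decide +kernel] at hp
  have e2 := e_two hn Q
  simp only [List.mem_cons, Prod.mk.injEq, List.not_mem_nil, or_false] at hp
  obtain ⟨e5, hp⟩ : (cent (Q : Subgroup G)).relIndex (nrm (Q : Subgroup G)) = 4 ∧
      ((Nat.card (Sylow 5 G) = 396 ∧ v = 12) ∨ (Nat.card (Sylow 5 G) = 2376 ∧ v = 2)) := by omega
  obtain ⟨O', _, hO'⟩ := exists_ovp 5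
  obtain ⟨X', Y', s', ε', h'⟩ := d1_exists hO' (by norm_num) Q hQ
  have hi5 := sm_index_cent Q
  rw [e5] at h' hi5
  have cQ : ∀ x ∈ (Q : Subgroup G), x ≠ 1 → IsConj y x := fun x hx x1 => by
    have e := sm_e_eq hQ hy y1
    rw [show (centralizer ((Q : Subgroup G) : Set G)).relIndex
      (normalizer ((Q : Subgroup G) : Set G)) = 4 from e5] at e
    have s1 : {g : G | IsConj y g ∧ g ∈ (Q : Subgroup G)} ⊆ ((Q : Subgroup G) : Set G) \ {1} :=
      fun g hg => ⟨hg.2, fun e => y1 (isConj_one_left.1 (Set.mem_singleton_iff.1 e ▸ hg.1))⟩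
    have s2 := Set.eq_of_subset_of_ncard_le s1 (by
      rw [Set.ncard_diff_singleton_of_mem (one_mem _), ← Nat.card_coe_set_eq, ← Nat.card_coe_set_eq,
        SetLike.coe_sort_coe, hQ]
      exact e.le)
    exact (show x ∈ {g : G | IsConj y g ∧ g ∈ (Q : Subgroup G)} from s2 ▸ ⟨hx, x1⟩).1
  have cy : ∀ k, 0 < k → k < 5 → IsConj y (y ^ k) := fun k h1 h2 =>
    cQ _ (pow_mem hy k) (pow_ne_one_of_lt_orderOf h1.ne' (by omega))
  have ry : RatE y := ratE_of_conj fun k hk hc => cy k (by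
    rcases Nat.eq_zero_or_pos k with rfl | h0
    · simp [oy] at hc
    · exact h0) (oy ▸ hk)
  have czy : cz y = 5 * v := by rw [cz, ← sm_cent_eq hQ hy y1]; exact hv5
  obtain ⟨⟨t, ht⟩, t2⟩ := exists_prime_orderOf_dvd_card' (G := cent (Q : Subgroup G)) 2
    (by rw [hv5]; omega)
  rw [← orderOf_coe] at t2
  simp only at t2
  have c : Commute y t := ht y hy
  have ow : orderOf (y * t) = 10 := by
    rw [c.orderOf_mul_eq_mul_orderOf_of_coprime, oy, t2]
    rw [oy, t2]; norm_num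
  have sm := fun χ => small (χ := χ) hn ow
  obtain ⟨θ0, hθ0⟩ := h.Y_nonempty
  obtain ⟨l, hl, hg⟩ := filt_good hG h (by omega) hi hv g11 (by rw [hn]; decide +kernel) hθ0
  have ml : ∀ χ, χ ∈ X ↔ χ ∈ l := fun χ => by rw [← Finset.mem_val, hl, Multiset.mem_coe]
  have sl : ∀ {M : Type} [AddCommMonoid M] (F : IrrCharacter G → M),
      ∑ χ ∈ X, F χ = (l.map F).sum := fun F => by
    rw [Finset.sum, hl, Multiset.map_coe, Multiset.sum_coe]
  have big : ε * dg θ0 = 16 ∨ (144 : ℤ) ∈ l.map fun χ => s χ * (dg χ : ℤ) := by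
    obtain ⟨θ5, hθ5⟩ := h'.Y_nonempty
    obtain ⟨l', hl', hg'⟩ := filt_good hG h' (by omega) hi5 hv5 g5 (by
      rw [hn]
      rcases hp with ⟨e, rfl⟩ | ⟨e, rfl⟩ <;> (rw [e]; decide +kernel)) hθ5
    obtain ⟨χ, χ1, hd⟩ : ∃ χ, χ ≠ triv G ∧ dg χ ∈ [16, 144, 24, 36, 96] := by
      simp only [g5, List.any_cons, Bool.or_eq_true, List.any_eq_true, List.contains_iff_mem,
        List.mem_map] at hg'
      rcases hg' with e | ⟨z, ⟨χ, hχ, rfl⟩, e⟩
      · exact ⟨θ5, h'.Y_ne hθ5, h'.natAbsY θ5 ▸ e⟩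
      · have m : χ ∈ X' := by rw [← Finset.mem_val, hl', Multiset.mem_coe]; exact hχ
        exact ⟨χ, h'.X_ne m, h'.natAbsX m ▸ e⟩
    simp only [List.mem_cons, List.not_mem_nil, or_false] at hd
    have m : χ ∈ irr (B0 O G) := by
      by_contra hm
      have := dvd11 h hC hm
      omega
    rcases (h.mem χ).1 m with m | m | m
    · exact absurd m χ1
    · have := h.modX m
      refine Or.inr (List.mem_map.2 ⟨χ, (ml χ).1 m, ?_⟩)
      rcases h.sgn χ m with e' | e' <;> rw [e'] at this ⊢ <;> omega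
    · have := h.modY m
      rw [h.degY_eq hθ0 m]
      rcases h.eps with e' | e' <;> rw [e'] at this ⊢ <;> omega
  simp only [g11, Bool.or_eq_true, Bool.and_eq_true, beq_iff_eq, List.contains_iff_mem,
    bne_iff_ne, Bool.not_eq_true', ← Bool.not_eq_true] at hg
  have hg' : (ε * dg θ0 = 16 ∧ (l.map fun χ => s χ * (dg χ : ℤ)) = [144, -120, -54, 45]) ∨
      (ε * dg θ0 = 27 ∧ (l.map fun χ => s χ * (dg χ : ℤ)) = [144, -54, -32, -32]) := by
    rcases hg with (((e | e) | e) | e) | e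
    · have := sm θ0 (h.Y_ne hθ0)
      rcases h.eps with e' | e' <;> rw [e'] at e <;> omega
    · obtain ⟨χ, hχ, e⟩ := List.mem_map.1 e
      have := sm χ (h.X_ne ((ml χ).2 hχ))
      rcases h.sgn χ ((ml χ).2 hχ) with e' | e' <;> rw [e'] at e <;> omega
    · exact Or.inl e
    · exact Or.inr e
    · exact absurd big (not_or.2 e)
  obtain ⟨c1, c2, c3, c4, rfl⟩ : ∃ c1 c2 c3 c4, l = [c1, c2, c3, c4] := by
    have := h.cardX
    rw [← Finset.card_val, hl, Multiset.coe_card] at this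
    exact List.length_eq_four.1 (by omega)
  simp only [List.map_cons, List.map_nil, List.cons.injEq, and_true] at hg'
  have cY : Y.card = 2 := by have := h.cardY; omega
  obtain ⟨θ, θ', n12, hY⟩ := Finset.card_eq_two.1 cY
  have hθ : θ ∈ Y := by simp [hY]
  have hθ' : θ' ∈ Y := by simp [hY]
  rw [h.degY_eq hθ0 hθ] at hg'
  have sd : ∀ χ ∈ X, ∀ z : ℤ, s χ * dg χ = z → dg χ = z.natAbs ∧
      s χ = if 0 < z then 1 else -1 := fun χ hχ z e => by
    have := dg_pos χ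
    refine ⟨by rw [← e, h.natAbsX hχ], ?_⟩
    rcases h.sgn χ hχ with e' | e' <;> rw [e'] at e ⊢ <;> split_ifs <;> omega
  have e1 : ε = 1 := by rcases h.eps with e' | e' <;> rw [e'] at hg' ⊢ <;> omega
  subst e1
  have m1 : c1 ∈ X := (ml _).2 (by simp)
  have m2 : c2 ∈ X := (ml _).2 (by simp)
  have m3 : c3 ∈ X := (ml _).2 (by simp)
  have m4 : c4 ∈ X := (ml _).2 (by simp)
  have sum : ∀ {M : Type} [AddCommMonoid M] (F : IrrCharacter G → M), ∑ χ, F χ =
      F (triv G) + (F c1 + F c2 + F c3 + F c4 + (F θ + F θ')) +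
        ∑ χ with χ ∉ irr (B0 O G), F χ := fun F => by
    rw [h.sum_all, sl, hY, Finset.sum_pair n12]
    simp [add_assoc]
  have eqθ : ∀ g, ¬ 11 ∣ orderOf g → RatE g → iv θ' g = iv θ g := fun g hg hr => by
    have := h.regY hθ' hθ hg
    rw [← hr.cast, ← hr.cast] at this
    exact_mod_cast this
  have nrm5 := sum_iv_self ry
  rw [sum, czy, iv_triv, eqθ y (by rw [oy]; norm_num) ry] at nrm5
  have n0 : 0 ≤ ∑ χ with χ ∉ irr (B0 O G), iv χ y ^ 2 :=
    Finset.sum_nonneg fun _ _ => sq_nonneg _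
  have f5 := five oy cy ry
  have st := st11 h hC (a := a) oa.symm.dvd hθ (g := y) (k := y) (by rw [oy]; norm_num)
    (by rw [oy]; norm_num)
  have yi : IsConj y y⁻¹ := cQ _ (inv_mem hy) (inv_ne_one.2 y1)
  have czi : cz y⁻¹ = 5 * v := by
    rw [cz, ← sm_cent_eq hQ (inv_mem hy) (inv_ne_one.2 y1)]; exact hv5
  have N0 : ncl y⁻¹ y⁻¹ a ≠ 0 := by
    refine Set.ncard_ne_zero_of_mem (a := (y⁻¹, y * a)) ⟨IsConj.refl _, ?_, by simp⟩
    refine yi.symm.trans (isConj_iff.2 ⟨(a ^ 7)⁻¹, ?_⟩)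
    have a11 : a ^ 11 = 1 := oa ▸ pow_orderOf_eq_one a
    have e : y * a ^ 4 * y⁻¹ = a := by
      rw [← conj_pow, hya, ← pow_mul, show 3 * 4 = 11 + 1 from rfl, pow_succ, a11, one_mul]
    have e2 : (a ^ 7)⁻¹ * y = y * (a ^ 28)⁻¹ := by
      nth_rw 1 [← e]
      rw [conj_pow, ← pow_mul]; group
    simp only
    rw [inv_inv, e2, show 28 = 11 * 2 + 6 from rfl, pow_add, pow_mul, a11]
    group
  have eq := h.eqn θ hθ y (by rw [oy]; norm_num)
  rw [sl, hn, czi] at st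
  rw [sl] at eq
  simp only [List.map_cons, List.map_nil, List.sum_cons, List.sum_nil, ← ry.cast] at st eq
  generalize ncl y⁻¹ y⁻¹ a = N at st N0
  have z5 : ∀ χ : IrrCharacter G, 5 ∣ dg χ → ∀ g, 5 ∣ orderOf g → RatE g → iv χ g = 0 :=
    fun χ e g hg hr => by
      have := hr.cast χ
      rw [dz_vanish (p := 5) (k := 1) (m := 19008) hn (by norm_num) (by simpa using e) hg] at this
      exact_mod_cast this
  rcases hg' with ⟨w, e1, e2, e3, e4⟩ | ⟨w, e1, e2, e3, e4⟩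
  swap
  · exfalso
    rw [w, e1, e2, e3, e4] at st
    rw [(sd _ m1 _ e1).2, (sd _ m2 _ e2).2, (sd _ m3 _ e3).2, (sd _ m4 _ e4).2] at eq
    have k : 95040 + 660 * iv c1 y ^ 2 - 1760 * iv c2 y ^ 2 - 2970 * (iv c3 y ^ 2 + iv c4 y ^ 2) -
        3520 * iv θ y ^ 2 = 25 * v ^ 2 * N := by
      exact_mod_cast (by push_cast at st; linear_combination st : (95040 + 660 * iv c1 y ^ 2 -
        1760 * iv c2 y ^ 2 - 2970 * (iv c3 y ^ 2 + iv c4 y ^ 2) - 3520 * iv θ y ^ 2 : ℂ) =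
          25 * v ^ 2 * N)
    have k2 : iv θ y = 1 + iv c1 y - iv c2 y - iv c3 y - iv c4 y := by
      exact_mod_cast (by simp at eq; linear_combination eq :
        (iv θ y : ℂ) = 1 + iv c1 y - iv c2 y - iv c3 y - iv c4 y)
    obtain ⟨_, g1⟩ := f5 c1
    obtain ⟨_, g2⟩ := f5 c2
    obtain ⟨_, g3⟩ := f5 c3
    obtain ⟨_, g4⟩ := f5 c4
    obtain ⟨_, g5⟩ := f5 θ
    rw [(sd _ m1 _ e1).1] at g1
    rw [(sd _ m2 _ e2).1] at g2
    rw [(sd _ m3 _ e3).1] at g3
    rw [(sd _ m4 _ e4).1] at g4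
    rw [one_mul] at w
    rw [w] at g5
    exact ar27 (by omega) N0 k k2 (by omega) (by omega) (by omega) (by omega) (by omega)
      (by push_cast at nrm5; omega)
  have d1 := (sd _ m1 _ e1).1
  have d2 := (sd _ m2 _ e2).1
  have d3 := (sd _ m3 _ e3).1
  have d4 := (sd _ m4 _ e4).1
  simp only [Int.reduceNeg, Int.natAbs_neg, Int.reduceAbs] at d1 d2 d3 d4
  have d5 : dg θ = 16 := by omega
  have eq11 : ∀ g, ¬ 11 ∣ orderOf g → RatE g →
      iv θ g = 1 + iv c1 g - iv c2 g - iv c3 g + iv c4 g := fun g hg hr => by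
    have eq := h.eqn θ hθ g hg
    rw [sl] at eq
    simp only [List.map_cons, List.map_nil, List.sum_cons, List.sum_nil, ← hr.cast] at eq
    rw [(sd _ m1 _ e1).2, (sd _ m2 _ e2).2, (sd _ m3 _ e3).2, (sd _ m4 _ e4).2] at eq
    exact_mod_cast (by simp at eq; linear_combination eq :
      (iv θ g : ℂ) = 1 + iv c1 g - iv c2 g - iv c3 g + iv c4 g)
  obtain ⟨n5, rfl⟩ : Nat.card (Sylow 5 G) = 2376 ∧ v = 2 := by
    refine hp.resolve_left ?_
    rintro ⟨-, rfl⟩
    have z2 := z5 c2 (by omega) y oy.symm.dvd ry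
    have z4 := z5 c4 (by omega) y oy.symm.dvd ry
    rw [w, e1, e2, e3, e4, z2, z4] at st
    have k : 95040 + 660 * iv c1 y ^ 2 - 1760 * iv c3 y ^ 2 - 5940 * iv θ y ^ 2 = 3600 * N := by
      exact_mod_cast (by push_cast at st; linear_combination st : (95040 + 660 * iv c1 y ^ 2 -
        1760 * iv c3 y ^ 2 - 5940 * iv θ y ^ 2 : ℂ) = 3600 * N)
    have k2 := eq11 y (by rw [oy]; norm_num) ry
    obtain ⟨_, g1⟩ := f5 c1
    obtain ⟨_, g3⟩ := f5 c3
    rw [z2, z4] at k2 nrm5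
    rw [d1] at g1
    rw [d3] at g3
    exact ar12 k k2 (by omega) (by omega) (by push_cast at nrm5; omega)
  have y5 : y ^ 5 = 1 := oy ▸ pow_orderOf_eq_one y
  have tt : t ^ 2 = 1 := t2 ▸ pow_orderOf_eq_one t
  have w6 : (y * t) ^ 6 = y := by
    rw [c.mul_pow, show 6 = 2 * 3 from rfl, pow_mul t, tt, show 2 * 3 = 5 + 1 from rfl, pow_succ,
      y5]; simp
  have w2 : (y * t) ^ 2 = y ^ 2 := by rw [c.mul_pow, tt, mul_one]
  have cw0 : cent (Q : Subgroup G) = zpowers (y * t) :=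
    (eq_of_le_of_card_ge (zpowers_le.2 (mul_mem (sm_le_cent hQ hy) ht))
      (by rw [hv5, Nat.card_zpowers, ow])).symm
  have y21 : y ^ 2 ≠ 1 := pow_ne_one_of_lt_orderOf (by norm_num) (by omega)
  have cw : centralizer {(y * t) ^ 2} = zpowers (y * t) := by
    rw [w2, ← sm_cent_eq hQ (pow_mem hy 2) y21]; exact cw0
  have cj : IsConj (y * t) ((y * t) ^ 7) := by
    obtain ⟨r, hr⟩ := isConj_iff.1 (cy 2 (by norm_num) (by norm_num))
    have m : r * t * r⁻¹ ∈ zpowers (y * t) := by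
      rw [← cw, w2, ← hr, mem_centralizer_singleton_iff]
      calc r * t * r⁻¹ * (r * y * r⁻¹) = r * (t * y) * r⁻¹ := by group
        _ = _ := by rw [← c.eq]; group
    rw [mem_zpowers_iff_mem_range_orderOf, ow, Finset.mem_image] at m
    obtain ⟨k, hk, m⟩ := m
    have o : orderOf ((y * t) ^ k) = 2 := by rw [m, sm_ord_conj, t2]
    rw [orderOf_pow, ow] at o
    obtain rfl : k = 5 :=
      (by decide : ∀ k ∈ Finset.range 10, 10 / Nat.gcd 10 k = 2 → k = 5) k hk o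
    refine isConj_iff.2 ⟨r, ?_⟩
    rw [show 7 = 2 + 5 from rfl, pow_add, m, w2, ← hr]; group
  have w10 : (y * t) ^ 10 = 1 := ow ▸ pow_orderOf_eq_one _
  have rw' : RatE (y * t) := by
    have c9 : IsConj (y * t) ((y * t) ^ 9) := by
      have := cj.pow 7
      rw [← pow_mul, show 7 * 7 = 10 * 4 + 9 from rfl, pow_add, pow_mul, w10, one_pow,
        one_mul] at this
      exact cj.trans this
    have c3 : IsConj (y * t) ((y * t) ^ 3) := by
      have := cj.pow 9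
      rw [← pow_mul, show 7 * 9 = 10 * 6 + 3 from rfl, pow_add, pow_mul, w10, one_pow,
        one_mul] at this
      exact c9.trans this
    refine ratE_of_conj fun k hk hc => ?_
    rw [ow] at hk hc
    rcases (by decide : ∀ k < 10, k.Coprime 10 → k = 1 ∨ k = 3 ∨ k = 7 ∨ k = 9) k hk hc with
      rfl | rfl | rfl | rfl
    exacts [by rw [pow_one], c3, cj, c9]
  refine ⟨y * t, c1, c2, c3, c4, θ, θ', _, ow, cw, cj, n5, fun x hx => ?_, sum, d1, d2, d3, d4, d5,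
    (h.degY_eq hθ' hθ).trans d5, fun χ hχ => dvd11 h hC (Finset.mem_filter.1 hχ).2,
    fun g hg hr => ⟨eq11 g hg hr, eqθ g hg hr⟩, fun g hg => ?_, fun χ => ?_, rw', by rwa [w6]⟩
  · obtain ⟨x', h1, h2, h3⟩ := sm_exists_conj_mem Q hx
    rw [w6]
    exact (cQ x' h1 h2).trans h3.symm
  · have o : ¬ 11 ∣ orderOf g := fun e => by
      have := Nat.le_of_dvd two_pos (e.trans (orderOf_dvd_of_pow_eq_one hg))
      omega
    have st := st11 h hC (a := a) oa.symm.dvd hθ o o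
    rw [ncl_real hn oa (by rw [inv_pow, hg, inv_one]), sl, hn] at st
    simp only [List.map_cons, List.map_nil, List.sum_cons, List.sum_nil,
      ← (ratE_of_two hg).cast] at st
    rw [w, e1, e2, e3, e4] at st
    exact_mod_cast (by push_cast at st; linear_combination st / 44 : (2160 + 15 * iv c1 g ^ 2 -
      18 * iv c2 g ^ 2 - 40 * iv c3 g ^ 2 + 48 * iv c4 g ^ 2 - 135 * iv θ g ^ 2 : ℂ) = 0)
  · rw [w6]
    have b0 : ∀ χ ∈ irr (B0 O' G), iv χ y = iv χ (y * t) ∧ iv χ (y * t) ^ 2 = 1 := fun χ hχ => by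
      obtain ⟨v, v1, hv⟩ := b0_val h' hχ
      have a1 := ry.cast χ
      have a2 := rw'.cast χ
      rw [hv _ oy.symm.dvd] at a1
      rw [hv _ (by rw [ow]; norm_num)] at a2
      have a3 : iv χ y = v := by exact_mod_cast a1
      have a4 : iv χ (y * t) = v := by exact_mod_cast a2
      rw [a3, a4]
      exact ⟨rfl, v1⟩
    by_cases hχ : χ ∈ irr (B0 O' G)
    · exact Or.inl (b0 χ hχ)
    right
    have s1 := sum_iv_self ry
    have s2 := sum_iv_self rw'
    have s3 := sum_iv_ne ry rw' fun e => by have := sm_ord_isConj e; omega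
    have czw : cz (y * t) = 10 := by
      refine le_antisymm ?_ ?_
      · rw [← ow, ← Nat.card_zpowers, ← cw]
        refine card_le_of_le fun x hx => ?_
        rw [mem_centralizer_singleton_iff] at hx ⊢
        exact Commute.pow_right hx 2
      · rw [← ow, ← Nat.card_zpowers]
        exact card_le_of_le (zpowers_le.2 (mem_centralizer_singleton_iff.2 rfl))
    have s4 : ∑ χ : IrrCharacter G, (iv χ y + iv χ (y * t)) ^ 2 = 20 := by
      simp only [add_sq, Finset.sum_add_distrib, mul_assoc, ← Finset.mul_sum, s1, s2, s3, czy, czw]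
      norm_num
    have four : ∀ χ ∈ irr (B0 O' G), (iv χ y + iv χ (y * t)) ^ 2 = 4 := fun χ hχ => by
      obtain ⟨a1, a2⟩ := b0 χ hχ
      rw [a1]; linear_combination 4 * a2
    rw [h'.sum_all, four _ triv_mem_B0, Finset.sum_congr rfl fun χ hχ => four χ (h'.X_mem hχ),
      Finset.sum_congr rfl fun χ hχ => four χ (h'.Y_mem hχ), Finset.sum_const, Finset.sum_const,
      show X'.card = 3 by have := h'.cardX; omega, show Y'.card = 1 by have := h'.cardY; omega]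
      at s4
    have s5 := (Finset.sum_eq_zero_iff_of_nonneg fun χ _ => sq_nonneg _).1 (show ∑ χ with
      χ ∉ irr (B0 O' G), (iv χ y + iv χ (y * t)) ^ 2 = 0 by simp only [nsmul_eq_mul] at s4; omega)
      χ (Finset.mem_filter.2 ⟨Finset.mem_univ _, hχ⟩)
    have := pow_eq_zero_iff (two_ne_zero) |>.1 s5
    omega

end H18.M12
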