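import Cfsg.Agent.H18.M12c

/-! Simple groups of order 95040: a virtual column supported on two extra characters. -/

set_option autoImplicit false
set_option linter.unusedSectionVars false

namespace H18.M12

open Cfsg H19 Subgroup H2 H25
open H17 hiding dg
open H20 (cent nrm)

variable {G : Type*} [Group G] [Finite G]

theorem two {ι : Type*} {Z : Finset ι} {φ : ι → ℤ} (he : ∀ i, 2 ∣ φ i)
    (h8 : ∑ i ∈ Z, φ i ^ 2 = 8) : ∃ α ∈ Z, ∃ β ∈ Z, α ≠ β ∧ φ β ≤ φ α ∧ φ α ^ 2 = 4 ∧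
      φ β ^ 2 = 4 ∧ ∀ i ∈ Z, i ≠ α → i ≠ β → φ i = 0 := by
  classical
  have h4 : ∀ i ∈ Z.filter (φ · ≠ 0), φ i ^ 2 = 4 := fun i hi => by
    obtain ⟨hi, h0⟩ := Finset.mem_filter.1 hi
    have a : φ i ^ 2 ≤ 8 :=
      h8 ▸ Finset.single_le_sum (f := fun i => φ i ^ 2) (fun i _ => sq_nonneg _) hi
    have b := sq_bd (x := φ i) (by omega)
    have := he i
    rcases (by omega : φ i = -6 ∨ φ i = -4 ∨ φ i = -2 ∨ φ i = 2 ∨ φ i = 4 ∨ φ i = 6) with
      e | e | e | e | e | e <;> rw [e] at a ⊢ <;> omega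
  have hc : (Z.filter (φ · ≠ 0)).card = 2 := by
    rw [← Finset.sum_filter_of_ne (p := (φ · ≠ 0)) (fun i _ h e => h (by simp [e])),
      Finset.sum_congr rfl h4, Finset.sum_const, nsmul_eq_mul] at h8
    omega
  obtain ⟨α, β, ne, e⟩ := Finset.card_eq_two.1 hc
  have ma : α ∈ Z.filter (φ · ≠ 0) := by simp [e]
  have mb : β ∈ Z.filter (φ · ≠ 0) := by simp [e]
  have z : ∀ i ∈ Z, i ≠ α → i ≠ β → φ i = 0 := fun i hi h1 h2 => by
    by_contra h0
    have : i ∈ Z.filter (φ · ≠ 0) := Finset.mem_filter.2 ⟨hi, h0⟩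
    simp [e, h1, h2] at this
  rcases le_total (φ β) (φ α) with l | l
  · exact ⟨α, (Finset.mem_filter.1 ma).1, β, (Finset.mem_filter.1 mb).1, ne, l, h4 _ ma, h4 _ mb, z⟩
  · exact ⟨β, (Finset.mem_filter.1 mb).1, α, (Finset.mem_filter.1 ma).1, ne.symm, l, h4 _ mb,
      h4 _ ma, fun i hi h1 h2 => z i hi h2 h1⟩

theorem sq4 {x : ℤ} (hx : x ^ 2 ≤ 10) : -4 < x ∧ x < 4 := by constructor <;> nlinarith

theorem dg1 : dg (triv G) = 1 := by have := iv_dg (triv G); rw [iv_triv] at this; omega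

/-- The numerical data carried by the virtual column. -/
structure Nu (w : G) (c144 c120 c54 c45 θ α β : IrrCharacter G) (η a b : ℤ) : Prop where
  eta : η = 1 ∨ η = -1
  ab : (a = 1 ∨ a = -1) ∧ (b = 1 ∨ b = -1) ∧ b ≤ a
  da : 11 ∣ dg α ∧ dg α ∣ 95040 ∧ dg α ≤ 234 ∧ ((dg α : ℤ) + 4 * a) % 5 = 0
  db : 11 ∣ dg β ∧ dg β ∣ 95040 ∧ dg β ≤ 234 ∧ ((dg β : ℤ) + 4 * b) % 5 = 0
  rel : ∀ g, g ^ 2 = 1 →
    1 + η + (η - 1) * iv c54 g + 4 * iv θ g + 2 * a * iv α g + 2 * b * iv β g = 0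
  D : ∀ g k, g ^ 2 = 1 → k ^ 2 = 1 → (95040 : ℚ) * (1 + η + (η - 1) * iv c54 g * iv c54 k / 54 +
    iv θ g * iv θ k / 4 + 2 * a * iv α g * iv α k / dg α + 2 * b * iv β g * iv β k / dg β) =
      cz g * cz k * (ncl g k (w ^ 6) + η * ncl g k w)
  nm : ∀ g, g ^ 2 = 1 → 1 + iv c144 g ^ 2 + iv c120 g ^ 2 + iv c54 g ^ 2 + iv c45 g ^ 2 +
    2 * iv θ g ^ 2 + iv α g ^ 2 + iv β g ^ 2 ≤ cz g
  ta : ((dg α : ℤ) + iv α (w ^ 5) + 4 * a + 4 * η * a) % 10 = 0
  tb : ((dg β : ℤ) + iv β (w ^ 5) + 4 * b + 4 * η * b) % 10 = 0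
  tt : (20 + iv θ (w ^ 5) + 4 * η) % 10 = 0

namespace Su
variable {w : G} {c144 c120 c54 c45 θ θ' : IrrCharacter G} {Z : Finset (IrrCharacter G)}
  (h : Su w c144 c120 c54 c45 θ θ' Z)
include h

theorem pw {k : ℕ} : w ^ k = 1 ↔ 10 ∣ k := by rw [← h.ow, orderOf_dvd_iff_pow_eq_one]

theorem md (k : ℕ) : w ^ (k + 10) = w ^ k := by rw [pow_add, h.pw.2 dvd_rfl, mul_one]

theorem cen : centralizer {w ^ 6} = zpowers w ∧ centralizer {w} = zpowers w := by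
  have e : (w ^ 6) ^ 2 = w ^ 2 := by rw [← pow_mul]; exact h.md 2
  have k : ∀ j, zpowers w ≤ centralizer {w ^ j} := fun j =>
    zpowers_le.2 (mem_centralizer_singleton_iff.2 (Commute.self_pow w j).eq)
  refine ⟨le_antisymm (fun x hx => ?_) (k 6), le_antisymm (fun x hx => ?_) (by simpa using k 1)⟩
  · rw [← h.cw, ← e]
    exact mem_centralizer_singleton_iff.2
      (Commute.pow_right (mem_centralizer_singleton_iff.1 hx) 2)
  · rw [← h.cw]
    exact mem_centralizer_singleton_iff.2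
      (Commute.pow_right (mem_centralizer_singleton_iff.1 hx) 2)

theorem o5 {k : ℕ} (hk : Nat.gcd 10 k = 2) : orderOf (w ^ k) = 5 := by
  rw [orderOf_pow, h.ow, hk]

theorem f10 (χ : IrrCharacter G) :
    ((dg χ : ℤ) + iv χ (w ^ 5) + 4 * iv χ (w ^ 6) + 4 * iv χ w) % 10 = 0 := by
  obtain ⟨m, hm⟩ := ten h.ow χ
  have c9 : IsConj w (w ^ 9) := h.cj.trans (by
    have := h.cj.pow 7
    rwa [← pow_mul, show 7 * 7 = 9 + 10 + 10 + 10 + 10 by norm_num, h.md, h.md, h.md, h.md] at this)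
  have c3 : IsConj w (w ^ 3) := c9.trans (by
    have := h.cj.pow 9
    rwa [← pow_mul, show 7 * 9 = 3 + 10 + 10 + 10 + 10 + 10 + 10 by norm_num, h.md, h.md, h.md,
      h.md, h.md, h.md] at this)
  have z : ∀ g k, RatE g → IsConj g k → (χ : G → ℂ) k = iv χ g := fun g k hg c => by
    rw [hg.cast, χ.2.isClassFunction.of_isConj c]
  have t2 : (w ^ 5) ^ 2 = 1 := by rw [← pow_mul]; exact h.pw.2 dvd_rfl
  simp only [Finset.sum_range_succ, Finset.sum_range_zero, pow_zero, pow_one, ← cast_deg] at hm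
  rw [z _ _ h.rw c3, z _ _ h.rw c9, z _ _ h.rw h.cj, z _ _ h.ry (h.c5 _ (h.o5 (k := 2) rfl)),
    z _ _ h.ry (h.c5 _ (h.o5 (k := 4) rfl)), z _ _ h.ry (h.c5 _ (h.o5 (k := 6) rfl)),
    z _ _ h.ry (h.c5 _ (h.o5 (k := 8) rfl)), ← (ratE_of_two t2).cast, ← h.rw.cast] at hm
  have : (dg χ : ℤ) + iv χ (w ^ 5) + 4 * iv χ (w ^ 6) + 4 * iv χ w = 10 * m := by
    exact_mod_cast (by push_cast at hm; linear_combination hm :
      (dg χ : ℂ) + iv χ (w ^ 5) + 4 * iv χ (w ^ 6) + 4 * iv χ w = 10 * m)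
  omega

theorem f5 (χ : IrrCharacter G) : ((dg χ : ℤ) + 4 * iv χ (w ^ 6)) % 5 = 0 := by
  have o := h.o5 (k := 6) rfl
  obtain ⟨m, hm⟩ := five o (fun k h0 h5 => h.c5 _ (by
    rw [orderOf_pow, o]; interval_cases k <;> rfl)) h.ry χ
  omega

theorem s4 (η : ℤ) : ∑ χ : IrrCharacter G, (iv χ (w ^ 6) + η * iv χ w) ^ 2 = 10 + 10 * η ^ 2 := by
  have s1 := sum_iv_self h.ry
  have s2 := sum_iv_self h.rw
  have s3 := sum_iv_ne h.ry h.rw fun c => by
    have := c.pow 5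
    rw [← pow_mul, h.pw.2 (by norm_num), isConj_one_right, h.pw] at this
    omega
  simp only [cz, h.cen.1, h.cen.2, Nat.card_zpowers, h.ow] at s1 s2
  have : ∀ χ : IrrCharacter G, (iv χ (w ^ 6) + η * iv χ w) ^ 2 =
      iv χ (w ^ 6) ^ 2 + η ^ 2 * iv χ w ^ 2 + 2 * η * (iv χ (w ^ 6) * iv χ w) := fun χ => by ring
  simp only [this, Finset.sum_add_distrib, ← Finset.mul_sum, s1, s2, s3]
  push_cast; ring

theorem r3 (η : ℤ) {g : G} (hg : g ^ 2 = 1) :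
    ∑ χ : IrrCharacter G, iv χ g * (iv χ (w ^ 6) + η * iv χ w) = 0 := by
  have s1 := sum_iv_ne (ratE_of_two hg) h.ry fun c => by
    have := c.pow 2
    rw [hg, ← pow_mul, isConj_one_right, h.pw] at this
    omega
  have s2 := sum_iv_ne (ratE_of_two hg) h.rw fun c => by
    have := c.pow 2
    rw [hg, isConj_one_right, h.pw] at this
    omega
  have : ∀ χ : IrrCharacter G, iv χ g * (iv χ (w ^ 6) + η * iv χ w) =
      iv χ g * iv χ (w ^ 6) + η * (iv χ g * iv χ w) := fun χ => by ring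
  simp only [this, Finset.sum_add_distrib, ← Finset.mul_sum, s1, s2]
  ring

theorem d3 (η : ℤ) {g k : G} (hg : g ^ 2 = 1) (hk : k ^ 2 = 1) : (Nat.card G : ℚ) *
    ∑ χ : IrrCharacter G, (iv χ g * iv χ k * ((iv χ (w ^ 6) + η * iv χ w : ℤ) : ℚ)) / dg χ =
      cz g * cz k * (ncl g k (w ^ 6) + η * ncl g k w) := by
  have s1 := struct_iv (ratE_of_two hg) (ratE_of_two hk) h.ry
  have s2 := struct_iv (ratE_of_two hg) (ratE_of_two hk) h.rw
  have : ∀ χ : IrrCharacter G, (iv χ g * iv χ k * ((iv χ (w ^ 6) + η * iv χ w : ℤ) : ℚ)) / dg χ =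
      (iv χ g * iv χ k * iv χ (w ^ 6) : ℚ) / iv χ 1 + η * ((iv χ g * iv χ k * iv χ w : ℚ) / iv χ 1) :=
    fun χ => by rw [iv_dg]; push_cast; ring
  simp only [this, Finset.sum_add_distrib, ← Finset.mul_sum]
  linear_combination s1 + η * s2

theorem vals : iv c144 (w ^ 6) = -1 ∧ iv c120 (w ^ 6) = 0 ∧ iv c54 (w ^ 6) = -1 ∧
    iv c45 (w ^ 6) = 0 ∧ iv θ (w ^ 6) = 1 ∧ iv θ' (w ^ 6) = 1 ∧ iv c120 w = 0 ∧ iv c45 w = 0 ∧
    iv c54 w = 1 ∧ iv θ' w = iv θ w ∧ iv c144 w = iv θ w ∧ (iv θ w = 1 ∨ iv θ w = -1) := by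
  have b : ∀ χ, -4 < iv χ (w ^ 6) ∧ iv χ (w ^ 6) < 4 := fun χ => sq4 (by
    have := Finset.single_le_sum (f := fun χ : IrrCharacter G => (iv χ (w ^ 6) + 0 * iv χ w) ^ 2)
      (fun i _ => sq_nonneg _) (Finset.mem_univ χ)
    rw [h.s4] at this
    simpa using this)
  have p1 : iv c144 (w ^ 6) = -1 := by have := h.f5 c144; have := b c144; have := h.d144; omega
  have p2 : iv c120 (w ^ 6) = 0 := by have := h.f5 c120; have := b c120; have := h.d120; omega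
  have p3 : iv c54 (w ^ 6) = -1 := by have := h.f5 c54; have := b c54; have := h.d54; omega
  have p4 : iv c45 (w ^ 6) = 0 := by have := h.f5 c45; have := b c45; have := h.d45; omega
  have p5 : iv θ (w ^ 6) = 1 := by have := h.f5 θ; have := b θ; have := h.d16; omega
  have p6 : iv θ' (w ^ 6) = 1 := by have := h.f5 θ'; have := b θ'; have := h.d16'; omega
  have z : ∀ χ, iv χ (w ^ 6) = 0 → iv χ w = 0 := fun χ e => by
    rcases h.pq χ with ⟨a, c⟩ | a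
    · omega
    · omega
  have q2 := z _ p2
  have q4 := z _ p4
  have q1 := h.pq c144
  have q3 := h.pq c54
  have q5 := h.pq θ
  have e := h.eq11 w (by rw [h.ow]; norm_num) h.rw
  have q : iv c54 w = 1 := by
    by_contra n
    obtain ⟨a1, a3, a5, a6⟩ : iv c144 w = -1 ∧ iv c54 w = -1 ∧ iv θ w = 1 ∧ iv θ' w = 1 := by omega
    have s := h.s4 1
    have r := h.r3 1 (one_pow 2)
    rw [h.sum] at s r
    simp only [iv_triv, iv_dg, p1, p2, p3, p4, p5, p6, q2, q4, a1, a3, a5, a6, h.d144, h.d120, h.d54,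
      h.d45, h.d16, h.d16', dg1] at s r
    have s0 : ∑ χ ∈ Z, (iv χ (w ^ 6) + 1 * iv χ w) ^ 2 = 0 := by omega
    rw [Finset.sum_eq_zero_iff_of_nonneg fun i _ => sq_nonneg _] at s0
    rw [Finset.sum_eq_zero fun χ hχ => by rw [pow_eq_zero_iff two_ne_zero |>.1 (s0 χ hχ), mul_zero]]
      at r
    norm_num at r
  refine ⟨p1, p2, p3, p4, p5, p6, q2, q4, q, e.2, ?_, ?_⟩ <;> omega

set_option maxHeartbeats 800000 in
theorem nu (hn : Nat.card G = 95040) : ∃ α β η a b, Nu w c144 c120 c54 c45 θ α β η a b := by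
  classical
  obtain ⟨p1, p2, p3, p4, p5, p6, q2, q4, q3, q6, q1, he⟩ := h.vals
  have tt := h.f10 θ
  generalize iv θ w = η at *
  have e2 : η * η = 1 := by rcases he with rfl | rfl <;> rfl
  have q5 : iv θ w = η := by
    have e := h.eq11 w (by rw [h.ow]; norm_num) h.rw
    omega
  have s := h.s4 η
  rw [h.sum] at s
  simp only [iv_triv, p1, p2, p3, p4, p5, p6, q1, q2, q3, q4, q5, q6, e2] at s
  obtain ⟨α, ha, β, hb, ne, le, a4, b4, z⟩ := two (Z := Z)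
    (φ := fun χ => iv χ (w ^ 6) + η * iv χ w)
    (fun χ => by have := h.pq χ; rcases he with rfl | rfl <;> omega)
    (by rcases he with rfl | rfl <;> omega)
  have k : ∀ χ, (iv χ (w ^ 6) + η * iv χ w) ^ 2 = 4 → (iv χ (w ^ 6) = 1 ∨ iv χ (w ^ 6) = -1) ∧
      iv χ w = η * iv χ (w ^ 6) ∧ iv χ (w ^ 6) + η * iv χ w = 2 * iv χ (w ^ 6) := fun χ e => by
    have e' : iv χ (w ^ 6) + η * iv χ w = 2 ∨ iv χ (w ^ 6) + η * iv χ w = -2 :=
      sq_eq_sq_iff_eq_or_eq_neg.1 (by rw [e]; rfl)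
    have := h.pq χ
    rcases he with rfl | rfl <;> omega
  obtain ⟨a1, a2, a3⟩ := k α a4
  obtain ⟨b1, b2, b3⟩ := k β b4
  have sub : ({α, β} : Finset _) ⊆ Z := by simp [Finset.insert_subset_iff, ha, hb]
  have sz : ∀ {M : Type} [CommRing M] (F : IrrCharacter G → ℤ → M), (∀ χ, F χ 0 = 0) →
      ∑ χ ∈ Z, F χ (iv χ (w ^ 6) + η * iv χ w) =
        F α (2 * iv α (w ^ 6)) + F β (2 * iv β (w ^ 6)) := fun F hF => by
    rw [← Finset.sum_subset sub fun χ h1 h2 => by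
      simp only [Finset.mem_insert, Finset.mem_singleton, not_or] at h2
      rw [z χ h1 h2.1 h2.2, hF], Finset.sum_pair ne, a3, b3]
  have sl : ∀ g, iv α g ^ 2 + iv β g ^ 2 ≤ ∑ χ ∈ Z, iv χ g ^ 2 := fun g => by
    rw [← Finset.sum_pair (f := fun χ => iv χ g ^ 2) ne]
    exact Finset.sum_le_sum_of_subset_of_nonneg sub fun _ _ _ => sq_nonneg _
  have o := sum_iv_one (G := G)
  have l1 := sl 1
  rw [h.sum, hn] at o
  simp only [iv_triv, iv_dg, h.d144, h.d120, h.d54, h.d45, h.d16, h.d16', dg1] at o l1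
  push_cast at o
  have dd : ∀ χ : IrrCharacter G, (dg χ : ℤ) ^ 2 ≤ 54450 → dg χ ∣ 95040 ∧ dg χ ≤ 234 := fun χ e => by
    have := iv_dvd χ
    rw [iv_dg, hn] at this
    exact ⟨by exact_mod_cast this, by nlinarith⟩
  have t11 : ∀ g : G, g ^ 2 = 1 → iv θ' g = iv θ g := fun g hg => (h.eq11 g (fun d => by
    have := Nat.le_of_dvd two_pos (d.trans (orderOf_dvd_of_pow_eq_one hg)); omega)
    (ratE_of_two hg)).2
  have := sq_nonneg (dg α : ℤ)
  have := sq_nonneg (dg β : ℤ)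
  refine ⟨α, β, η, iv α (w ^ 6), iv β (w ^ 6), he, ⟨a1, b1, by simp only [a3, b3] at le; omega⟩,
    ⟨h.dZ _ ha, (dd α (by omega)).1, (dd α (by omega)).2, h.f5 α⟩,
    ⟨h.dZ _ hb, (dd β (by omega)).1, (dd β (by omega)).2, h.f5 β⟩, fun g hg => ?_,
    fun g k hg hk => ?_, fun g hg => ?_, ?_, ?_, by rw [h.d16, p5] at tt; omega⟩
  · have r := h.r3 η hg
    rw [h.sum, sz (fun χ n => iv χ g * n) fun _ => mul_zero _] at r
    simp only [iv_triv, p1, p2, p3, p4, p5, p6, q1, q2, q3, q4, q5, q6, e2, t11 g hg] at r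
    linear_combination r
  · have r := h.d3 η hg hk
    rw [h.sum, sz (fun χ n => (iv χ g * iv χ k * (n : ℚ)) / dg χ) fun _ => by simp, hn] at r
    simp only [iv_triv, p1, p2, p3, p4, p5, p6, q1, q2, q3, q4, q5, q6, e2, t11 g hg, t11 k hk,
      h.d144, h.d120, h.d54, h.d45, h.d16, h.d16', dg1] at r
    push_cast at r
    linear_combination r
  · have r := sum_iv_self (ratE_of_two hg)
    have := sl g
    rw [h.sum] at r
    simp only [iv_triv, t11 g hg] at r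
    omega
  · have := h.f10 α
    rw [a2] at this
    rw [← this]; congr 1; ring
  · have := h.f10 β
    rw [b2] at this
    rw [← this]; congr 1; ring

end Su

end H18.M12
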