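import Mathlib.Tactic

/-! Arithmetic for simple groups of order 95040. -/

set_option autoImplicit false

namespace H18.M12

theorem deg {d : ℕ} {a : ℤ} (ha : a = 1 ∨ a = -1)
    (h : 11 ∣ d ∧ d ∣ 95040 ∧ d ≤ 234 ∧ ((d : ℤ) + 4 * a) % 5 = 0) :
    (a = 1 ∧ (d = 11 ∨ d = 66 ∨ d = 176)) ∨ (a = -1 ∧ (d = 44 ∨ d = 99)) := by
  obtain ⟨⟨k, rfl⟩, h2, h3, h4⟩ := h
  have := (by decide : ∀ k < 22, 11 * k ∣ 95040 →
    k ≠ 11 ∧ k ≠ 21 ∧ k ≠ 14 ∧ k ≠ 19) k (by omega) h2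
  omega

theorem nsq {c : ℕ} {K : ℤ} (a : ℕ) (h : (c : ℤ) * c = K) (h1 : (a : ℤ) * a < K)
    (h2 : K < (a + 1) * (a + 1)) : False := by
  rcases le_or_gt c a with l | l
  · have : (c : ℤ) ≤ a := by exact_mod_cast l
    nlinarith
  · have : (a : ℤ) + 1 ≤ c := by exact_mod_cast l
    nlinarith

theorem sqle {c : ℕ} {N : ℤ} (h0 : 0 ≤ N) (h : N ≤ c) : N * N ≤ (c : ℤ) * c := by nlinarith

theorem arA1 {xa xb E : ℤ} {c : ℕ} (hE : E = 0 ∨ E = 20 ∨ E = 5) (r : xa = xb + 7)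
    (h1 : (xa + 9) % 20 = 0) (b1 : -11 < xa ∧ xa < 11)
    (D : 570240 + 17280 * xa * xa - 4320 * xb * xb = c * c * E) : False := by
  obtain rfl : xa = -9 := by omega
  obtain rfl : xb = -16 := by omega
  rcases hE with rfl | rfl | rfl
  · omega
  · exact nsq (c := c) (K := 43200) 207 (by omega) (by norm_num) (by norm_num)
  · exact nsq (c := c) (K := 172800) 415 (by omega) (by norm_num) (by norm_num)

theorem arA2 {xa xb E : ℤ} {c : ℕ} (hE : E = 0 ∨ E = 20 ∨ E = 5) (r : xa = xb + 7)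
    (h1 : (xb + 1) % 20 = 0) (b1 : -99 < xb ∧ xb < 99) (n : 33 + xa ^ 2 + xb ^ 2 ≤ c)
    (D : 570240 + 2880 * xa * xa - 1920 * xb * xb = c * c * E) : False := by
  subst r
  have s := sqle (by positivity) n
  rcases (by omega : xb = -1 ∨ xb = -81 ∨ xb = -61 ∨ xb = -41 ∨ xb = -21 ∨ xb = 19 ∨ xb = 39 ∨
    xb = 59 ∨ xb = 79) with rfl | e
  · rcases hE with rfl | rfl | rfl
    · omega
    · exact nsq (c := c) (K := 33600) 183 (by omega) (by norm_num) (by norm_num)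
    · exact nsq (c := c) (K := 134400) 366 (by omega) (by norm_num) (by norm_num)
  · rcases e with rfl | rfl | rfl | rfl | rfl | rfl | rfl | rfl <;>
    rcases hE with rfl | rfl | rfl <;> omega

theorem c240 {c : ℕ} (h : (c : ℤ) * c = 57600) : c = 240 := by
  have : (c : ℤ) = 240 := by nlinarith [mul_self_eq_mul_self_iff.1 (show (c : ℤ) * c = 240 * 240 by omega)]
  omega

theorem arB2 {x xa xb E : ℤ} {c : ℕ} (hE : E = 0 ∨ E = 5) (r : x = 8 + xa - xb)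
    (h1 : (xa + 6) % 20 = 0) (b1 : -66 < xa ∧ xa < 66) (h2 : (xb + 4) % 20 = 0)
    (b2 : -44 < xb ∧ xb < 44) (n : 33 + x ^ 2 + xa ^ 2 + xb ^ 2 ≤ c)
    (D : -3520 * x * x + 380160 + 2880 * xa * xa - 4320 * xb * xb = c * c * E) :
    xa = -6 ∧ xb = -4 := by
  subst r
  have s := sqle (by positivity) n
  have := mul_self_nonneg (c : ℤ)
  rcases (by omega : xa = -6 ∨ xa = -46 ∨ xa = -26 ∨ xa = 14 ∨ xa = 34 ∨ xa = 54) with
    rfl | rfl | rfl | rfl | rfl | rfl <;>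
  rcases (by omega : xb = -24 ∨ xb = -4 ∨ xb = 16 ∨ xb = 36) with rfl | rfl | rfl | rfl <;>
  rcases hE with rfl | rfl <;> omega

theorem arU1 {x t xa xb c : ℤ} (r : x = 2 * t + xa + xb) (hc : c = 32 * x - 108 * t)
    (h1 : (11 - xa) % 4 = 0) (b1 : -11 < xa ∧ xa < 11) (h2 : (16 - t) % 4 = 0)
    (b2 : -16 < t ∧ t < 16) (n : 1 + x ^ 2 + 2 * t ^ 2 + xa ^ 2 + xb ^ 2 ≤ c) (hd : c ∣ 95040)
    (h5 : ¬ 5 ∣ c) (D : -3520 * x * x + 23760 * t * t + 17280 * xa * xa + 17280 * xb * xb =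
      c * c * 5) : t = 0 ∧ xa = 3 ∧ c = 192 := by
  subst r hc
  obtain rfl : xa = xb := by
    have : (xa - xb) ^ 2 = 0 := by nlinarith
    have := pow_eq_zero_iff two_ne_zero |>.1 this
    omega
  have := (by decide : ∀ t ∈ ([-12, -8, -4, 0, 4, 8, 12] : List ℤ), ∀ a ∈ ([-9, -5, -1, 3, 7] : List ℤ),
    1 + (2 * t + a + a) ^ 2 + 2 * t ^ 2 + a ^ 2 + a ^ 2 ≤ 32 * (2 * t + a + a) - 108 * t →
    32 * (2 * t + a + a) - 108 * t ∣ 95040 → ¬ 5 ∣ 32 * (2 * t + a + a) - 108 * t → t = 0 ∧ a = 3)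
    t (by simp only [List.mem_cons, List.not_mem_nil]; omega) xa
    (by simp only [List.mem_cons, List.not_mem_nil]; omega) n hd h5
  omega

theorem arU2 {x t xa xb c : ℤ} (r : x = 2 * t + xa - xb) (hc : c = 32 * x - 108 * t)
    (h1 : (44 - xb) % 4 = 0) (b1 : -44 < xb ∧ xb < 44) (h2 : (16 - t) % 4 = 0)
    (b2 : -16 < t ∧ t < 16) (h3 : (66 - xa) % 4 = 0)
    (n : 1 + x ^ 2 + 2 * t ^ 2 + xa ^ 2 + xb ^ 2 ≤ c) (hd : c ∣ 95040)
    (h5 : ¬ 5 ∣ c) (D : -3520 * x * x + 23760 * t * t + 2880 * xa * xa - 4320 * xb * xb =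
      c * c * 5) : t = 0 ∧ x = 2 ∧ c = 64 := by
  subst r hc
  have e : 2 * xa - 3 * xb = 0 := by
    have : (2 * xa - 3 * xb) ^ 2 = 0 := by nlinarith
    exact pow_eq_zero_iff two_ne_zero |>.1 this
  obtain ⟨j, rfl, rfl⟩ : ∃ j, xa = 6 * j ∧ xb = 4 * j := ⟨xb / 4, by omega, by omega⟩
  have := (by decide : ∀ t ∈ ([-12, -8, -4, 0, 4, 8, 12] : List ℤ),
    ∀ a ∈ ([-9, -7, -5, -3, -1, 1, 3, 5, 7, 9] : List ℤ),
    1 + (2 * t + 6 * a - 4 * a) ^ 2 + 2 * t ^ 2 + (6 * a) ^ 2 + (4 * a) ^ 2 ≤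
      32 * (2 * t + 6 * a - 4 * a) - 108 * t → 32 * (2 * t + 6 * a - 4 * a) - 108 * t ∣ 95040 →
    ¬ 5 ∣ 32 * (2 * t + 6 * a - 4 * a) - 108 * t → t = 0 ∧ a = 1)
    t (by simp only [List.mem_cons, List.not_mem_nil]; omega) j
    (by simp only [List.mem_cons, List.not_mem_nil]; omega) n hd h5
  omega

end H18.M12
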