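import Cfsg.Agent.H18.M12d
import Cfsg.Agent.H18.M12e
import Cfsg.Agent.H9.Dih

/-! Simple groups of order 95040: the two classes of involutions. -/

set_option autoImplicit false
set_option linter.unusedSectionVars false

namespace H18.M12

open Cfsg H19 Subgroup H2 H25
open H17 hiding dg
open H20 (cent nrm)

variable {G : Type*} [Group G] [Finite G]

theorem bd [IsSimpleGroup G] (hn : Nat.card G = 95040) {χ : IrrCharacter G} {d : ℕ}
    (hd : dg χ = d) (d1 : d ≠ 1) {g : G} (hg : g ^ 2 = 1) (g1 : g ≠ 1) :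
    (-(d : ℤ) < iv χ g ∧ iv χ g < d) ∧ (d - iv χ g) % 4 = 0 := by
  have hG : ¬ IsMulCommutative G := sm_noncomm_of_card (by rw [hn]; norm_num)
  obtain ⟨k, hk⟩ := iv_four (sm_commutator_eq_top hG) hg χ
  subst hd
  exact ⟨iv_lt hG (fun e => d1 (by rw [e, dg1])) (ratE_of_two hg) g1, by omega⟩

namespace Su
variable {w : G} {c144 c120 c54 c45 θ θ' : IrrCharacter G} {Z : Finset (IrrCharacter G)}
  (h : Su w c144 c120 c54 c45 θ θ' Z)
include h

theorem t2 : (w ^ 5) ^ 2 = 1 ∧ w ^ 5 ≠ 1 :=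
  ⟨by rw [← pow_mul]; exact h.pw.2 dvd_rfl, fun e => by have := h.pw.1 e; omega⟩

theorem nn : (ncl (w ^ 5) (w ^ 5) (w ^ 6) = 0 ∧ ncl (w ^ 5) (w ^ 5) w = 0) ∨
    (ncl (w ^ 5) (w ^ 5) (w ^ 6) = 10 ∧ ncl (w ^ 5) (w ^ 5) w = 10) ∨
    (ncl (w ^ 5) (w ^ 5) (w ^ 6) = 5 ∧ ncl (w ^ 5) (w ^ 5) w = 0 ∧ ∃ s, IsConj (w ^ 5) s ∧
      s ^ 2 = 1 ∧ s * w * s⁻¹ = w⁻¹ ∧ ¬ IsConj (w ^ 5) (s * w ^ 5)) := by
  classical
  by_cases z : ncl (w ^ 5) (w ^ 5) (w ^ 6) ≠ 0 ∨ ncl (w ^ 5) (w ^ 5) w ≠ 0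
  · obtain ⟨s, c, s2, sw⟩ := H9.Dih.dih0 h.ow h.cw.le h.t2.1 h.t2.1 z
    have := H9.Dih.dih h.ow h.cw.le s2 sw h.t2.1 h.t2.1
    by_cases b : IsConj (w ^ 5) (s * w ^ 5)
    · simp only [c, b, and_self, if_true] at this
      exact .inr (.inl this)
    · simp only [c, b, and_self, and_false, false_and, if_true, if_false] at this
      exact .inr (.inr ⟨this.1, this.2, s, c, s2, sw, b⟩)
  · omega

theorem five_dvd {v : G} (hv : v ^ 2 = 1) (v1 : v ≠ 1) (h5 : 5 ∣ cz v) : IsConj (w ^ 5) v := by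
  classical
  haveI : Fact (Nat.Prime 5) := ⟨by norm_num⟩
  obtain ⟨x, hx⟩ := exists_prime_orderOf_dvd_card' (G := centralizer ({v} : Set G)) 5 h5
  obtain ⟨c, hc⟩ := isConj_iff.1 (h.c5 x (by rw [Subgroup.orderOf_coe, hx]))
  have m : c⁻¹ * v * c ∈ zpowers w := by
    rw [← h.cen.1, mem_centralizer_singleton_iff]
    have := mem_centralizer_singleton_iff.1 x.2
    rw [← hc] at this
    calc c⁻¹ * v * c * w ^ 6 = c⁻¹ * (v * (c * w ^ 6 * c⁻¹)) * c := by group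
      _ = _ := by rw [← this]; group
  rw [mem_zpowers_iff_mem_range_orderOf, h.ow] at m
  obtain ⟨k, hk, e⟩ := Finset.mem_image.1 m
  have hk := Finset.mem_range.1 hk
  have c2 : IsConj (w ^ k) v := isConj_iff.2 ⟨c, by rw [e]; group⟩
  have a := c2.symm.pow 2
  rw [hv, ← pow_mul, isConj_one_right, h.pw] at a
  have k0 : k ≠ 0 := fun z => v1 (by rwa [z, pow_zero, isConj_one_right] at c2)
  obtain rfl : k = 5 := by omega
  exact c2

variable [IsSimpleGroup G] (hn : Nat.card G = 95040)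
include hn

theorem caseB : ∃ α β A B b, Nu w c144 c120 c54 c45 θ α β (-1) 1 b ∧
    ((dg α = 11 ∧ dg β = 11 ∧ A = 17280 ∧ B = 17280 ∧ b = 1) ∨
      (dg α = 66 ∧ dg β = 44 ∧ A = 2880 ∧ B = -4320 ∧ b = -1)) ∧ ∀ g k, g ^ 2 = 1 → k ^ 2 = 1 →
    -3520 * iv c54 g * iv c54 k + 23760 * iv θ g * iv θ k + A * iv α g * iv α k +
      B * iv β g * iv β k = cz g * cz k * ((ncl g k (w ^ 6) : ℤ) - ncl g k w) := by
  obtain ⟨α, β, η, a, b, N⟩ := h.nu hn
  have da := deg N.ab.1 N.da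
  have db := deg N.ab.2.1 N.db
  have r := N.rel 1 (one_pow 2)
  have ab := N.ab.2.2
  simp only [iv_dg, h.d54, h.d16] at r
  obtain ⟨t2, t1⟩ := h.t2
  rcases N.eta with rfl | rfl
  · exfalso
    obtain ⟨rfl, rfl, e⟩ : a = 1 ∧ b = -1 ∧ ((dg α = 11 ∧ dg β = 44) ∨ (dg α = 66 ∧ dg β = 99)) := by
      rcases da with ⟨rfl, da⟩ | ⟨rfl, da⟩ <;> rcases db with ⟨rfl, db⟩ | ⟨rfl, db⟩ <;> omega
    have D := N.D _ _ t2 t2
    have r := N.rel _ t2
    have n := N.nm _ t2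
    have ta := N.ta
    have tb := N.tb
    have tt := N.tt
    have bt := bd hn h.d16 (by norm_num) t2 t1
    have xt : iv θ (w ^ 5) = -4 := by omega
    have hE : (ncl (w ^ 5) (w ^ 5) (w ^ 6) + ncl (w ^ 5) (w ^ 5) w : ℤ) = 0 ∨
        (ncl (w ^ 5) (w ^ 5) (w ^ 6) + ncl (w ^ 5) (w ^ 5) w : ℤ) = 20 ∨
        (ncl (w ^ 5) (w ^ 5) (w ^ 6) + ncl (w ^ 5) (w ^ 5) w : ℤ) = 5 := by
      rcases h.nn with e | e | ⟨e, e', -⟩ <;> omega
    have := sq_nonneg (iv c144 (w ^ 5))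
    have := sq_nonneg (iv c120 (w ^ 5))
    have := sq_nonneg (iv c54 (w ^ 5))
    have := sq_nonneg (iv c45 (w ^ 5))
    rw [xt] at D r n
    rcases e with ⟨e, e'⟩ | ⟨e, e'⟩
    · have ba := bd hn e (by norm_num) t2 t1
      rw [e, e'] at D
      refine arA1 (xa := iv α (w ^ 5)) (xb := iv β (w ^ 5)) (c := cz (w ^ 5)) hE (by omega)
        (by omega) (by omega) ?_
      exact_mod_cast (by push_cast at D ⊢; linear_combination D : ((570240 + 17280 * iv α (w ^ 5) *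
        iv α (w ^ 5) - 4320 * iv β (w ^ 5) * iv β (w ^ 5) : ℤ) : ℚ) = (((cz (w ^ 5) : ℤ) *
        cz (w ^ 5) * (ncl (w ^ 5) (w ^ 5) (w ^ 6) + ncl (w ^ 5) (w ^ 5) w) : ℤ) : ℚ))
    · have bb := bd hn e' (by norm_num) t2 t1
      rw [e, e'] at D
      refine arA2 (xa := iv α (w ^ 5)) (xb := iv β (w ^ 5)) (c := cz (w ^ 5)) hE (by omega)
        (by omega) (by omega) (by omega) ?_
      exact_mod_cast (by push_cast at D ⊢; linear_combination D : ((570240 + 2880 * iv α (w ^ 5) *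
        iv α (w ^ 5) - 1920 * iv β (w ^ 5) * iv β (w ^ 5) : ℤ) : ℚ) = (((cz (w ^ 5) : ℤ) *
        cz (w ^ 5) * (ncl (w ^ 5) (w ^ 5) (w ^ 6) + ncl (w ^ 5) (w ^ 5) w) : ℤ) : ℚ))
  · obtain ⟨rfl, e⟩ : a = 1 ∧ ((dg α = 11 ∧ dg β = 11 ∧ b = 1) ∨
        (dg α = 66 ∧ dg β = 44 ∧ b = -1)) := by
      rcases da with ⟨rfl, da⟩ | ⟨rfl, da⟩ <;> rcases db with ⟨rfl, db⟩ | ⟨rfl, db⟩ <;> omega
    rcases e with ⟨e, e', rfl⟩ | ⟨e, e', rfl⟩
    · refine ⟨α, β, _, _, _, N, .inl ⟨e, e', rfl, rfl, rfl⟩, fun g k hg hk => ?_⟩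
      have D := N.D _ _ hg hk
      rw [e, e'] at D
      refine Int.cast_injective (α := ℚ) ?_
      push_cast at D ⊢
      linear_combination D
    · refine ⟨α, β, _, _, _, N, .inr ⟨e, e', rfl, rfl, rfl⟩, fun g k hg hk => ?_⟩
      have D := N.D _ _ hg hk
      rw [e, e'] at D
      refine Int.cast_injective (α := ℚ) ?_
      push_cast at D ⊢
      linear_combination D

set_option maxHeartbeats 800000 in
theorem main : ∃ (α : IrrCharacter G) (u : G), dg α = 11 ∧ u ^ 2 = 1 ∧ u ≠ 1 ∧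
    ¬ IsConj (w ^ 5) u ∧ cz (w ^ 5) = 240 ∧ cz u = 192 ∧ iv α (w ^ 5) + iv θ (w ^ 5) = 3 ∧
    iv α u + iv θ u = 3 ∧ ∀ v, v ^ 2 = 1 → v ≠ 1 → IsConj (w ^ 5) v ∨ IsConj u v := by
  classical
  obtain ⟨α, β, A, B, b, N, e, D⟩ := h.caseB hn
  obtain ⟨t2, t1⟩ := h.t2
  have Dt := D _ _ t2 t2
  have r := N.rel _ t2
  have n := N.nm _ t2
  have ta := N.ta
  have tb := N.tb
  have tt := N.tt
  have bt := bd hn h.d16 (by norm_num) t2 t1
  have xt : iv θ (w ^ 5) = 4 := by omega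
  have hE : (ncl (w ^ 5) (w ^ 5) (w ^ 6) - ncl (w ^ 5) (w ^ 5) w : ℤ) = 0 ∨
      (ncl (w ^ 5) (w ^ 5) (w ^ 6) - ncl (w ^ 5) (w ^ 5) w : ℤ) = 5 := by
    rcases h.nn with e | e | ⟨e, e', -⟩ <;> omega
  have sq : ∀ g, 0 ≤ iv c144 g ^ 2 ∧ 0 ≤ iv c120 g ^ 2 ∧ 0 ≤ iv c45 g ^ 2 :=
    fun g => ⟨sq_nonneg _, sq_nonneg _, sq_nonneg _⟩
  have st := sq (w ^ 5)
  rw [xt] at Dt r n
  obtain ⟨x54, xa, xb⟩ : iv c54 (w ^ 5) = 6 ∧ A * iv α (w ^ 5) = -17280 ∧
      B * iv β (w ^ 5) = -17280 * b ∧ A * iv α (w ^ 5) * iv α (w ^ 5) +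
        B * iv β (w ^ 5) * iv β (w ^ 5) = 34560 ∧ (dg α = 11 → iv α (w ^ 5) = -1) := by
    rcases e with ⟨e, e', rfl, rfl, rfl⟩ | ⟨e, e', rfl, rfl, rfl⟩
    · have ba := bd hn e (by norm_num) t2 t1
      have bb := bd hn e' (by norm_num) t2 t1
      have a1 : iv α (w ^ 5) = -1 := by omega
      have a2 : iv β (w ^ 5) = -1 := by omega
      rw [a1, a2] at r ⊢
      omega
    · have ba := bd hn e (by norm_num) t2 t1
      have bb := bd hn e' (by norm_num) t2 t1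
      obtain ⟨a1, a2⟩ := arB2 (x := iv c54 (w ^ 5)) (xa := iv α (w ^ 5)) (xb := iv β (w ^ 5))
        (c := cz (w ^ 5)) hE (by omega) (by omega) (by omega) (by omega) (by omega) (by omega)
        (by linear_combination Dt)
      rw [a1, a2] at r ⊢
      omega
  obtain ⟨xb, xx, x11⟩ := xb
  rw [x54] at Dt
  have E5 : (ncl (w ^ 5) (w ^ 5) (w ^ 6) - ncl (w ^ 5) (w ^ 5) w : ℤ) = 5 := by
    rcases hE with z | z
    · rw [z] at Dt; omega
    · exact z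
  have ct : cz (w ^ 5) = 240 := c240 (by rw [E5] at Dt; omega)
  obtain ⟨s, cs, s2, sw, ns⟩ : ∃ s, IsConj (w ^ 5) s ∧ s ^ 2 = 1 ∧ s * w * s⁻¹ = w⁻¹ ∧
      ¬ IsConj (w ^ 5) (s * w ^ 5) := by
    rcases h.nn with e | e | ⟨-, -, e⟩
    · omega
    · omega
    · exact e
  have K : ∀ v, v ^ 2 = 1 → 540 * iv θ v - 160 * iv c54 v =
      cz v * ((ncl (w ^ 5) v (w ^ 6) : ℤ) - ncl (w ^ 5) v w) := fun v hv => by
    have d := D _ _ t2 hv
    have r := N.rel _ hv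
    rw [x54, xt, xa, xb, ct] at d
    push_cast at d
    exact mul_left_cancel₀ (a := 240) (by norm_num) (by linear_combination d + 8640 * r)
  have u2 : (s * w ^ 5) ^ 2 = 1 := by
    have si : s⁻¹ = s := inv_eq_of_mul_eq_one_right (by rw [← pow_two, s2])
    have : s * w ^ 5 * s⁻¹ = (w ^ 5)⁻¹ := by rw [← inv_pow, ← sw, conj_pow]
    rw [pow_two, ← mul_assoc]
    nth_rw 2 [← si]
    rw [this, inv_mul_cancel]
  have u1 : s * w ^ 5 ≠ 1 := fun z => by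
    have a : s = (w ^ 5)⁻¹ := eq_inv_of_mul_eq_one_left z
    have : w ^ 2 = 1 := by
      rw [pow_two]
      nth_rw 1 [← inv_inv w]
      rw [← sw, a]
      group
    have := h.pw.1 this
    omega
  have nus : ¬ IsConj (s * w ^ 5) s := fun c => ns (cs.trans c.symm)
  generalize hu : s * w ^ 5 = u at u2 u1 ns nus
  have d1 := H9.Dih.dih h.ow h.cw.le s2 sw t2 u2
  have d2 := H9.Dih.dih h.ow h.cw.le s2 sw u2 u2
  simp only [hu, cs, ns, nus, IsConj.refl, and_self, and_false, false_and, if_true, if_false] at d1 d2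
  have Ku := K u u2
  have Du := D _ _ u2 u2
  have ru := N.rel _ u2
  have nu := N.nm _ u2
  have su := sq u
  have bu := bd hn h.d16 (by norm_num) u2 u1
  rw [d1.1, d1.2] at Ku
  rw [d2.1, d2.2] at Du
  have cd : (cz u : ℤ) ∣ 95040 := by
    have := card_subgroup_dvd_card (centralizer ({u} : Set G))
    rw [hn] at this
    exact_mod_cast this
  have c5 : ¬ (5 : ℤ) ∣ cz u := fun d => ns (h.five_dvd u2 u1 (by exact_mod_cast d))
  rcases e with ⟨e, e', rfl, rfl, rfl⟩ | ⟨e, e', rfl, rfl, rfl⟩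
  · have ba := bd hn e (by norm_num) u2 u1
    obtain ⟨a1, a2, a3⟩ := arU1 (x := iv c54 u) (t := iv θ u) (xa := iv α u) (xb := iv β u)
      (c := cz u) (by omega) (by omega) (by omega) (by omega) (by omega) (by omega) (by omega) cd c5
      (by push_cast at Du; linear_combination Du)
    have := x11 e
    refine ⟨α, u, e, u2, u1, ns, ct, by omega, by omega, by omega, fun v hv v1 => ?_⟩
    by_contra! z
    have d := H9.Dih.dih h.ow h.cw.le s2 sw t2 hv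
    have a : ¬ IsConj v s := fun c => z.1 (cs.trans c.symm)
    have a' : ¬ IsConj v u := fun c => z.2 c.symm
    simp only [hu, ns, a, a', and_false, false_and, if_false] at d
    have Kv := K v hv
    have b1 := bd hn h.d16 (by norm_num) hv v1
    have b2 := bd hn h.d54 (by norm_num) hv v1
    rw [d.1, d.2] at Kv
    omega
  · exfalso
    have ba := bd hn e (by norm_num) u2 u1
    have bb := bd hn e' (by norm_num) u2 u1
    obtain ⟨a1, a2, a3⟩ := arU2 (x := iv c54 u) (t := iv θ u) (xa := iv α u) (xb := iv β u)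
      (c := cz u) (by omega) (by omega) (by omega) (by omega) (by omega) (by omega) (by omega)
      (by omega) cd c5 (by push_cast at Du; linear_combination Du)
    have g := h.gam u u2
    have := sq_nonneg (iv α u)
    have := sq_nonneg (iv β u)
    rw [a1, a2] at g nu
    omega

end Su

end H18.M12
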