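import Mathlib

/-! Fusing twenty small orbits into seven. -/

set_option autoImplicit false

namespace H18.Rk7
open MulAction Finset

def oL : List ℕ := [1, 3795, 318780, 1275120, 5100480, 1912680, 478170, 26565, 11385, 2550240, 2550240, 1771, 53130, 212520, 7650720, 15301440, 40803840, 81607680, 12241152, 967680]
def b : Fin 20 → Fin 7 := ![0, 1, 3, 5, 4, 5, 3, 2, 1, 3, 5, 2, 3, 5, 5, 4, 5, 6, 4, 6]
def f (S : Finset (Fin 7)) : ℕ := ∑ i ∈ univ.filter (fun i : Fin 20 => b i ∈ S), oL.getD i 0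

theorem dv : ∀ S : Finset (Fin 7), ∀ j ∈ S, f S ∣ 2048 * 244823040 → S = {j} ∨ 4 ∈ S ∧ 5 ∈ S := by decide +kernel

theorem abs {G : Type*} [Group G] [Finite G] (H : Subgroup G) (c : Fin 7 → G ⧸ H) (O : Fin 20 → Set (G ⧸ H))
    (o1 : ∀ q, ∃ i, q ∈ O i) (o2 : ∀ i, (O i).ncard ≤ oL.getD i 0) (o3 : ∀ i, O i ⊆ orbit H (c (b i)))
    (hi : H.index = 173067389) (hc : Nat.card H = 2048 * 244823040)
    (n45 : orbit H (c 4) ≠ orbit H (c 5)) :
    (∀ i j, i ≠ j → orbit H (c i) ≠ orbit H (c j)) ∧ (∀ q, ∃ i, q ∈ orbit H (c i)) ∧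
      (List.ofFn fun i => (orbit H (c i)).ncard) = [1, 15180, 28336, 3400320, 32643072, 54405120, 82575360] := by
  classical
  have := Fintype.ofFinite (G ⧸ H)
  choose α hα using o1
  have le : ∀ i ∈ (univ : Finset (Fin 20)), (univ.filter fun q => α q = i).card ≤ oL.getD i 0 := fun i _ => by
    refine le_trans ?_ (o2 i)
    rw [← Set.ncard_coe_finset]
    exact Set.ncard_le_ncard (fun q hq => by
      have := (mem_filter.1 (mem_coe.1 hq)).2
      exact this ▸ hα q) (Set.toFinite _)
  have sm : ∑ i : Fin 20, (univ.filter fun q => α q = i).card = ∑ i : Fin 20, oL.getD i 0 := by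
    rw [← card_eq_sum_card_fiberwise (fun q _ => mem_coe.2 (mem_univ (α q))), card_univ, ← Nat.card_eq_fintype_card,
      ← Subgroup.index_eq_card, hi]
    decide +kernel
  have eq := (sum_eq_sum_iff_of_le le).1 sm
  have cd : ∀ j, (orbit H (c j)).ncard = f (univ.filter fun k => orbit H (c k) = orbit H (c j)) := fun j => by
    have : orbit H (c j) = ↑(univ.filter fun q => α q ∈ univ.filter (fun i : Fin 20 =>
        b i ∈ univ.filter fun k => orbit H (c k) = orbit H (c j))) := by
      ext q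
      simp only [coe_filter, mem_filter, mem_univ, true_and, Set.mem_ofPred_eq]
      rw [← orbit_eq_iff.2 (o3 _ (hα q)), orbit_eq_iff]
    conv_lhs => rw [this]
    rw [Set.ncard_coe_finset, ← sum_card_fiberwise_eq_card_filter]
    exact sum_congr rfl fun i _ => eq i (mem_univ i)
  have one : ∀ j, (univ.filter fun k => orbit H (c k) = orbit H (c j)) = {j} := fun j => by
    refine (dv (univ.filter fun k => orbit H (c k) = orbit H (c j)) j (mem_filter.2 ⟨mem_univ _, rfl⟩) ?_).resolve_right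
      fun k => ?_
    on_goal 2 =>
      skip
      simp only [mem_filter, mem_univ, true_and] at k
      exact n45 (k.1.trans k.2.symm)
    rw [← cd, ← hc, ← index_stabilizer]
    exact Subgroup.index_dvd_card _
  refine ⟨fun i j n e => n ?_, fun q => ⟨_, o3 _ (hα q)⟩, ?_⟩
  · exact mem_singleton.1 (one j ▸ mem_filter.2 ⟨mem_univ _, e⟩)
  · simp only [cd, one]
    decide +kernel

end H18.Rk7
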