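import Mathlib.LinearAlgebra.Matrix.ProjectiveSpecialLinearGroup
import Mathlib.FieldTheory.Finite.Basic
import Mathlib.LinearAlgebra.Matrix.NonsingularInverse
import Mathlib.Algebra.CharP.CharAndCard

/-! Every non-scalar `3 × 3` matrix of determinant one is a product of two conjugates of a fixed
regular semisimple matrix. -/

set_option autoImplicit false
open Matrix

namespace H18.Sour

variable {F : Type*} [Field F] {A B D P R : Matrix (Fin 3) (Fin 3) F}

/-- `A` is a product of two conjugates of `D` -/
def Good (D A : Matrix (Fin 3) (Fin 3) F) : Prop := ∃ X Y, IsConj D X ∧ IsConj D Y ∧ A = X * Y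

theorem conj_of (hP : P.det ≠ 0) (h : P * A = B * P) : IsConj A B :=
  let ⟨u, hu⟩ := (isUnit_iff_isUnit_det P).2 hP.isUnit
  ⟨u, by rw [SemiconjBy, hu, h]⟩

theorem conj_exists (hP : P.det ≠ 0) (A : Matrix (Fin 3) (Fin 3) F) : ∃ B, A * P = P * B :=
  ⟨P⁻¹ * (A * P), by rw [mul_nonsing_inv_cancel_left _ _ hP.isUnit]⟩

theorem Good.conj (h : Good D B) (hP : P.det ≠ 0) (e : A * P = P * B) : Good D A := by
  obtain ⟨X, Y, h1, h2, rfl⟩ := h
  have u := hP.isUnit
  refine ⟨P * X * P⁻¹, P * Y * P⁻¹, h1.trans (conj_of hP ?_), h2.trans (conj_of hP ?_), ?_⟩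
  · rw [nonsing_inv_mul_cancel_right _ _ u]
  · rw [nonsing_inv_mul_cancel_right _ _ u]
  · rw [← mul_nonsing_inv_cancel_right P A u, e]
    simp only [Matrix.mul_assoc, nonsing_inv_mul_cancel_left _ _ u]

theorem good_of_cert (hP : P.det ≠ 0) (hR : R.det ≠ 0) (h : A * (P * R) = P * D * (R * D)) :
    Good D A := by
  have hQ : (P * R).det ≠ 0 := by rw [det_mul]; exact mul_ne_zero hP hR
  refine Good.conj (B := R⁻¹ * D * R * D) ⟨_, D, (conj_of hR ?_).symm, IsConj.refl _, rfl⟩ hQ ?_
  · rw [Matrix.mul_assoc, mul_nonsing_inv_cancel_left _ _ hR.isUnit]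
  · rw [h]; simp only [Matrix.mul_assoc, mul_nonsing_inv_cancel_left _ _ hR.isUnit]

theorem det_eq (hP : P.det ≠ 0) (e : A * P = P * B) : B.det = A.det := by
  have := congrArg det e
  rw [det_mul, det_mul, mul_comm] at this
  exact (mul_left_cancel₀ hP this).symm

theorem normal_form (hA : ∀ c : F, A ≠ c • 1) : ∃ P : Matrix (Fin 3) (Fin 3) F, ∃ b c d e f h,
    P.det ≠ 0 ∧ A * P = P * !![1, b, c; 1, d, e; 0, f, h] := by
  have h1 : ∃ v w : Fin 3 → F, (of ![v, A *ᵥ v - v, w])ᵀ.det ≠ 0 := by
    by_contra h
    push Not at h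
    have k := fun v w => (det_transpose _).symm.trans (h v w)
    simp only [det_fin_three, of_apply, cons_val', cons_val_zero, cons_val_one, cons_val_two,
      Pi.sub_apply, mulVec, dotProduct, Fin.sum_univ_three, cons_val_fin_one, cons_val] at k
    have a1 := k ![1, 0, 0] ![0, 0, 1]
    have a2 := k ![1, 0, 0] ![0, 1, 0]
    have a3 := k ![0, 1, 0] ![0, 0, 1]
    have a4 := k ![0, 1, 0] ![1, 0, 0]
    have a5 := k ![0, 0, 1] ![0, 1, 0]
    have a6 := k ![0, 0, 1] ![1, 0, 0]
    have a7 := k ![1, 1, 0] ![0, 0, 1]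
    have a8 := k ![1, 0, 1] ![0, 1, 0]
    simp at a1 a2 a3 a4 a5 a6 a7 a8
    refine hA (A 0 0) ?_
    ext i j
    fin_cases i <;> fin_cases j <;> simp [*]
    · linear_combination a7 + a3 - a1
    · linear_combination -a8 + a5 - a2
  obtain ⟨v, w, h⟩ := h1
  obtain ⟨B, hB⟩ := conj_exists h A
  refine ⟨_, B 0 1, B 0 2, B 1 1, B 1 2, B 2 1, B 2 2, h, hB.trans (congrArg _ ?_)⟩
  have : B *ᵥ ![1, 0, 0] = ![1, 1, 0] := by
    apply mulVec_injective_of_isUnit ((isUnit_iff_isUnit_det _).2 h.isUnit)
    simp only [mulVec_mulVec, ← hB]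
    ext i
    simp [← mulVec_mulVec, mulVec, dotProduct, Fin.sum_univ_three, mul_apply]
  have k := fun i => congrFun this i
  simp only [mulVec, dotProduct, Fin.sum_univ_three] at k
  ext i j
  fin_cases i <;> fin_cases j <;> simp
  exacts [by simpa using k 0, by simpa using k 1, by simpa using k 2]

theorem lower_conj {x y z : F} (h1 : x ≠ y) (h2 : x ≠ z) (h3 : y ≠ z) (p q r : F) :
    IsConj !![x, 0, 0; 0, y, 0; 0, 0, z] !![x, 0, 0; p, y, 0; q, r, z] := by
  have := sub_ne_zero.2 h1
  have := sub_ne_zero.2 h2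
  have := sub_ne_zero.2 h3
  refine conj_of (P := !![1, 0, 0; p / (x - y), 1, 0; (q + r * (p / (x - y))) / (x - z), r / (y - z), 1])
    (by simp [det_fin_three]) ?_
  ext i j
  fin_cases i <;> fin_cases j <;> simp [mul_apply, Fin.sum_univ_three] <;> field_simp <;> ring

theorem upper_conj {x y z : F} (h1 : x ≠ y) (h2 : x ≠ z) (h3 : y ≠ z) (p q r : F) :
    IsConj !![x, 0, 0; 0, z, 0; 0, 0, y] !![x, p, q; 0, y, r; 0, 0, z] := by
  have := sub_ne_zero.2 h1.symm
  have := sub_ne_zero.2 h2.symm
  have := sub_ne_zero.2 h3.symm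
  refine conj_of (P := !![1, (q + p * (r / (z - y))) / (z - x), p / (y - x); 0, r / (z - y), 1; 0, 1, 0])
    (by simp [det_fin_three]) ?_
  ext i j
  fin_cases i <;> fin_cases j <;> simp [mul_apply, Fin.sum_univ_three] <;> field_simp <;> ring

variable {a : F} (h0 : a ≠ 0) (h1 : a * a ≠ 1)
include h0 h1

theorem good_minor (e1 : A 0 0 = 1) (e2 : A 1 1 - A 0 1 * A 1 0 = 1) (e3 : A.det = 1) :
    Good !![1, 0, 0; 0, a, 0; 0, 0, a⁻¹] A := by
  have k1 : (1 : F) ≠ a := fun e => h1 (by simp [← e])
  have k2 : (1 : F) ≠ a⁻¹ := fun e => k1 (by rw [← inv_inv a, ← e, inv_one])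
  have k3 : a ≠ a⁻¹ := fun e => h1 (by nth_rewrite 2 [e]; exact mul_inv_cancel₀ h0)
  refine ⟨_, _, lower_conj k1 k2 k3 (A 1 0) (A 2 0) ((A 2 1 - A 2 0 * A 0 1) * a),
    upper_conj k2 k1 k3.symm (A 0 1) (A 0 2) (a⁻¹ * (A 1 2 - A 1 0 * A 0 2)), ?_⟩
  rw [det_fin_three, e1] at e3
  ext i j
  fin_cases i <;> fin_cases j <;> simp [mul_apply, Fin.sum_univ_three, e1, h0]
  · linear_combination e2
  · field_simp
    linear_combination e3 - (A 2 2 - A 0 2 * A 2 0) * e2

theorem good_vec (e1 : A 0 0 = 1) (e3 : A.det = 1) (x y : F)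
    (h : x * ((A 2 1 - A 2 0 * A 0 1) * x + (A 2 2 - A 2 0 * A 0 2) * y) ≠
      y * ((A 1 1 - A 1 0 * A 0 1) * x + (A 1 2 - A 1 0 * A 0 2) * y)) :
    Good !![1, 0, 0; 0, a, 0; 0, 0, a⁻¹] A := by
  set s := (A 1 1 - A 1 0 * A 0 1) * x + (A 1 2 - A 1 0 * A 0 2) * y with hs
  set t := (A 2 1 - A 2 0 * A 0 1) * x + (A 2 2 - A 2 0 * A 0 2) * y with ht
  have hP : (!![1, 0, 0; 0, x, s - x; 0, y, t - y] : Matrix _ _ F).det ≠ 0 := by
    simp [det_fin_three]
    exact fun e => h (by linear_combination e)
  obtain ⟨B, hB⟩ := conj_exists hP A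
  have k := fun i j => congrFun (congrFun hB i) j
  simp only [mul_apply, Fin.sum_univ_three] at k
  have k1 := k 0 0
  have k2 := k 0 1
  have k3 := k 1 0
  have k4 := k 1 1
  have k5 := k 2 0
  have k6 := k 2 1
  simp at k1 k2 k3 k4 k5 k6
  refine (good_minor h0 h1 (k1 ▸ e1) ?_ ((det_eq hP hB).trans e3)).conj hP hB
  apply mul_left_cancel₀ (sub_ne_zero.2 h)
  linear_combination (t - y) * (hs - k4 + B 0 1 * k3 + A 1 0 * k2) -
    (s - x) * (ht - k6 + B 0 1 * k5 + A 2 0 * k2)

theorem good_all (hA : ∀ c : F, A ≠ c • 1) (e3 : A.det = 1) :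
    Good !![1, 0, 0; 0, a, 0; 0, 0, a⁻¹] A := by
  obtain ⟨P, b, c, d, e, f, h, hP, k⟩ := normal_form hA
  refine Good.conj ?_ hP k
  have e4 := (det_eq hP k).trans e3
  by_cases c1 : f ≠ 0
  · exact good_vec h0 h1 rfl e4 1 0 (by simpa using c1)
  by_cases c2 : e - c ≠ 0
  · exact good_vec h0 h1 rfl e4 0 1 (by simpa using c2.symm)
  by_cases c3 : h ≠ d - b
  · push Not at c1 c2
    exact good_vec h0 h1 rfl e4 1 1 (by simpa [c1, c2] using c3)
  push Not at c1 c2 c3
  obtain rfl := sub_eq_zero.1 c2
  subst c1 c3
  have e5 : d - b ≠ 0 := fun e => by simp [det_fin_three, e] at e4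
  have hQ : (!![1, 0, 1; 0, 1, 0; 0, 0, 1] : Matrix _ _ F).det ≠ 0 := by simp [det_fin_three]
  by_cases c4 : d - b = 1
  · exact good_minor h0 h1 rfl (by simpa using c4) e4
  have k2 : !![1, b, e; 1, d, e; 0, 0, d - b] * !![1, 0, 1; 0, 1, 0; 0, 0, 1] =
      !![1, 0, 1; 0, 1, 0; 0, 0, 1] * !![1, b, 1 + e - (d - b); 1, d, 1 + e; 0, 0, d - b] := by
    simp
  exact (good_vec h0 h1 rfl ((det_eq hQ k2).trans e4) 0 1 (by simpa using e5.symm)).conj hQ k2

omit h0 h1

/-- conjugating matrices for the field with three elements -/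
def cert : ℕ := 0x3a924bad139a8da00000000000000000000011343f88000000067f99a5000000000000000000000044bdbbe800000000000000000000044e90cf00000001ba2def00000000000000000000001135727889804ae000000000000000000000089cd470000000000000000000000089a1fc7752497780000000000000000000000000000225ede0113a434200000000000000000000019fe6696000000044d5c9f800000000000000000000044c025880000000000000000000006e8b7b9a2687f280000000000000000000003a924bc0000000000000000000000227351a8000000089d21a40000000000000000000000cff334644bdbbd00000000000000000000000000000226012d1ba2deee00000000000000000000011357272000000000000000000000209ce6ca0000000825df6b800000027bb5dca0000000000000041302db000000000000000000000000000002092ad86000000091c275a800000000000001049a3580000000413c35e40000000000000000000000000000261515f904bbeda000000000000000000000000000009eed7700000000209ce6be0000000000000041255b1800000012384eb90000000000000000000000000000082605b300000000000000104f0d7c00000004c2a2bf40000001049a35200000000000000000000013ddaee100000004139cd88000000000000000000000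000000020977da80000000000000048e13ad0000000104c0b69000000041255b000000000000000098545808000000000000000000000000000041268d54000000104f0d7600000000000000000000016395e19000000000000000f99f9a60000000000000058e57af61fb1e180000000000000043f63cac00000000000000601c34c00000000000000000000006f91632800000000000001376f919000000000000000444c24e0000000000000000000000f9bca280000000000000058e57af800000000000000b1caf0ec3f63c8c00000000000000601c34d0000000000000010fd8f10000000000000000000000022261ae0000000000000026edf33e0000000000000037c8b1a400000000000000000000058e57ae400000000000000b1caf0c0000000000000007d17f5834705788000000000000010fd8f080000000000000021fb1e4e00000000000000000000026edf3400000000000000037c8b184000000000000009bb7c8c00000000000000097860a1000000025c972c4000000000000000000000000000019dd5c2a00000000000000376896c40000000972a9e8000000025d6ad64000000000000004bc09b5000000000000000000000000000003ab18778000000097511de0000000000000000000000978609b000000025c972d00000000ceeae19000000000000001bb44b6a00000000000000000000000000000972a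9eb000000025d6ad4c000000000000004bc09b680000001d58c3c40000000000000000000000000000097511e14bc304f0000000000000000000000000000025c972dc0000000ceeae1a000000000000001bb44b6c00000004b954f28000000000000000000000000000025d6ad58000000000000004bc09b380000001d58c3c600000004ba88f20000000000000000000000891fdd60000000000000000000000893a582c89f283c00000000000000000000000000002248925d31341240000000000000000000001129ff3f00000004f95f5b0000000000000000000000449bf60c00000000000000000000044a59886247f74c000000000000000000000224e9610000000000000000000000244f9414000000089224988000000000000000000000989a08fc4a7fd08000000000000000000000000000027cafacf126fd860000000000000000000001129661b0000000000000000000001123fba9893a5858000000000000000000000913e505800000022489256000000000000000000000262682400000000000000000000002253fe8a00000009f2beb400000000000000000000008937ec044a59878000000000000000000000371f2aa4000000000000007597a88800000000000000cf4f4650000000000000000000000b7caedb000000000000000dace15a000000000000003e02df4eb48371c00000000000000240975c40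0000000000000ad20d6680000000000000000000006e7f368800000000000000ea2bd150000000000000019fa207800000000000000000000016f95dc0000000000000002df2b5fc000000000000007bf747656906e2800000000000000ad20d940000000000000009025cc30000000000000000000000dd802a5000000000000001d55b2740000000000000033b360f40000000000000000000001b59be1c0000000000000036b385a000000000000000f8538cf4812e468000000000000009025d6f000000000000002b4835a20000000000000000000000000000000000003dfe3929ef1df79b93410000000000000000000000000000000000000000000001efcb2f5d6a30427c27c16000000000000000000000000000000000000000000019ecfa187bd12463e0f0d7000000000000000000000000000000000000000000000000000000000000000001b9341087bfc71f3de3bf0800000000000000000000000000000000000000000007c27c193df965bbad4607000000000000000000000000000000000000000000003e0f0d8b3d9f434f7a24927bc77db6e4d0429eff1c88000000000000000000000000000000000000000000075a8c101f09f070f7e597400000000000000000000000000000000000000000001ef4490cf83c368cf67d080000000000000000000000000000000000000000000000000000000000000000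000000000000000000000009815e3d3dd06ae9edc2da600000000000000000000000000000000000000000003dc59791ee701473ee338a00000000000000000000000000000000000000000001ee1979b22f98927b758753dd06af5edc2dad302bc7500000000000000000000000000000000000000000001ee7014d3ee338b7b8b2ef0000000000000000000000000000000000000000000122f98967b75876bdc32f1c00000000000000000000000000000000000000000000000000000000000000000f6e16d09815e3b3dd06b0000000000000000000000000000000000000000000009f719c7bdc59785ee7015200000000000000000000000000000000000000000003dbac39dee1979522f9891000000000000000000000000000000000000000000000000000000000000000000000000000000000000000000000000000000000000000000000000000000000000000000000000000000000000000000000000000000000000000000000000000000000000000000000000000000000000000000000000000000000000000000000000000000000000000000000000000000000000000000000000000000000000000000000000000000000000000000000000000000000000000000000000000000000000000000000000000000000000000000000000000000000000000000000000000000000000000000000000000000000000000000000000000000000000000000000000000000000000000000000000000000000000000000000000000000000000000000000000000000000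

/-- decoding of a matrix -/
def mat (n : ℕ) (i j : Fin 3) : ℕ := n / 3 ^ (3 * i.1 + j.1) % 3

/-- product of matrices -/
def mm (A B : Fin 3 → Fin 3 → ℕ) (i j : Fin 3) : ℕ := A i 0 * B 0 j + A i 1 * B 1 j + A i 2 * B 2 j

/-- determinant one modulo three -/
def dt (P : Fin 3 → Fin 3 → ℕ) : Prop := (P 0 0 * P 1 1 * P 2 2 + P 0 1 * P 1 2 * P 2 0 +
  P 0 2 * P 1 0 * P 2 1) % 3 = (1 + P 0 0 * P 1 2 * P 2 1 + P 0 1 * P 1 0 * P 2 2 +
  P 0 2 * P 1 1 * P 2 0) % 3

instance (P : Fin 3 → Fin 3 → ℕ) : Decidable (dt P) := Nat.decEq _ _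

/-- the property certified -/
def chk (k v : ℕ) : Bool := !decide (dt (mat k)) || (decide (dt (mat v)) &&
  decide (dt (mat (v / 19683))) && [0, 1, 2].all fun i => [0, 1, 2].all fun j =>
    mm (mat k) (mm (mat v) (mat (v / 19683))) i j % 3 ==
      mm (mm (mat v) (mat 2674)) (mm (mat (v / 19683)) (mat 2674)) i j % 3)

theorem cert_ok : (List.range 729).all (fun k => chk (28 + 3 * (k % 9) + 81 * (k / 9 % 9) +
    2187 * (k / 81)) (cert / 2 ^ (29 * k) % 2 ^ 29)) = true := by
  decide +kernel

theorem cast_mm (A B : Fin 3 → Fin 3 → ℕ) : (of fun i j => (mm A B i j : F)) =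
    (of fun i j => (A i j : F)) * of fun i j => (B i j : F) := by
  ext i j; simp [mm, mul_apply, Fin.sum_univ_three]

theorem dt_iff [CharP F 3] (P : Fin 3 → Fin 3 → ℕ) : dt P ↔ (of fun i j => (P i j : F)).det = 1 := by
  rw [dt, ← Nat.ModEq, ← CharP.natCast_eq_natCast F 3, det_fin_three]
  simp only [of_apply]
  push_cast
  exact ⟨fun h => by linear_combination h, fun h => by linear_combination h⟩

theorem good_three [Fintype F] (hF : Fintype.card F = 3) (hA : ∀ c : F, A ≠ c • 1) (e3 : A.det = 1) :
    Good !![1, 0, 0; 0, 0, 2; 0, 1, 0] A := by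
  obtain ⟨P, b, c, d, e, f, h, hP, k⟩ := normal_form hA
  refine Good.conj ?_ hP k
  have e4 := (det_eq hP k).trans e3
  have := Fact.mk Nat.prime_three
  have := charP_of_card_eq_prime hF
  have hs : ∀ x : F, ∃ n : ℕ, n < 3 ∧ x = n := fun x => by
    obtain ⟨y, rfl⟩ := (ZMod.ringEquivOfPrime F Nat.prime_three hF).surjective x
    exact ⟨y.val, y.val_lt, by rw [← map_natCast (ZMod.ringEquivOfPrime F Nat.prime_three hF),
      ZMod.natCast_zmod_val]⟩
  obtain ⟨b, hb, rfl⟩ := hs b
  obtain ⟨c, hc, rfl⟩ := hs c
  obtain ⟨d, hd, rfl⟩ := hs d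
  obtain ⟨e, he, rfl⟩ := hs e
  obtain ⟨f, hf, rfl⟩ := hs f
  obtain ⟨h, hh, rfl⟩ := hs h
  have k1 := List.all_eq_true.1 cert_ok (b + 3 * c + 9 * d + 27 * e + 81 * f + 243 * h)
    (List.mem_range.2 (by omega))
  generalize cert / _ % _ = v at k1
  generalize hw : 28 + _ + _ + _ = w at k1
  have k2 : !![1, (b : F), c; 1, d, e; 0, f, h] = of fun i j => (mat w i j : F) := by
    have : mat w 0 0 = 1 ∧ mat w 0 1 = b ∧ mat w 0 2 = c ∧ mat w 1 0 = 1 ∧ mat w 1 1 = d ∧
        mat w 1 2 = e ∧ mat w 2 0 = 0 ∧ mat w 2 1 = f ∧ mat w 2 2 = h := by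
      have h1 : (b + 3 * c + 9 * d + 27 * e + 81 * f + 243 * h) % 9 = b + 3 * c := by omega
      have h2 : (b + 3 * c + 9 * d + 27 * e + 81 * f + 243 * h) / 9 % 9 = d + 3 * e := by omega
      have h3 : (b + 3 * c + 9 * d + 27 * e + 81 * f + 243 * h) / 81 = f + 3 * h := by omega
      rw [h1, h2, h3] at hw
      clear h1 h2 h3
      simp only [mat, Fin.val_zero, Fin.val_one, Fin.val_two]
      refine ⟨?_, ?_, ?_, ?_, ?_, ?_, ?_, ?_, ?_⟩ <;> omega
    ext i j
    fin_cases i <;> fin_cases j <;> simp [this]
  have k3 : !![1, 0, 0; 0, 0, 2; 0, 1, 0] = of fun i j => (mat 2674 i j : F) := by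
    ext i j
    fin_cases i <;> fin_cases j <;> simp [mat]
  rw [k2] at e4 ⊢
  rw [k3]
  simp only [chk, (dt_iff _).2 e4, decide_true, Bool.not_true, Bool.false_or, Bool.and_eq_true,
    decide_eq_true_eq, List.all_eq_true, beq_iff_eq, dt_iff (F := F)] at k1
  refine good_of_cert (k1.1.1.trans_ne one_ne_zero) (k1.1.2.trans_ne one_ne_zero) ?_
  simp only [← cast_mm]
  ext i j
  exact (CharP.natCast_eq_natCast F 3).2 (k1.2 i (by fin_cases i <;> simp) j (by fin_cases j <;> simp))

theorem psl_cover (hD : D.det = 1) (hZ : ∀ t : F, t ≠ 0 → ∃ Z, Z * D = D * Z ∧ Z.det = t)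
    (hG : ∀ A, (∀ c : F, A ≠ c • 1) → A.det = 1 → Good D A)
    (g : ProjectiveSpecialLinearGroup (Fin 3) F) (hg : g ≠ 1) :
    ∃ u v, g = u * (QuotientGroup.mk ⟨D, hD⟩ : ProjectiveSpecialLinearGroup (Fin 3) F) * u⁻¹ *
      (v * (QuotientGroup.mk ⟨D, hD⟩ : ProjectiveSpecialLinearGroup (Fin 3) F) * v⁻¹) := by
  obtain ⟨g, rfl⟩ := QuotientGroup.mk_surjective g
  obtain ⟨X, Y, h1, h2, h3⟩ := hG g (fun c e => hg ((QuotientGroup.eq_one_iff _).2
    (Subgroup.mem_center_iff.2 fun y => Subtype.ext (by simp [e])))) g.2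
  have key : ∀ X, IsConj D X → ∃ u : SpecialLinearGroup (Fin 3) F, X = (u * ⟨D, hD⟩ * u⁻¹).1 := by
    rintro X ⟨c, hc⟩
    have h4 : c.1.det ≠ 0 := ((isUnit_iff_isUnit_det _).1 c.isUnit).ne_zero
    obtain ⟨Z, h5, h6⟩ := hZ _ (inv_ne_zero h4)
    let u : SpecialLinearGroup (Fin 3) F := ⟨c * Z, by rw [det_mul, h6, mul_inv_cancel₀ h4]⟩
    refine ⟨u, ?_⟩
    have : (u * ⟨D, hD⟩).1 = X * u.1 := by
      change c.1 * Z * D = X * (c * Z)
      rw [Matrix.mul_assoc, h5, ← Matrix.mul_assoc, hc.eq, Matrix.mul_assoc]
    rw [SpecialLinearGroup.coe_mul, this, Matrix.mul_assoc, ← SpecialLinearGroup.coe_mul,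
      mul_inv_cancel, SpecialLinearGroup.coe_one, Matrix.mul_one]
  obtain ⟨u, rfl⟩ := key X h1
  obtain ⟨v, rfl⟩ := key Y h2
  exact ⟨u, v, by rw [Subtype.ext (h3.trans (SpecialLinearGroup.coe_mul _ _).symm)]; rfl⟩

end H18.Sour
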