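import Cfsg.Agent.H18.Pair
import Cfsg.Agent.H17.FrobIrr

/-! Families of characters attached to a self-centralising subgroup. -/

set_option autoImplicit false
set_option linter.unusedSectionVars false
open H17 Cfsg H15 CF H21 Finset
open scoped ComplexConjugate

namespace H18

variable {G : Type*} [Group G] [Finite G] {A K : Subgroup G} {e : ℕ} {ψ ψ' Φ f : G → ℂ} {a x : G}

/-- `A` is the centraliser of each of its nontrivial elements, of index `e` in its normaliser -/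
structure Tor (A : Subgroup G) (e : ℕ) : Prop where
  ne : A ≠ ⊥
  cent : ∀ a ∈ A, a ≠ 1 → 𝒞₁(a) = A
  idx : A.relIndex 𝒩(A) = e

/-- the irreducible characters of the normaliser which are nontrivial on `A` -/
noncomputable abbrev TS (A : Subgroup G) : Finset (G → ℂ) := IrrD 𝒩(A) A ⊥

theorem sum_sharp {M : Type*} [AddCommMonoid M] (A : Subgroup G) (f : G → M) :
    ∑ x ∈ fs (A : Set G), f x = f 1 + ∑ x ∈ fs ((A : Set G) \ {1}), f x := by
  rw [sum_fs_diff (A := {1}) (by simp), ← coe_singleton, fs_coe, sum_singleton]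

theorem ncard_sharp (A : Subgroup G) : (((A : Set G) \ {1}).ncard : ℂ) = Nat.card A - 1 := by
  have := sum_sharp A fun _ => (1 : ℂ)
  rw [sum_sub_const, sum_fs_const] at this
  linear_combination -this

theorem Ind_zero_cop {N : Subgroup G} (h : ψ ∈ supp (A : Set G)) (hx : x ∈ K) (h1 : x ≠ 1)
    (hc : (Nat.card A).Coprime (Nat.card K)) : Ind ⊤ N ψ x = 0 :=
  Ind_eq_zero_of fun t _ _ => h _ fun ht => h1 (orderOf_eq_one_iff.1 (Nat.eq_one_of_dvd_coprimes hc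
    ((MulEquiv.orderOf_eq (MulAut.conj t) x) ▸ A.orderOf_dvd_natCard ht)
    (K.orderOf_dvd_natCard hx)))

theorem div_sum_vchar {B : Subgroup G} {S : Finset (G → ℂ)} (hS : S ⊆ Irr B) {w : ℂ} (hw : w ≠ 0)
    (h : ∀ χ ∈ S, ∃ n : ℕ, χ 1 = w * n) (hf : ∀ g, w * f g = ∑ χ ∈ S, χ 1 * χ g) : f ∈ vchar B := by
  have : f = ∑ χ ∈ S, (χ 1 / w) • χ := by
    ext g
    apply mul_left_cancel₀ hw
    rw [hf, Finset.sum_apply, mul_sum]
    exact sum_congr rfl fun χ _ => by simp only [Pi.smul_apply, smul_eq_mul]; field_simp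
  rw [this]
  refine Submodule.sum_mem _ fun χ hχ => ?_
  obtain ⟨n, hn⟩ := h χ hχ
  rw [hn, mul_div_cancel_left₀ _ hw]
  exact natCast_smul_mem (irr_vchar (hS hχ)) n

namespace Tor
variable (h : Tor A e)
include h

theorem comm : IsMulCommutative A := ⟨⟨fun a b => Subtype.ext (by
  by_cases hb : b.1 = 1
  · simp [hb]
  · exact Subgroup.mem_centralizer_singleton_iff.1 ((h.cent b b.2 hb).ge a.2))⟩⟩

theorem ti : NormedTI ((A : Set G) \ {1}) ⊤ 𝒩(A) where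
  ne := by
    obtain ⟨a, ha, h1⟩ := (A.bot_or_exists_ne_one).resolve_left h.ne
    exact ⟨a, ha, h1⟩
  le := le_top
  iff := fun a ha g _ => ⟨fun hg => by
    have key : ∀ b, b ∈ A ↔ g * b * g⁻¹ ∈ A := fun b => by
      conv_lhs => rw [← h.cent a ha.1 ha.2]
      conv_rhs => rw [← h.cent _ hg.1 hg.2]
      simp only [Subgroup.mem_centralizer_singleton_iff, conj_mul, mul_left_inj, mul_right_inj]
    exact Subgroup.mem_normalizer_iff.2 key,
    fun hg => ⟨(Subgroup.mem_normalizer_iff.1 hg a).1 ha.1, by simpa using ha.2⟩⟩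

theorem frob : ∀ g ∈ 𝒩(A), g ∉ A → ∀ x ∈ A, x * g = g * x → x = 1 := fun _ _ hg x hx e =>
  by_contra fun h1 => hg ((h.cent x hx h1).le (Subgroup.mem_centralizer_singleton_iff.2 e.symm))

theorem card : (Nat.card 𝒩(A) : ℂ) = Nat.card A * e := by
  rw [← h.idx, ← Nat.cast_mul, card_mul_relIndex Subgroup.le_normalizer]

theorem e_ne : (e : ℂ) ≠ 0 := h.idx ▸ relIndex_ne _ _

theorem exists_lin (hψ : ψ ∈ TS A) : ∃ l ∈ Irr A, Ind 𝒩(A) A l = ψ :=
  let ⟨l, h1, _, h2⟩ := irr_eq_Ind_of_frob Subgroup.le_normalizer le_rfl h.frob (IrrD_irr hψ)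
    (mem_IrrD_bot.1 hψ).2
  ⟨l, h1, h2⟩

theorem one_eq (hψ : ψ ∈ TS A) : ψ 1 = e := by
  obtain ⟨l, h1, rfl⟩ := h.exists_lin hψ
  rw [Ind_one Subgroup.le_normalizer, irr_one_of_comm h.comm h1, h.idx, mul_one]

theorem on (hψ : ψ ∈ TS A) : ψ ∈ cfOn 𝒩(A) A := by
  obtain ⟨l, -, rfl⟩ := h.exists_lin hψ
  exact Ind_mem_cfOn_normal Subgroup.le_normalizer le_rfl l

theorem norm_le (hψ : ψ ∈ TS A) (g : G) : ‖ψ g‖ ≤ e := by
  simpa [h.one_eq hψ] using (irr_char (IrrD_irr hψ)).norm_le g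

theorem card_TS : (e : ℂ) * (TS A).card = Nat.card A - 1 := by
  have := sum_IrrD_sq (K := 𝒩(A)) (H := A) (M := ⊥) Subgroup.le_normalizer bot_le le_rfl
    Subgroup.le_normalizer_of_normal
  rw [sum_congr rfl fun ψ hψ => by rw [h.one_eq hψ], sum_const, h.idx,
    Subgroup.relIndex_bot_left, nsmul_eq_mul] at this
  exact mul_left_cancel₀ h.e_ne (by linear_combination this)

theorem sum_TS (ha : a ∈ A) (h1 : a ≠ 1) : ∑ ψ ∈ TS A, ψ a = -1 := by
  have := sum_IrrD_one_mul (K := 𝒩(A)) (H := A) (M := ⊥) Subgroup.le_normalizer bot_le le_rfl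
    Subgroup.le_normalizer_of_normal a
  rw [sum_congr rfl fun ψ hψ => by rw [h.one_eq hψ], ← mul_sum, h.idx, one_of_mem ha,
    one_of_not_mem (by simpa using h1)] at this
  exact mul_left_cancel₀ h.e_ne (by linear_combination this)

theorem sum_sq (ha : a ∈ A) (h1 : a ≠ 1) : ∑ ψ ∈ TS A, ‖ψ a‖ ^ 2 = (Nat.card A : ℝ) - e := by
  have h2 := sum_normSq_Irr (H := 𝒩(A)) (Subgroup.le_normalizer ha)
  rw [h.cent a ha h1, inf_eq_right.2 Subgroup.le_normalizer, ← IrrQ_bot,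
    ← sum_IrrD_add (H := A) bot_le] at h2
  have h3 := sum_IrrQ_sq (H := 𝒩(A)) (N := A) Subgroup.le_normalizer le_rfl
  have h4 : ∑ χ ∈ IrrQ 𝒩(A) A, ‖χ a‖ ^ 2 = (e : ℝ) := by
    apply Complex.ofReal_injective
    rw [Complex.ofReal_natCast, ← h.idx, ← h3, Complex.ofReal_sum]
    refine sum_congr rfl fun χ hχ => ?_
    obtain ⟨n, -, hn⟩ := irr_pos_one (mem_IrrQ.1 hχ).1
    rw [cfker_apply ((mem_IrrQ.1 hχ).2 ha), hn]; simp
  linarith

theorem real (he : 2 ∣ e) (ho : Odd (Nat.card A)) (ha : a ∈ A) : ∃ t : G, t * a * t⁻¹ = a⁻¹ := by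
  have := Fact.mk Nat.prime_two
  obtain ⟨⟨t, h1⟩, ht⟩ := exists_prime_orderOf_dvd_card' (G := 𝒩(A)) 2 (by
    rw [← card_mul_relIndex Subgroup.le_normalizer, h.idx]; exact he.mul_left _)
  rw [Subgroup.orderOf_mk] at ht
  have h2 : t * t = 1 := by rw [← pow_two, ← ht, pow_orderOf_eq_one]
  have h3 : t ∉ A := fun h => ho.not_two_dvd_nat (ht ▸ A.orderOf_dvd_natCard h)
  have h4 := (Subgroup.mem_normalizer_iff.1 h1 a).1 ha
  have h5 : a * (t * a * t⁻¹) = t * a * t⁻¹ * a :=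
    congrArg Subtype.val (h.comm.1.1 ⟨a, ha⟩ ⟨_, h4⟩)
  refine ⟨t, eq_inv_of_mul_eq_one_right (h.frob t h1 h3 _ (A.mul_mem ha h4) ?_)⟩
  rw [← eq_inv_of_mul_eq_one_left h2] at h5 ⊢
  calc _ = a * t * a * (t * t) := by group
    _ = (t * t) * a * t * a := by rw [h2]; group
    _ = t * (t * a * t * a) := by group
    _ = _ := by rw [← h5]

theorem Ind_at (hψ : ψ ∈ cfOn 𝒩(A) A) (ha : a ∈ A) (h1 : a ≠ 1) : Ind ⊤ 𝒩(A) ψ a = ψ a :=
  h.ti.Ind_id_one (cfOn_mono (by simp) hψ) ⟨ha, h1⟩ h1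

theorem Ind_at_one (h1 : ψ 1 = e) : Ind ⊤ 𝒩(A) ψ 1 = Nat.card G / Nat.card A := by
  rw [Ind_one le_top, h1, relIndex_cast le_top, h.card, Subgroup.card_top]
  field_simp [h.e_ne, card_ne A]

theorem dot_Ind (hψ : ψ ∈ cfOn 𝒩(A) A) (h1 : ψ 1 = e) (hf : f ∈ cf (⊤ : Subgroup G)) :
    dot ⊤ (Ind ⊤ 𝒩(A) ψ) f = ((Nat.card A : ℂ) * e)⁻¹ *
      (e * conj (f 1) + ∑ x ∈ fs ((A : Set G) \ {1}), ψ x * conj (f x)) := by
  rw [dot_Ind_left le_top _ hf, dot_supp (A := A) Subgroup.le_normalizer hψ.2, sum_sharp, h.card, h1]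

theorem dot_Ind_const (hf : f ∈ cf (⊤ : Subgroup G)) {u v : ℝ} (h1 : f 1 = u)
    (h2 : ∀ a ∈ A, a ≠ 1 → f a = v) :
    dot ⊤ (Ind ⊤ 𝒩(A) ((e : ℂ) • one A)) f = (u + (Nat.card A - 1) * v) / Nat.card A := by
  rw [h.dot_Ind (Submodule.smul_mem _ _ ⟨mem_cf_of_stab (fun g hg => one_of_not_mem fun h => hg
    (Subgroup.le_normalizer h)) (norm_le_stab_one A), fun _ => one_of_not_mem⟩) (by simp) hf,
    sum_fs_congr (g := fun _ => (e : ℂ) * v) fun x hx => by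
      rw [h2 x hx.1 hx.2]; simp [one_of_mem hx.1], sum_fs_const, ncard_sharp, h1]
  field_simp [h.e_ne, card_ne A]
  simp

theorem fam_irr (hψ : ψ ∈ TS A) (hΦ : Φ ∈ vchar (⊤ : Subgroup G)) (h0 : ∀ a ∈ A, a ≠ 1 → Φ a = 0)
    {u d : ℝ} {ε : ℤ} (hε : ε = 1 ∨ ε = -1) (h1 : Φ 1 = u) (hd : 0 ≤ d)
    (h2 : (ε : ℂ) * (Nat.card G / Nat.card A - u) = d)
    (hc : dot ⊤ Φ Φ = (2 * u + e - Nat.card G / Nat.card A) / Nat.card A) :
    (ε : ℂ) • (Ind ⊤ 𝒩(A) ψ - Φ) ∈ Irr (⊤ : Subgroup G) := by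
  have v1 := Ind_mem_vchar le_top (irr_vchar (IrrD_irr hψ))
  have v2 := intCast_smul_mem (Submodule.sub_mem _ v1 hΦ) ε
  have d1 : dot ⊤ (Ind ⊤ 𝒩(A) ψ) Φ = u / Nat.card A := by
    rw [h.dot_Ind (h.on hψ) (h.one_eq hψ) (vchar_cf hΦ), sum_fs_eq_zero fun x hx => by
      rw [h0 x hx.1 hx.2]; simp, h1]
    field_simp [h.e_ne, card_ne A]
    simp
  have d2 := dot_irr_self (IrrD_irr hψ)
  rw [dot_supp (A := A) Subgroup.le_normalizer (h.on hψ).2, sum_sharp, h.card, h.one_eq hψ] at d2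
  have d3 : dot ⊤ (Ind ⊤ 𝒩(A) ψ) (Ind ⊤ 𝒩(A) ψ) =
      1 + (Nat.card G / Nat.card A - e) / Nat.card A := by
    rw [h.dot_Ind (h.on hψ) (h.one_eq hψ) (vchar_cf v1), h.Ind_at_one (h.one_eq hψ),
      sum_fs_congr (g := fun x => ψ x * conj (ψ x)) fun x hx => by
        rw [h.Ind_at (h.on hψ) hx.1 hx.2], ← d2]
    simp only [map_div₀, map_natCast]
    field_simp [h.e_ne, card_ne A]
    ring
  refine vchar_mem_Irr v2 ?_ ?_
  · rw [dot_smul_left, dot_intCast_smul_right, dot_sub_left, dot_sub_right, dot_sub_right,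
      vchar_dot_comm hΦ v1, d1, d3, hc]
    rcases hε with rfl | rfl <;> push_cast <;> field_simp [card_ne A] <;> ring
  · simp only [Pi.smul_apply, Pi.sub_apply, smul_eq_mul]
    rw [h.Ind_at_one (h.one_eq hψ), h1, h2]; exact hd

end Tor
end H18
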