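import Cfsg.Agent.H18.SzC1

/-! The character table of a group with the local structure of a Suzuki group. -/

set_option autoImplicit false
set_option linter.unusedSectionVars false
open H17 Cfsg H15 CF H21 Finset
open scoped ComplexConjugate

namespace H18.SzT

variable {G : Type*} [Group G] [Finite G]

/-- the function with values `a` at `1`, `b` on `Z#`, `c` on `Q \ Z` -/
noncomputable def tri (Q Z : Subgroup G) (a b c : ℝ) : G → ℂ :=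
  (c : ℂ) • one Q + ((b : ℂ) - c) • one Z + ((a : ℂ) - b) • one ⊥

def ee : Fin 3 → ℕ := ![2, 4, 4]
def ep : Fin 3 → ℤ := ![1, -1, -1]
def de : Fin 3 → ℤ := ![0, -1, 1]
def nn (s : ℝ) : Fin 3 → ℝ := ![2 * s ^ 2 - 1, 2 * s ^ 2 + 2 * s + 1, 2 * s ^ 2 - 2 * s + 1]
def dd (s : ℝ) : Fin 3 → ℝ := ![4 * s ^ 4 + 1, (2 * s ^ 2 - 2 * s + 1) * (2 * s ^ 2 - 1),
  (2 * s ^ 2 + 2 * s + 1) * (2 * s ^ 2 - 1)]
def bb (s : ℝ) : Fin 3 → ℝ := ![1, 2 * s - 1, -2 * s - 1]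
def gg (s : ℝ) : Fin 3 → ℝ := ![4 * s ^ 4 * (4 * s ^ 4 + 1),
  4 * s ^ 4 * (2 * s ^ 2 - 1) * (2 * s ^ 2 - 2 * s + 1), 4 * s ^ 4 * (2 * s ^ 2 - 1) * (2 * s ^ 2 + 2 * s + 1)]
noncomputable def tt (s : ℝ) : Fin 3 → ℝ := ![s ^ 2 - 1, (s ^ 2 + s) / 2, (s ^ 2 - s) / 2]
def st : Fin 3 → ℝ := ![1, -1, -1]
def al : Fin 3 → ℝ := ![0, 2, -2]

/-- the local structure of a Suzuki group -/
structure SD (s : ℝ) (B Q Z : Subgroup G) (A : Fin 3 → Subgroup G) : Prop where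
  hs : 2 ≤ s
  ZQ : Z ≤ Q
  QB : Q ≤ B
  nZ : B ≤ 𝒩(Z)
  nQ : B ≤ 𝒩(Q)
  ti : NormedTI ((Q : Set G) \ {1}) ⊤ B
  cZ : (Nat.card Z : ℝ) = 2 * s ^ 2
  cQ : (Nat.card Q : ℝ) = 4 * s ^ 4
  cB : (Nat.card B : ℝ) = 4 * s ^ 4 * (2 * s ^ 2 - 1)
  cG : (Nat.card G : ℝ) =
    4 * s ^ 4 * (2 * s ^ 2 - 1) * ((2 * s ^ 2 + 2 * s + 1) * (2 * s ^ 2 - 2 * s + 1))
  tor : ∀ i, Tor (A i) (ee i)
  cA : ∀ i, (Nat.card (A i) : ℝ) = nn s i
  odd : ∀ i, Odd (Nat.card (A i))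
  copQ : ∀ i, (Nat.card (A i)).Coprime (Nat.card Q)
  cop : ∀ i j, i ≠ j → (Nat.card (A i)).Coprime (Nat.card (A j))
  cover : ∀ g, ∃ t, t * g * t⁻¹ ∈ Q ∨ ∃ i, t * g * t⁻¹ ∈ A i
  rho : tri Q Z (4 * s ^ 4 - 1) (-1) (-1) ∈ vchar B
  eta : tri Q Z (2 * s * (2 * s ^ 2 - 1)) (-2 * s) 0 ∈ vchar B
  cent : ∀ x ∈ Q, x ∉ Z → (Nat.card 𝒞₁(x) : ℝ) ≤ 4 * s ^ 2
  sqZ : ∀ x ∈ Q, x * x = 1 ↔ x ∈ Z
  sqQ : ∀ x ∈ Q, x * x ∈ Z
  conjZ : ∀ x ∈ Z, x ≠ 1 → ∀ y ∈ Z, y ≠ 1 → ∃ t, t * x * t⁻¹ = y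

/-- value table of a class function which is constant on the nontrivial elements of each torus -/
structure Cv (Q Z : Subgroup G) (A : Fin 3 → Subgroup G) (f : G → ℂ) (u v w : ℝ) (t : Fin 3 → ℝ) :
    Prop where
  vc : f ∈ vchar (⊤ : Subgroup G)
  one : f 1 = u
  z : ∀ x ∈ Z, x ≠ 1 → f x = v
  q : ∀ x ∈ Q, x ∉ Z → f x = w
  a : ∀ i, ∀ x ∈ A i, x ≠ 1 → f x = t i

noncomputable def Ph (s : ℝ) (B Q Z : Subgroup G) (i : Fin 3) : G → ℂ :=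
  Ind ⊤ B (tri Q Z (4 * s ^ 4 - 1 + de i * (2 * s * (2 * s ^ 2 - 1))) (-1 + de i * (-2 * s)) (-1))

noncomputable def FF (s : ℝ) (B Q Z : Subgroup G) (A : Fin 3 → Subgroup G) (i : Fin 3) (ψ : G → ℂ) :
    G → ℂ := (ep i : ℂ) • (Ind ⊤ 𝒩(A i) ψ - Ph s B Q Z i)

noncomputable def St (s : ℝ) (B Q Z : Subgroup G) (A : Fin 3 → Subgroup G) : G → ℂ :=
  FF s B Q Z A 0 ((ee 0 : ℂ) • one (A 0)) - one ⊤

noncomputable def Al (s : ℝ) (B Q Z : Subgroup G) (A : Fin 3 → Subgroup G) : G → ℂ :=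
  St s B Q Z A - one ⊤ - FF s B Q Z A 1 ((ee 1 : ℂ) • one (A 1))

variable {s : ℝ} {B Q Z : Subgroup G} {A : Fin 3 → Subgroup G} {a b c u v w : ℝ} {x : G}
  {f ψ : G → ℂ} {i j : Fin 3} {t : Fin 3 → ℝ}

theorem tri_one : tri Q Z a b c 1 = a := by simp [tri]
theorem tri_z (h : Z ≤ Q) (hx : x ∈ Z) (h1 : x ≠ 1) : tri Q Z a b c x = b := by
  simp [tri, one_of_mem hx, one_of_mem (h hx), one_of_not_mem (mt Subgroup.mem_bot.1 h1)]
theorem tri_q (hx : x ∈ Q) (h1 : x ∉ Z) : tri Q Z a b c x = c := by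
  simp [tri, one_of_mem hx, one_of_not_mem h1,
    one_of_not_mem (H := ⊥) fun h => h1 (bot_le (a := Z) h)]
theorem tri_supp (h : Z ≤ Q) : tri Q Z a b c ∈ supp (Q : Set G) := fun x hx => by
  simp [tri, one_of_not_mem hx, one_of_not_mem fun h' => hx (h h'),
    one_of_not_mem (H := ⊥) fun h => hx (bot_le (a := Q) h)]

theorem one_cf {K N : Subgroup G} (h : K ≤ N) (hn : N ≤ 𝒩(K)) : one K ∈ cf N :=
  mem_cf_of_stab (fun _ hg => one_of_not_mem fun h' => hg (h h')) (hn.trans (norm_le_stab_one K))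

theorem ep_sq (i : Fin 3) : ep i = 1 ∨ ep i = -1 := by fin_cases i <;> simp [ep]

namespace SD
variable (h : SD s B Q Z A)
include h

theorem n0 : (s : ℂ) ≠ 0 := by have := h.hs; exact_mod_cast (by positivity : s ≠ 0)
theorem p1 : 0 < 2 * s ^ 2 - 1 := by have := h.hs; nlinarith
theorem p2 : 0 < 2 * s ^ 2 + 2 * s + 1 := by have := h.hs; nlinarith
theorem p3 : 0 < 2 * s ^ 2 - 2 * s + 1 := by have := h.hs; nlinarith
theorem n1 : 2 * (s : ℂ) ^ 2 - 1 ≠ 0 := by exact_mod_cast h.p1.ne'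
theorem n2 : 2 * (s : ℂ) ^ 2 + 2 * s + 1 ≠ 0 := by exact_mod_cast h.p2.ne'
theorem n3 : 2 * (s : ℂ) ^ 2 - 2 * s + 1 ≠ 0 := by exact_mod_cast h.p3.ne'
theorem kZ : (Nat.card Z : ℂ) = 2 * s ^ 2 := by exact_mod_cast h.cZ
theorem kQ : (Nat.card Q : ℂ) = 4 * s ^ 4 := by exact_mod_cast h.cQ
theorem kB : (Nat.card B : ℂ) = 4 * s ^ 4 * (2 * s ^ 2 - 1) := by exact_mod_cast h.cB
theorem kG : (Nat.card G : ℂ) =
    4 * s ^ 4 * (2 * s ^ 2 - 1) * ((2 * s ^ 2 + 2 * s + 1) * (2 * s ^ 2 - 2 * s + 1)) := by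
  exact_mod_cast h.cG
theorem kA (i : Fin 3) : (Nat.card (A i) : ℂ) = nn s i := by exact_mod_cast h.cA i

theorem nn_ne (i : Fin 3) : (nn s i : ℂ) ≠ 0 := h.kA i ▸ card_ne _
theorem GA (i : Fin 3) : (4 * s ^ 4 * (2 * s ^ 2 - 1) * ((2 * s ^ 2 + 2 * s + 1) *
    (2 * s ^ 2 - 2 * s + 1)) : ℂ) / nn s i = gg s i := by
  rw [div_eq_iff (h.nn_ne i)]
  fin_cases i <;> simp [nn, gg] <;> ring
theorem nB : (4 * s ^ 4 * (2 * s ^ 2 - 1) : ℂ) ≠ 0 := h.kB ▸ card_ne _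

theorem tri_on : tri Q Z a b c ∈ cfOn B Q :=
  ⟨Submodule.add_mem _ (Submodule.add_mem _ (Submodule.smul_mem _ _ (one_cf h.QB h.nQ))
    (Submodule.smul_mem _ _ (one_cf (h.ZQ.trans h.QB) h.nZ)))
    (Submodule.smul_mem _ _ (one_cf bot_le Subgroup.le_normalizer_of_normal)), tri_supp h.ZQ⟩

theorem J_one : Ind ⊤ B (tri Q Z a b c) 1 = ((4 * s ^ 4 + 1) * a : ℝ) := by
  rw [Ind_one le_top, tri_one, relIndex_cast le_top, Subgroup.card_top, h.kB, h.kG]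
  push_cast
  rw [inv_mul_cancel_left₀ h.nB]
  ring
theorem J_at (hx : x ∈ Q) (h1 : x ≠ 1) : Ind ⊤ B (tri Q Z a b c) x = tri Q Z a b c x :=
  h.ti.Ind_id_one (cfOn_mono (by simp) h.tri_on) ⟨hx, h1⟩ h1
theorem J_a (hx : x ∈ A i) (h1 : x ≠ 1) : Ind ⊤ B (tri Q Z a b c) x = 0 :=
  Ind_zero_cop (tri_supp h.ZQ) hx h1 (h.copQ i).symm

theorem dot_J (hf : f ∈ cf (⊤ : Subgroup G)) (h1 : f 1 = u) (h2 : ∀ x ∈ Z, x ≠ 1 → f x = v)
    (h3 : ∀ x ∈ Q, x ∉ Z → f x = w) : dot ⊤ (Ind ⊤ B (tri Q Z a b c)) f =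
      (a * u + (2 * s ^ 2 - 1) * (b * v) + (4 * s ^ 4 - 2 * s ^ 2) * (c * w)) /
        (4 * s ^ 4 * (2 * s ^ 2 - 1)) := by
  have e := sum_fs_diff (A := (Z : Set G)) (B := (Q : Set G)) h.ZQ fun _ => (1 : ℂ)
  rw [sum_sub_const, sum_sub_const, sum_fs_const, h.kZ, h.kQ] at e
  rw [dot_Ind_left le_top _ hf, dot_supp (A := Q) h.QB (tri_supp h.ZQ),
    sum_fs_diff (A := (Z : Set G)) (B := (Q : Set G)) h.ZQ,
    sum_sharp, sum_fs_congr (g := fun _ => (b * v : ℂ)) fun x hx => by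
      rw [tri_z h.ZQ hx.1 hx.2, h2 x hx.1 hx.2, Complex.conj_ofReal],
    sum_fs_congr (A := (Q : Set G) \ Z) (g := fun _ => (c * w : ℂ)) fun x hx => by
      rw [tri_q hx.1 hx.2, h3 x hx.1 hx.2, Complex.conj_ofReal], sum_fs_const, sum_fs_const,
    ncard_sharp, tri_one, h1, Complex.conj_ofReal, h.kB, h.kZ, div_eq_inv_mul]
  congr 1
  linear_combination (-c * w : ℂ) * e

theorem Ph_vc (i : Fin 3) : Ph s B Q Z i ∈ vchar (⊤ : Subgroup G) := by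
  refine Ind_mem_vchar le_top ?_
  convert Submodule.add_mem _ h.rho (intCast_smul_mem h.eta (de i)) using 1
  simp only [tri]
  push_cast
  module

theorem FF_vc (hψ : ψ ∈ vchar 𝒩(A i)) : FF s B Q Z A i ψ ∈ vchar (⊤ : Subgroup G) :=
  intCast_smul_mem (Submodule.sub_mem _ (Ind_mem_vchar le_top hψ) (h.Ph_vc i)) _

theorem FF_one (h1 : ψ 1 = ee i) : FF s B Q Z A i ψ 1 = dd s i := by
  simp only [FF, Ph, Pi.smul_apply, Pi.sub_apply, smul_eq_mul]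
  rw [(h.tor i).Ind_at_one h1, h.J_one, h.kG, h.kA]
  rw [h.GA]
  fin_cases i <;> simp [ep, de, gg, dd] <;> ring
theorem FF_z (hψ : ψ ∈ supp (A i : Set G)) (hx : x ∈ Z) (h1 : x ≠ 1) :
    FF s B Q Z A i ψ x = bb s i := by
  simp only [FF, Ph, Pi.smul_apply, Pi.sub_apply, smul_eq_mul]
  rw [Ind_zero_cop hψ (h.ZQ hx) h1 (h.copQ i), h.J_at (h.ZQ hx) h1, tri_z h.ZQ hx h1]
  fin_cases i <;> simp [ep, de, bb] <;> ring
theorem FF_q (hψ : ψ ∈ supp (A i : Set G)) (hx : x ∈ Q) (h1 : x ∉ Z) :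
    FF s B Q Z A i ψ x = st i := by
  have h2 : x ≠ 1 := fun e => h1 (e ▸ Z.one_mem)
  simp only [FF, Ph, Pi.smul_apply, Pi.sub_apply, smul_eq_mul]
  rw [Ind_zero_cop hψ hx h2 (h.copQ i), h.J_at hx h2, tri_q hx h1]
  fin_cases i <;> simp [ep, st]
theorem FF_a (hψ : ψ ∈ cfOn 𝒩(A i) (A i)) (hx : x ∈ A i) (h1 : x ≠ 1) :
    FF s B Q Z A i ψ x = st i * ψ x := by
  simp only [FF, Ph, Pi.smul_apply, Pi.sub_apply, smul_eq_mul]
  rw [(h.tor i).Ind_at hψ hx h1, h.J_a hx h1]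
  fin_cases i <;> simp [ep, st]
theorem FF_a' (hψ : ψ ∈ supp (A i : Set G)) (hx : x ∈ A j) (h1 : x ≠ 1) (hij : i ≠ j) :
    FF s B Q Z A i ψ x = 0 := by
  simp only [FF, Ph, Pi.smul_apply, Pi.sub_apply, smul_eq_mul]
  rw [Ind_zero_cop hψ hx h1 (h.cop i j hij), h.J_a hx h1]
  simp

theorem dd_pos (i : Fin 3) : 0 < dd s i := by
  have := h.p1; have := h.p2; have := h.p3
  fin_cases i <;> simp only [dd] <;> simp <;> positivity

theorem FF_irr (hψ : ψ ∈ TS (A i)) : FF s B Q Z A i ψ ∈ Irr (⊤ : Subgroup G) := by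
  refine (h.tor i).fam_irr hψ (h.Ph_vc i) (fun a => h.J_a) (ep_sq i) h.J_one (h.dd_pos i).le ?_ ?_
  · have := h.FF_one ((h.tor i).one_eq hψ)
    simp only [FF, Ph, Pi.smul_apply, Pi.sub_apply, smul_eq_mul] at this
    rwa [(h.tor i).Ind_at_one ((h.tor i).one_eq hψ), h.J_one] at this
  · rw [Ph, h.dot_J (Ind_mem_cf le_top _) h.J_one
      (fun x hx h1 => (h.J_at (h.ZQ hx) h1).trans (tri_z h.ZQ hx h1))
      (fun x hx h1 => (h.J_at hx fun e => h1 (e ▸ Z.one_mem)).trans (tri_q hx h1)), h.kG, h.kA, h.GA, div_eq_div_iff h.nB (h.nn_ne i)]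
    fin_cases i <;> simp [de, nn, ee, gg] <;> ring

theorem e_on (i : Fin 3) : (ee i : ℂ) • one (A i) ∈ cfOn 𝒩(A i) (A i) :=
  Submodule.smul_mem _ _ ⟨one_cf Subgroup.le_normalizer le_rfl, fun _ => one_of_not_mem⟩

theorem cv_FF (i : Fin 3) : Cv Q Z A (FF s B Q Z A i ((ee i : ℂ) • one (A i))) (dd s i) (bb s i)
    (st i) (fun j => if i = j then st i * ee i else 0) where
  vc := h.FF_vc (by
    rw [← (h.tor i).idx, ← Ind_one_normal Subgroup.le_normalizer le_rfl]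
    exact Ind_mem_vchar Subgroup.le_normalizer (one_mem_vchar _))
  one := h.FF_one (by simp)
  z := fun _ => h.FF_z (h.e_on i).2
  q := fun _ => h.FF_q (h.e_on i).2
  a := fun j x hx h1 => by
    split_ifs with e
    · subst e; rw [h.FF_a (h.e_on i) hx h1]; simp [one_of_mem hx]
    · exact h.FF_a' (h.e_on i).2 hx h1 e

omit h in
theorem cv_one : Cv Q Z A (one (⊤ : Subgroup G)) 1 1 1 fun _ => 1 :=
  ⟨one_mem_vchar _, by simp, by simp [one_of_mem], by simp [one_of_mem], by simp [one_of_mem]⟩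

omit h in
theorem _root_.H18.SzT.Cv.sub {g : G → ℂ} {u' v' w' u'' v'' w'' : ℝ} {t' t'' : Fin 3 → ℝ}
    (h1 : Cv Q Z A f u v w t) (h2 : Cv Q Z A g u' v' w' t') (e1 : u'' = u - u') (e2 : v'' = v - v')
    (e3 : w'' = w - w') (e4 : ∀ i, t'' i = t i - t' i) : Cv Q Z A (f - g) u'' v'' w'' t'' :=
  ⟨Submodule.sub_mem _ h1.vc h2.vc, by simp [h1.one, h2.one, e1],
    fun x a b => by simp [h1.z x a b, h2.z x a b, e2], fun x a b => by simp [h1.q x a b, h2.q x a b, e3],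
    fun i x a b => by simp [h1.a i x a b, h2.a i x a b, e4]⟩

theorem cv_St : Cv Q Z A (St s B Q Z A) (4 * s ^ 4) 0 0 st :=
  (h.cv_FF 0).sub cv_one (by simp [dd]) (by simp [bb]) (by simp [st]) fun i => by
    fin_cases i <;> simp [st, ee]; norm_num

theorem cv_Al : Cv Q Z A (Al s B Q Z A) (2 * (s * (2 * s ^ 2 - 1))) (-2 * s) 0 al :=
  (h.cv_St.sub cv_one rfl rfl rfl fun _ => rfl).sub (h.cv_FF 1) (by simp [dd]; ring)
    (by simp [bb]; ring) (by simp [st]) fun i => by fin_cases i <;> simp [st, ee, al] <;> norm_num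

theorem dot_FF0 (hf : Cv Q Z A f u v w t) :
    dot ⊤ (FF s B Q Z A 0 ((ee 0 : ℂ) • one (A 0))) f = (u + (2 * s ^ 2 - 2) * t 0) / (2 * s ^ 2 - 1) -
      ((4 * s ^ 4 - 1) * u - (2 * s ^ 2 - 1) * v - (4 * s ^ 4 - 2 * s ^ 2) * w) /
        (4 * s ^ 4 * (2 * s ^ 2 - 1)) := by
  rw [FF, dot_smul_left, dot_sub_left, (h.tor 0).dot_Ind_const (vchar_cf hf.vc) hf.one (hf.a 0), Ph,
    h.dot_J (vchar_cf hf.vc) hf.one hf.z hf.q, h.kA]
  simp [ep, de, nn]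
  ring

theorem St_irr : St s B Q Z A ∈ Irr (⊤ : Subgroup G) := by
  refine vchar_mem_Irr h.cv_St.vc ?_ (by rw [h.cv_St.one, Complex.ofReal_re]; positivity)
  nth_rewrite 1 [St]
  rw [dot_sub_left, vchar_dot_comm (one_mem_vchar _) h.cv_St.vc, h.dot_FF0 h.cv_St, St, dot_sub_left,
    h.dot_FF0 cv_one, dot_irr_self (one_mem_Irr _)]
  have := h.n0
  have h1 := h.n1
  simp only [st, Matrix.cons_val_zero]
  push_cast
  obtain ⟨P, hP⟩ : ∃ P : ℂ, P = 2 * s ^ 2 - 1 := ⟨_, rfl⟩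
  rw [← hP] at h1 ⊢
  field_simp
  subst hP
  ring

theorem card_TS (i : Fin 3) : ((TS (A i)).card : ℂ) = tt s i := by
  have := (h.tor i).card_TS
  rw [h.kA] at this
  fin_cases i <;> simp [ee, nn, tt] at this ⊢
  exacts [by linear_combination this / 2, by linear_combination this / 4,
    by linear_combination this / 4]

theorem cases {P : G → Prop} (hP : ∀ t g, P (t * g * t⁻¹) → P g) (h1 : P 1)
    (h2 : ∀ x ∈ Z, x ≠ 1 → P x) (h3 : ∀ x ∈ Q, x ∉ Z → P x) (h4 : ∀ i, ∀ x ∈ A i, x ≠ 1 → P x)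
    (g : G) : P g := by
  obtain ⟨t, ht⟩ := h.cover g
  refine hP t g ?_
  by_cases e : t * g * t⁻¹ = 1
  · rwa [e]
  rcases ht with ht | ⟨i, ht⟩
  · by_cases e' : t * g * t⁻¹ ∈ Z
    exacts [h2 _ e' e, h3 _ ht e']
  · exact h4 i _ ht e

theorem sum_FF_a (hx : x ∈ A j) (h1 : x ≠ 1) (i : Fin 3) :
    ∑ ψ ∈ TS (A i), FF s B Q Z A i ψ x = if i = j then -(st i : ℂ) else 0 := by
  split_ifs with e
  · subst e
    rw [sum_congr rfl fun ψ hψ => h.FF_a ((h.tor i).on hψ) hx h1, ← mul_sum, (h.tor i).sum_TS hx h1]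
    ring
  · exact sum_eq_zero fun ψ hψ => h.FF_a' ((h.tor i).on hψ).2 hx h1 e

theorem sum_const' {z : ℂ} (hf : ∀ ψ ∈ TS (A i), FF s B Q Z A i ψ x = z) :
    ∑ ψ ∈ TS (A i), FF s B Q Z A i ψ x = tt s i * z := by
  rw [sum_congr rfl hf, sum_const, nsmul_eq_mul, h.card_TS]

theorem reg_eq (g : G) : reg (⊤ : Subgroup G) g = 1 + 4 * s ^ 4 * St s B Q Z A g +
    ∑ i, dd s i * ∑ ψ ∈ TS (A i), FF s B Q Z A i ψ g + s * (2 * s ^ 2 - 1) * Al s B Q Z A g := by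
  refine h.cases (P := fun g => reg (⊤ : Subgroup G) g = 1 + 4 * s ^ 4 * St s B Q Z A g +
    ∑ i, dd s i * ∑ ψ ∈ TS (A i), FF s B Q Z A i ψ g + s * (2 * s ^ 2 - 1) * Al s B Q Z A g)
    (fun t g e => ?_) ?_ (fun x hx h1 => ?_) (fun x hx h1 => ?_) (fun j x hx h1 => ?_) g
  · rwa [cf_conj (isChar_reg _).cf g (Subgroup.mem_top t), cf_conj (vchar_cf h.cv_St.vc) g
      (Subgroup.mem_top t), cf_conj (vchar_cf h.cv_Al.vc) g (Subgroup.mem_top t),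
      sum_congr rfl fun i _ => congrArg _ (sum_congr rfl fun ψ hψ =>
        cf_conj (irr_cf (h.FF_irr hψ)) g (Subgroup.mem_top t))] at e
  · simp only [h.sum_const' fun ψ hψ => h.FF_one ((h.tor _).one_eq hψ), h.cv_St.one, h.cv_Al.one,
      reg_one, Subgroup.card_top, h.kG, Fin.sum_univ_three]
    simp [dd, tt]; ring
  · simp only [h.sum_const' fun ψ hψ => h.FF_z ((h.tor _).on hψ).2 hx h1, h.cv_St.z x hx h1,
      h.cv_Al.z x hx h1, reg_of_ne _ h1, Fin.sum_univ_three]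
    simp [dd, tt, bb]; ring
  · simp only [h.sum_const' fun ψ hψ => h.FF_q ((h.tor _).on hψ).2 hx h1, h.cv_St.q x hx h1,
      h.cv_Al.q x hx h1, reg_of_ne _ fun e : x = 1 => h1 (e ▸ Z.one_mem), Fin.sum_univ_three]
    simp [dd, tt, st]; ring
  · simp only [h.sum_FF_a hx h1, h.cv_St.a j x hx h1, h.cv_Al.a j x hx h1, reg_of_ne _ h1,
      Fin.sum_univ_three]
    fin_cases j <;> simp [dd, st, al] <;> ring

end SD
end H18.SzT
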