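import Cfsg.Agent.H18.SzC2

/-! The list of the irreducible characters of a group with the local structure of `Sz(q)`. -/

set_option autoImplicit false
set_option linter.unusedSectionVars false
open H17 Cfsg H15 CF H21 Finset
open scoped ComplexConjugate Classical

namespace H18.SzT

variable {G : Type*} [Group G] [Finite G]

theorem dot_msum {ξ : G → ℂ} (hξ : ξ ∈ Irr (⊤ : Subgroup G)) (K : Multiset (G → ℂ))
    (hK : ∀ χ ∈ K, χ ∈ Irr (⊤ : Subgroup G)) :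
    dot ⊤ (K.map fun χ => χ 1 • χ).sum ξ = K.count ξ * ξ 1 := by
  induction K using Multiset.induction with
  | empty => simp [dot_def]
  | cons a K ih =>
    rw [Multiset.map_cons, Multiset.sum_cons, dot_add_left, ih fun χ h => hK χ (by simp [h]),
      dot_smul_left, dot_irr (hK a (by simp)) hξ, Multiset.count_cons]
    by_cases e : a = ξ
    · subst e; simp; ring
    · simp [e, Ne.symm e]

theorem two_more {K : Multiset (G → ℂ)} (hK : ∀ χ ∈ K, χ ∈ Irr (⊤ : Subgroup G)) {φ : G → ℂ}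
    (hφ : φ ∈ vchar (⊤ : Subgroup G)) {w : ℝ} (hw : 0 < w) (h1 : φ 1 = (2 * w : ℝ))
    (h2 : dot ⊤ φ φ = 2) (hr : reg ⊤ = (K.map fun χ => χ 1 • χ).sum + (w : ℂ) • φ) :
    ∃ α ∈ Irr (⊤ : Subgroup G), ∃ β ∈ Irr (⊤ : Subgroup G), α 1 = w ∧ β 1 = w ∧ α + β = φ ∧
      (Irr (⊤ : Subgroup G)).val = K + {α, β} := by
  have e : ∀ ξ ∈ Irr (⊤ : Subgroup G), ξ 1 = K.count ξ * ξ 1 + w * dot ⊤ φ ξ := fun ξ hξ => by
    rw [← dot_msum hξ K hK, ← dot_smul_left, ← dot_add_left, ← hr, dot_reg_left,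
      (irr_char hξ).conj_one]
  have key : ∀ ξ ∈ Irr (⊤ : Subgroup G), dot ⊤ φ ξ = 1 → K.count ξ = 0 ∧ ξ 1 = w := fun ξ hξ h => by
    have := e ξ hξ
    obtain ⟨n, hn, h3⟩ := irr_pos_one hξ
    rw [h, h3, mul_one] at this
    have h4 : (n : ℝ) = K.count ξ * n + w := by exact_mod_cast this
    have h5 : K.count ξ = 0 := by
      by_contra h0
      have : (1 : ℝ) ≤ K.count ξ := by exact_mod_cast Nat.pos_of_ne_zero h0
      have : (0 : ℝ) < n := by exact_mod_cast hn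
      nlinarith
    exact ⟨h5, by rw [h3, this, h5]; simp⟩
  obtain ⟨α, ha, β, hb, ho, rfl⟩ := norm_two hφ h2
  have da : dot ⊤ (α + β) α = 1 := by rw [dot_add_left, dot_dirr_self ha, dot_symm_zero ho, add_zero]
  have db : dot ⊤ (α + β) β = 1 := by rw [dot_add_left, dot_dirr_self hb, ho, zero_add]
  have le : ∀ ξ ∈ dirr (⊤ : Subgroup G), dot ⊤ (α + β) ξ = 1 → (ξ 1).re ≤ w := fun ξ hξ h => by
    rcases mem_dirr.1 hξ with h' | h'
    · rw [(key ξ h' h).2, Complex.ofReal_re]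
    · have := irr_one_re_pos h'
      simp only [Pi.neg_apply, Complex.neg_re] at this
      linarith
  have h3 : (α 1).re + (β 1).re = 2 * w := by simpa using congrArg Complex.re h1
  have la := le α ha da
  have lb := le β hb db
  have ia := dirr_mem_Irr ha (by linarith)
  have ib := dirr_mem_Irr hb (by linarith)
  have hne : α ≠ β := fun h => by rw [h, dot_irr_self ib] at ho; exact one_ne_zero ho
  refine ⟨α, ia, β, ib, (key α ia da).2, (key β ib db).2, rfl, Multiset.ext' fun ξ => ?_⟩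
  rw [Multiset.count_add, Multiset.count_eq_of_nodup (Irr _).nodup]
  by_cases hξ : ξ ∈ Irr (⊤ : Subgroup G)
  · by_cases e1 : ξ = α
    · subst e1; simp [hξ, (key ξ ia da).1, hne]
    by_cases e2 : ξ = β
    · subst e2; simp [hξ, (key ξ ib db).1, hne.symm]
    have := e ξ hξ
    rw [dot_add_left, dot_irr_ne ia hξ (Ne.symm e1), dot_irr_ne ib hξ (Ne.symm e2)] at this
    have h4 : (K.count ξ : ℂ) = 1 := mul_right_cancel₀ (irr_one_ne hξ) (by linear_combination -this)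
    have h5 : K.count ξ = 1 := by exact_mod_cast h4
    simp [hξ, h5, e1, e2]
  · have : ξ ∉ K := fun h => hξ (hK ξ h)
    have e1 : ξ ≠ α := fun h => hξ (h ▸ ia)
    have e2 : ξ ≠ β := fun h => hξ (h ▸ ib)
    simp [hξ, this, e1, e2]

variable {s : ℝ} {B Q Z : Subgroup G} {A : Fin 3 → Subgroup G} {u v w : ℝ} {x : G}
  {f ψ : G → ℂ} {i j : Fin 3} {t : Fin 3 → ℝ}

/-- the list of the irreducible characters -/
structure Tab (s : ℝ) (B Q Z : Subgroup G) (A : Fin 3 → Subgroup G) (α β : G → ℂ) : Prop where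
  ia : α ∈ Irr (⊤ : Subgroup G)
  ib : β ∈ Irr (⊤ : Subgroup G)
  da : α 1 = (s * (2 * s ^ 2 - 1) : ℝ)
  db : β 1 = (s * (2 * s ^ 2 - 1) : ℝ)
  add : α + β = Al s B Q Z A
  val : (Irr (⊤ : Subgroup G)).val = (one ⊤ ::ₘ St s B Q Z A ::ₘ
    ∑ i, (TS (A i)).val.map (FF s B Q Z A i)) + {α, β}

theorem msum_K {M : Type*} [AddCommMonoid M] (F : (G → ℂ) → M) :
    ((one ⊤ ::ₘ St s B Q Z A ::ₘ ∑ i, (TS (A i)).val.map (FF s B Q Z A i)).map F).sum =
      F (one ⊤) + F (St s B Q Z A) + ∑ i, ∑ ψ ∈ TS (A i), F (FF s B Q Z A i ψ) := by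
  simp only [Multiset.map_cons, Multiset.sum_cons, Fin.sum_univ_three, Multiset.map_add,
    Multiset.sum_add, Multiset.map_map, add_assoc]
  rfl

theorem Tab.sum {α β : G → ℂ} (T : Tab s B Q Z A α β) {M : Type*} [AddCommMonoid M]
    (F : (G → ℂ) → M) : ∑ χ ∈ Irr (⊤ : Subgroup G), F χ = F (one ⊤) + F (St s B Q Z A) +
      ∑ i, ∑ ψ ∈ TS (A i), F (FF s B Q Z A i ψ) + (F α + F β) := by
  rw [← msum_K, Finset.sum_eq_multiset_sum, T.val]
  simp only [Multiset.map_add, Multiset.sum_add]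
  simp

theorem Tab.cases {α β χ : G → ℂ} (T : Tab s B Q Z A α β) (hχ : χ ∈ Irr (⊤ : Subgroup G)) :
    χ = one ⊤ ∨ χ = St s B Q Z A ∨ (∃ i, ∃ ψ ∈ TS (A i), FF s B Q Z A i ψ = χ) ∨ χ = α ∨ χ = β := by
  have : χ ∈ (Irr (⊤ : Subgroup G)).val := hχ
  rw [T.val] at this
  simp only [Multiset.mem_add, Multiset.mem_cons, Multiset.mem_sum, Multiset.mem_map,
    Finset.mem_val, mem_univ, true_and, Multiset.insert_eq_cons, Multiset.mem_singleton, or_assoc] at this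
  exact this

namespace SD
variable (h : SD s B Q Z A)
include h

theorem dot_FF1 (hf : Cv Q Z A f u v w t) :
    dot ⊤ (FF s B Q Z A 1 ((ee 1 : ℂ) • one (A 1))) f =
      ((4 * s ^ 4 - 1 - 2 * s * (2 * s ^ 2 - 1)) * u + (2 * s ^ 2 - 1) * ((2 * s - 1) * v) -
        (4 * s ^ 4 - 2 * s ^ 2) * w) / (4 * s ^ 4 * (2 * s ^ 2 - 1)) -
      (u + (2 * s ^ 2 + 2 * s) * t 1) / (2 * s ^ 2 + 2 * s + 1) := by
  rw [FF, dot_smul_left, dot_sub_left, (h.tor 1).dot_Ind_const (vchar_cf hf.vc) hf.one (hf.a 1), Ph,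
    h.dot_J (vchar_cf hf.vc) hf.one hf.z hf.q, h.kA]
  simp [ep, de, nn]
  ring

theorem Al_norm : dot ⊤ (Al s B Q Z A) (Al s B Q Z A) = 2 := by
  nth_rewrite 1 [Al, St]
  rw [dot_sub_left, dot_sub_left, dot_sub_left, vchar_dot_comm (one_mem_vchar _) h.cv_Al.vc,
    h.dot_FF0 h.cv_Al, h.dot_FF1 h.cv_Al, Al, St, dot_sub_left, dot_sub_left, dot_sub_left,
    h.dot_FF0 cv_one, h.dot_FF1 cv_one, dot_irr_self (one_mem_Irr _)]
  have := h.n0
  have h1 := h.n1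
  have h2 := h.n2
  simp only [al, Matrix.cons_val_zero, Matrix.cons_val_one]
  push_cast
  obtain ⟨P, hP⟩ : ∃ P : ℂ, P = 2 * s ^ 2 - 1 := ⟨_, rfl⟩
  obtain ⟨R, hR⟩ : ∃ P : ℂ, P = 2 * s ^ 2 + 2 * s + 1 := ⟨_, rfl⟩
  rw [← hP] at h1 ⊢
  rw [← hR] at h2 ⊢
  field_simp
  subst hP hR
  ring

theorem table : ∃ α β, Tab s B Q Z A α β := by
  obtain ⟨α, h1, β, h2, h3, h4, h5, h6⟩ := two_more (K := one ⊤ ::ₘ St s B Q Z A ::ₘ
    ∑ i, (TS (A i)).val.map (FF s B Q Z A i)) (w := s * (2 * s ^ 2 - 1)) (fun χ hχ => by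
      simp only [Multiset.mem_cons, Multiset.mem_sum, Multiset.mem_map, Finset.mem_val] at hχ
      rcases hχ with rfl | rfl | ⟨i, -, ψ, hψ, rfl⟩
      exacts [one_mem_Irr _, h.St_irr, h.FF_irr hψ]) h.cv_Al.vc
    (mul_pos (by linarith [h.hs]) h.p1) h.cv_Al.one h.Al_norm (by
      ext g
      rw [msum_K, h.reg_eq]
      simp only [Pi.add_apply, Finset.sum_apply, Pi.smul_apply, smul_eq_mul, h.cv_St.one, one_top,
        Pi.one_apply, mul_sum]
      rw [sum_congr rfl fun i _ => sum_congr rfl fun ψ hψ => by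
        rw [← h.FF_one ((h.tor i).one_eq hψ)]]
      push_cast
      ring)
  exact ⟨α, β, h1, h2, h3, h4, h5, h6⟩

end SD
end H18.SzT
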