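import Cfsg.Agent.H18.SzC3
import Cfsg.Agent.H26.SzRep

/-! The Suzuki groups have the local structure `SD`. -/

set_option autoImplicit false
set_option linter.unusedSectionVars false
open H17 Cfsg H15 CF H21 Finset H26
open scoped ComplexConjugate Classical

namespace H18.SzT

variable {G : Type*} [Group G] [Finite G]

theorem irr_central_mul {H : Subgroup G} {θ : G → ℂ} (hθ : θ ∈ Irr H) {z x : G} (hz : z ∈ H)
    (hc : ∀ y ∈ H, z * y = y * z) (hx : x ∈ H) : θ 1 * θ (z * x) = θ z * θ x := by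
  obtain ⟨l, hl⟩ := (irr_res hθ).exists_linear_center
  have hz' : (⟨z, hz⟩ : H) ∈ Subgroup.center H :=
    Subgroup.mem_center_iff.2 fun y => Subtype.ext (hc y y.2).symm
  have e1 : θ (z * x) = l ⟨_, hz'⟩ * θ x := hl ⟨_, hz'⟩ ⟨x, hx⟩
  have e2 : θ (z * 1) = l ⟨_, hz'⟩ * θ 1 := hl ⟨_, hz'⟩ 1
  rw [mul_one] at e2
  rw [e1, e2]; ring

variable {F : Type*} [Field F] [Fintype F] {m : ℕ} (M : SzModel G F m)

/-- two cosets of the centre of `Q` -/
noncomputable def two (a : F) : Finset G := (({0, a} : Finset F) ×ˢ univ).image fun p => M.u p.1 p.2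

theorem card_two (a : F) : (two M a).card ≤ 2 * Fintype.card F :=
  card_image_le.trans (by rw [card_product, card_univ]; exact Nat.mul_le_mul_right _ card_le_two)

theorem mem_two {a c : F} (d : F) (h : c = 0 ∨ c = a) : M.u c d ∈ two M a :=
  mem_image.2 ⟨(c, d), by simpa using h, rfl⟩

theorem Z_cent {z : G} (hz : z ∈ M.Z) : ∀ y ∈ M.Q, z * y = y * z :=
  (M.mem_Z_iff_central (M.Z_le_Q hz)).1 hz

theorem pow_dvd_deg {θ : G → ℂ} (hθ : θ ∈ Irr M.Q) (hk : ¬ M.Z ≤ cfker θ) :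
    ∃ n : ℕ, θ 1 = 2 ^ m * n := by
  have := M.charP
  have h1 := irr_one_ne hθ
  obtain ⟨z, hz, h2⟩ := SetLike.not_le_iff_exists.1 hk
  obtain ⟨b₀, rfl⟩ := M.mem_Z.1 hz
  obtain ⟨a₀, -, h3⟩ := M.exists_rad (χ := fun b => θ (M.u 0 b) / θ 1) (b₀ := b₀) (fun b c => by
      have := irr_central_mul hθ (M.u_mem_Q 0 b) (Z_cent M (M.u_mem_Z b)) (M.u_mem_Q 0 c)
      rw [M.u_zero_mul] at this
      field_simp
      linear_combination this) (by simp only [M.u_zero]; exact div_self h1)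
    fun e => h2 ((irr_mem_cfker hθ).2 (eq_of_div_eq_one e))
  have h4 : ∀ x ∈ fs (M.Q : Set G), x ∉ two M a₀ → ‖θ x‖ ^ 2 = 0 := fun x hx h => by
    obtain ⟨a, b, rfl⟩ := M.mem_Q.1 (by simpa using hx)
    obtain ⟨c, hc⟩ := h3 a (fun e => h (mem_two M b (Or.inl e))) fun e => h (mem_two M b (Or.inr e))
    have e1 := irr_central_mul hθ (M.u_mem_Q 0 _) (Z_cent M (M.u_mem_Z (M.σ c * a + M.σ a * c)))
      (M.u_mem_Q a b)
    rw [div_eq_iff h1, add_comm] at hc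
    rw [hc, ← M.commutator_u c 0 a b, inv_mul_cancel_right,
      cf_conj (irr_cf hθ) _ (M.u_mem_Q c 0)] at e1
    have : θ (M.u a b) = 0 := mul_left_cancel₀ h1 (by linear_combination e1 / 2)
    simp [this]
  obtain ⟨n, hn, h5⟩ := irr_pos_one hθ
  have h6 := nrm_irr hθ
  rw [nrm_eq, inv_mul_eq_one₀ (card_pos' _).ne', ← sum_subset (s₁ := two M a₀) (fun x hx => by
    obtain ⟨p, -, rfl⟩ := mem_image.1 hx
    simpa using M.u_mem_Q _ _) h4] at h6
  have h7 := sum_le_card_nsmul (two M a₀) (fun x => ‖θ x‖ ^ 2) ((n : ℝ) ^ 2) fun x _ => by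
    have := (irr_char hθ).norm_le x
    rw [h5, Complex.natCast_re] at this
    gcongr
  rw [← h6, nsmul_eq_mul, M.card_Q] at h7
  have h8 : Fintype.card F ^ 2 ≤ 2 * Fintype.card F * n ^ 2 :=
    le_trans (by exact_mod_cast h7) (Nat.mul_le_mul_right _ (card_two M a₀))
  have h9 := (irr_res hθ).degree_dvd_card (n := n) h5
  rw [M.card_Q, M.hF, ← pow_mul] at h9
  obtain ⟨k, -, rfl⟩ := (Nat.dvd_prime_pow Nat.prime_two).1 h9
  rw [M.hF, ← pow_mul, ← pow_mul, ← pow_succ', ← pow_add,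
    Nat.pow_le_pow_iff_right one_lt_two] at h8
  obtain ⟨j, rfl⟩ := Nat.exists_eq_add_of_le (show m ≤ k by omega)
  exact ⟨2 ^ j, by rw [h5]; push_cast; ring⟩

theorem frobB : ∀ g ∈ M.B, g ∉ M.Q → ∀ x ∈ M.Q, x * g = g * x → x = 1 := fun _ _ hg _ hx e =>
  by_contra fun h => hg (M.mem_Q_of_comm hx h e.symm)

theorem nZ : M.B ≤ 𝒩(M.Z) := fun g hg => Subgroup.mem_normalizer_fintype fun _ => M.conj_mem_Z hg

include M in
theorem qR : (Fintype.card F : ℝ) = 2 * (2 ^ m) ^ 2 := by rw [M.hF]; push_cast; ring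
include M in
theorem qC : (Fintype.card F : ℂ) = 2 * (2 ^ m) ^ 2 := by rw [M.hF]; push_cast; ring

theorem idxQ : (M.Q.relIndex M.B : ℂ) = 2 * (2 ^ m) ^ 2 - 1 := by
  have := card_mul_relIndex M.Q_le_B
  rw [M.card_Q, M.card_B] at this
  rw [Nat.eq_of_mul_eq_mul_left (by have := M.eight_le_card; positivity) this,
    Nat.cast_pred Fintype.card_pos, qC M]

theorem idxZ : (M.Z.relIndex M.B : ℂ) = 2 * (2 ^ m) ^ 2 * (2 * (2 ^ m) ^ 2 - 1) := by
  have := card_mul_relIndex (M.Z_le_Q.trans M.Q_le_B)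
  rw [M.card_Z, M.card_B, sq, mul_assoc] at this
  rw [Nat.eq_of_mul_eq_mul_left Fintype.card_pos this, Nat.cast_mul,
    Nat.cast_pred Fintype.card_pos, qC M]

theorem cardB : (Nat.card M.B : ℝ) = 4 * (2 ^ m) ^ 4 * (2 * (2 ^ m) ^ 2 - 1) := by
  rw [M.card_B, Nat.cast_mul, Nat.cast_pred Fintype.card_pos, Nat.cast_pow, qR M]; ring

theorem rho_vc : tri M.Q M.Z (4 * (2 ^ m) ^ 4 - 1) (-1) (-1) ∈ vchar M.B := by
  have hB : (Nat.card M.B : ℂ) = 4 * (2 ^ m) ^ 4 * (2 * (2 ^ m) ^ 2 - 1) := by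
    exact_mod_cast cardB M
  refine div_sum_vchar (IrrD_subset _ M.Q ⊥) (relIndex_ne M.Q M.B) (fun χ hχ => ?_) fun g => ?_
  · obtain ⟨θ, h1, -, rfl⟩ := irr_eq_Ind_of_frob M.Q_le_B M.normalizer_Q.ge (frobB M) (IrrD_irr hχ)
      (mem_IrrD_bot.1 hχ).2
    obtain ⟨n, -, hn⟩ := irr_pos_one h1
    exact ⟨n, by rw [Ind_one M.Q_le_B, hn]⟩
  · rw [sum_IrrD_one_mul M.Q_le_B bot_le M.normalizer_Q.ge Subgroup.le_normalizer_of_normal,
      Subgroup.relIndex_bot_left, hB, idxQ]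
    simp only [tri, Pi.add_apply, Pi.smul_apply, smul_eq_mul]
    push_cast
    ring

theorem eta_vc : tri M.Q M.Z (2 * 2 ^ m * (2 * (2 ^ m) ^ 2 - 1)) (-2 * 2 ^ m) 0 ∈ vchar M.B := by
  have hB : (Nat.card M.B : ℂ) = 4 * (2 ^ m) ^ 4 * (2 * (2 ^ m) ^ 2 - 1) := by
    exact_mod_cast cardB M
  refine div_sum_vchar (IrrD_subset _ M.Z ⊥) (mul_ne_zero (relIndex_ne M.Q M.B)
    (pow_ne_zero m two_ne_zero)) (fun χ hχ => ?_) fun g => ?_
  · have h0 := (mem_IrrD_bot.1 hχ).2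
    obtain ⟨θ, h1, -, rfl⟩ := irr_eq_Ind_of_frob M.Q_le_B M.normalizer_Q.ge (frobB M) (IrrD_irr hχ)
      fun h => h0 (M.Z_le_Q.trans h)
    obtain ⟨n, hn⟩ := pow_dvd_deg M h1 fun h => h0 (le_cfker_Ind M.Z_le_Q (nZ M) h)
    exact ⟨n, by rw [Ind_one M.Q_le_B, hn, mul_assoc]⟩
  · rw [sum_IrrD_one_mul (M.Z_le_Q.trans M.Q_le_B) bot_le (nZ M) Subgroup.le_normalizer_of_normal,
      Subgroup.relIndex_bot_left, hB, idxQ, idxZ]
    simp only [tri, Pi.add_apply, Pi.smul_apply, smul_eq_mul]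
    push_cast
    ring

theorem tor_fpf {x : G} (hx : M.Fpf x) : Tor 𝒞₁(x) 4 where
  ne := fun h => hx.ne_one (Subgroup.mem_bot.1 (h ▸ Subgroup.mem_centralizer_singleton_iff.2 rfl))
  cent := fun _ => hx.centralizer_eq
  idx := by
    have := card_mul_relIndex (Subgroup.le_normalizer (H := 𝒞₁(x)))
    rw [hx.card_normalizer, mul_comm] at this
    exact Nat.eq_of_mul_eq_mul_right Nat.card_pos this

theorem tor_H : Tor M.H 2 where
  ne := fun h => let ⟨_, h1, h2⟩ := M.exists_mem_H_ne_one; h2 (Subgroup.mem_bot.1 (h ▸ h1))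
  cent := fun _ => M.centralizer_eq_H
  idx := by
    have := card_mul_relIndex (Subgroup.le_normalizer (H := M.H))
    rw [M.card_normalizer_H, ← M.card_H, mul_comm] at this
    exact Nat.eq_of_mul_eq_mul_right Nat.card_pos this

theorem exists_SD : ∃ A : Fin 3 → Subgroup G, SD (2 ^ m) M.B M.Q M.Z A := by
  obtain ⟨x₁, f1, c1, -⟩ := M.exists_torus (Or.inl rfl)
  obtain ⟨x₂, f2, c2, -⟩ := M.exists_torus (Or.inr rfl)
  have hm := M.hm
  have e := np_mul_nm m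
  have co := coprime_np_nm m
  have cb := M.coprime_card_B
  rw [← c1, ← c2] at e co
  rw [← M.hF] at e c1 c2
  rw [← e] at cb
  have k1 := (Nat.Coprime.coprime_mul_right cb)
  have k2 := (Nat.Coprime.coprime_mul_left cb)
  have o := M.odd_card_sq_add_one
  rw [← e, Nat.odd_mul] at o
  have cq : (Fintype.card F - 1).Coprime (Fintype.card F ^ 2) :=
    ((Nat.coprime_self_sub_left Fintype.card_pos).2 (Nat.coprime_one_left _)).pow_right 2
  refine ⟨![M.H, 𝒞₁(x₁), 𝒞₁(x₂)], ?_, M.Z_le_Q, M.Q_le_B, nZ M, M.normalizer_Q.ge,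
    ⟨⟨M.u 0 1, M.u_mem_Q _ _, by simp [M.u_eq_one_iff]⟩, le_top, fun a ha g _ => ⟨fun h =>
      M.mem_B_of_conj ha.1 ha.2 (M.Q_le_B h.1), fun h => ⟨M.conj_mem_Q h ha.1, by simpa using ha.2⟩⟩⟩,
    by rw [M.card_Z, qR M], by rw [M.card_Q, Nat.cast_pow, qR M]; ring, cardB M, ?_, fun i => ?_,
    fun i => ?_, fun i => ?_, fun i => ?_, fun i j h => ?_, fun g => ?_, rho_vc M, eta_vc M,
    fun x hx h => ?_, fun x => M.mul_self_eq_one_iff_mem_Z, fun x hx => ?_, fun x hx h y hy h' => ?_⟩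
  · calc (2 : ℝ) = 2 ^ 1 := by norm_num
      _ ≤ 2 ^ m := by gcongr; norm_num
  · rw [M.card_G, Nat.cast_mul, Nat.cast_pred Fintype.card_pos]
    push_cast
    rw [qR M]; ring
  · fin_cases i
    exacts [tor_H M, tor_fpf M f1, tor_fpf M f2]
  · fin_cases i
    · simp [nn, M.card_H, Nat.cast_pred Fintype.card_pos, qR M]
    · simp [nn, c1, qR M]; ring
    · have : 2 ^ (m + 1) ≤ Fintype.card F := by rw [M.hF]; gcongr <;> omega
      simp [nn, c2, qR M, this]; ring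
  · fin_cases i
    exacts [M.card_H ▸ M.odd_card_sub_one, o.1, o.2]
  · rw [M.card_Q]
    fin_cases i
    exacts [M.card_H ▸ cq, k1.coprime_mul_right_right, k2.coprime_mul_right_right]
  · have k3 := M.card_H ▸ k1.coprime_mul_left_right
    have k4 := M.card_H ▸ k2.coprime_mul_left_right
    fin_cases i <;> fin_cases j
    exacts [absurd rfl h, k3.symm, k4.symm, k3, absurd rfl h, co, k4, co.symm, absurd rfl h]
  · rcases M.elt_cases g with h | ⟨k, h⟩ | ⟨k, h⟩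
    · rcases h.card_eq.1 with h1 | h1
      · obtain ⟨t, ht⟩ := h.card_eq.2 x₁ f1 (by rw [h1, c1, M.hF])
        exact ⟨t, Or.inr ⟨1, ht⟩⟩
      · obtain ⟨t, ht⟩ := h.card_eq.2 x₂ f2 (by rw [h1, c2, M.hF])
        exact ⟨t, Or.inr ⟨2, ht⟩⟩
    · exact ⟨k⁻¹, Or.inl (by simpa using M.mem_conj_Q.1 h)⟩
    · exact ⟨k⁻¹, Or.inr ⟨0, by simpa using M.mem_conj_H.1 h⟩⟩
  · obtain ⟨a, b, rfl⟩ := M.mem_Q.1 hx
    have ha : a ≠ 0 := fun e => h (e ▸ M.u_mem_Z b)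
    have : Nat.card 𝒞₁(M.u a b) ≤ 2 * Fintype.card F := by
      rw [← card_fs_sub]
      refine (card_le_card fun y hy => ?_).trans (card_two M a)
      have hy' : y ∈ 𝒞₁(M.u a b) := by simpa using hy
      obtain ⟨c, d, rfl⟩ := M.mem_Q.1 (M.centralizer_le_Q hx (fun e => h (e ▸ M.Z.one_mem)) hy')
      have := M.σ_comm_iff.1 (M.u_comm_iff.1 (Subgroup.mem_centralizer_singleton_iff.1 hy'))
      exact mem_two M d (by tauto)
    have h2 : (Nat.card 𝒞₁(M.u a b) : ℝ) ≤ 2 * Fintype.card F := by exact_mod_cast this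
    rw [qR M] at h2
    linarith
  · obtain ⟨a, b, rfl⟩ := M.mem_Q.1 hx
    exact M.u_sq a b ▸ M.u_mem_Z _
  · obtain ⟨k, rfl⟩ := M.exists_conj_u_zero_one ((M.mul_self_eq_one_iff_mem_Z (M.Z_le_Q hx)).2 hx) h
    obtain ⟨l, rfl⟩ := M.exists_conj_u_zero_one ((M.mul_self_eq_one_iff_mem_Z (M.Z_le_Q hy)).2 hy) h'
    exact ⟨l * k⁻¹, by group⟩

end H18.SzT
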