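import Cfsg.Agent.H20.K9d
import Cfsg.Agent.S3331

/-! Two-local subgroups containing a self-centralizing element of order three. -/

set_option autoImplicit false
set_option linter.unusedSectionVars false

namespace H18.Typ

open Subgroup Cfsg H10 H20.N9

section abstract
variable {H : Type*} [Group H] [Finite H] {x : H}

theorem cls (h : Sc x) (ch : IsOfCharacteristicTwo H) (ne : pCore 2 H ≠ ⊥) :
    ∃ (N : Subgroup H) (_ : N.Normal), IsPGroup 2 N ∧ N ≠ ⊥ ∧ (Nat.card (H ⧸ N) = 3 ∨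
      Nonempty (H ⧸ N ≃* Equiv.Perm (Fin 3)) ∨
      (IsMulCommutative N ∧ (∀ n ∈ N, n ^ 2 = 1) ∧ Nonempty (H ⧸ N ≃* alternatingGroup (Fin 5)))) := by
  haveI := Fact.mk Nat.prime_three
  have h3 : ¬ 3 ∣ Nat.card (pPrimeCore 3 H) := H1.not_dvd_card_pPrimeCore Nat.prime_three
  have o : pPrimeCore 2 H = ⊥ := by
    have d : Disjoint (pPrimeCore 2 H) (pCore 2 H) := by
      obtain ⟨n, hn⟩ := (H1.isPGroup_pCore (G := H) 2).exists_card_eq
      exact disjoint_iff.2 (inf_eq_bot_of_coprime (hn ▸ (H1.coprime_card_pPrimeCore 2).pow_right n))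
    refine le_bot_iff.1 (d.le_bot.trans' (le_inf le_rfl fun a ha => ch fun b hb => ?_))
    exact (commute_of_normal_of_disjoint _ _ inferInstance inferInstance d a b ha hb).eq.symm
  have two : IsPGroup 2 (pPrimeCore 3 H) := (H1.isPGroup_pCore 2).to_le
    (H1.fitting_eq_pCore o ▸ H1.le_fitting (h.nil h3))
  have n1 : pPrimeCore 3 H ≠ ⊥ := fun e => ne (le_bot_iff.1 (e ▸ H1.le_pPrimeCore (by
    obtain ⟨n, hn⟩ := (H1.isPGroup_pCore (G := H) 2).exists_card_eq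
    rw [hn]; exact Nat.Coprime.pow_left n (by norm_num))))
  refine ⟨_, inferInstance, two, n1, ?_⟩
  have hq := h.quot h3
  rcases hq.top (H1.pPrimeCore_quotient_pPrimeCore 3) with e | e | ⟨hs, hc⟩
  · exact .inl e
  · exact .inr (.inl e)
  obtain ⟨s, v, a1, a2, a3, a4, a5, a6⟩ := Cfsg.Agent.S3331.four hq hc
  obtain ⟨s, rfl⟩ := QuotientGroup.mk_surjective s
  obtain ⟨v, rfl⟩ := QuotientGroup.mk_surjective v
  have b1 := h.lift h3 a1
  have b2 := h.lift h3 (y := s * v) a2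
  have b3 := h.lift h3 (y := s * v⁻¹) a3
  have c1 := b1.abel h3 b2 b3 fun e => a6 ((QuotientGroup.eq_one_iff _).2 e)
  have c2 := b1.exp_two h3 c1 b2 b3 (fun e => a5 ((QuotientGroup.eq_one_iff _).2 e))
    ((QuotientGroup.eq_one_iff (s * s)).1 a4)
  rcases hq.simple hc with e | e
  · exact .inr (.inr ⟨c1, fun n hn => by rw [sq, c2 n hn], Cfsg.Agent.S0494.result e⟩)
  obtain ⟨y, w, d1, d2, d3, d4⟩ := Cfsg.Agent.S3331.seven hq e
  obtain ⟨y, rfl⟩ := QuotientGroup.mk_surjective y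
  obtain ⟨w, rfl⟩ := QuotientGroup.mk_surjective w
  exact absurd ((h.lift h3 d1).bot_of h3 c1 c2 (h.lift h3 (y := y * w) d2)
    (h.lift h3 (y := y * w⁻¹) d3) fun e => d4 ((QuotientGroup.eq_one_iff (y * y)).2 e)) n1

theorem surj {Q : Type*} [Group Q] {N : Subgroup H} [N.Normal] (e : H ⧸ N ≃* Q) :
    ∃ f : H →* Q, Function.Surjective f ∧ ∀ g, f g = 1 ↔ g ∈ N :=
  ⟨e.toMonoidHom.comp (QuotientGroup.mk' N), e.surjective.comp (QuotientGroup.mk'_surjective N),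
    fun g => by simp⟩

theorem sc_lift (h : Sc x) {Q : Type*} [Group Q] (f : H →* Q) {a : H} (h3 : f a ^ 3 = 1)
    (h1 : f a ≠ 1) : Sc a := by
  haveI := Fact.mk Nat.prime_three
  exact h.of_dvd (orderOf_eq_prime h3 h1 ▸ orderOf_map_dvd f a)

theorem nmem {y : H} (h : Sc y) {N : Subgroup H} (two : IsPGroup 2 N) : y ∉ N := by
  obtain ⟨n, hn⟩ := two.exists_card_eq
  exact h.not_mem fun d => by
    have := Nat.prime_three.dvd_of_dvd_pow (hn ▸ d); omega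

theorem syl (h : Sc x) {Q : Type*} [Group Q] (f : H →* Q) (hf : Function.Surjective f)
    (two : IsPGroup 2 f.ker) (V : Subgroup Q) (hV : IsPGroup 2 V) (hi : ¬ 2 ∣ V.index) {k : Q}
    (k3 : k ^ 3 = 1) (k1 : k ≠ 1) (hk : ∀ v ∈ V, k * v * k⁻¹ ∈ V) :
    ∃ (P : Subgroup H) (k : H), IsSylowIn 2 P ⊤ ∧ orderOf k = 3 ∧ ∀ v ∈ P, k * v * k⁻¹ ∈ P := by
  obtain ⟨k, rfl⟩ := hf k
  refine ⟨V.comap f, k, isSylowIn_of_not_dvd le_top (hV.comap_of_ker_isPGroup f two) ?_,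
    (sc_lift h f k3 k1).ord, fun v hv => ?_⟩
  · rwa [relIndex_top_right, V.index_comap_of_surjective hf]
  · simpa using hk _ hv

theorem a5a : ∀ g : Equiv.Perm (Fin 5), g ^ 10 = 1 → g ^ 5 = 1 ∨ g ^ 2 = 1 := by decide +kernel

theorem a5b : ∀ y : Equiv.Perm (Fin 5), y ^ 5 = 1 → y ≠ 1 → ∃ a : Equiv.Perm (Fin 5), a ^ 3 = 1 ∧
    a ≠ 1 ∧ (a⁻¹ * y) ^ 3 = 1 ∧ a⁻¹ * y ≠ 1 ∧ (a * (a⁻¹ * y)⁻¹) ^ 5 = 1 := by decide +kernel

theorem fpf5 {N : Subgroup H} [hN : N.Normal] (two : IsPGroup 2 N) (hc : IsMulCommutative N)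
    {a b t : H} (ha : Sc a) (hb : Sc b) (h5 : (a * b⁻¹) ^ 5 ∈ N) (ht : t ∈ N)
    (c : t * (a * b) = a * b * t) : t = 1 := by
  have cm : ∀ u ∈ N, ∀ v ∈ N, u * v = v * u := fun u hu v hv =>
    congrArg Subtype.val (hc.is_comm.comm ⟨u, hu⟩ ⟨v, hv⟩)
  have n1 := ha.norm_eq (nmem ha two) (fun k hk => hN.conj_mem k hk a) ht
  have n2 := hb.norm_eq (nmem hb two) (fun k hk => hN.conj_mem k hk b) ht
  have e1 : b * t * b⁻¹ = a⁻¹ * t * a := by
    calc b * t * b⁻¹ = a⁻¹ * (a * b * t) * b⁻¹ := by group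
      _ = _ := by rw [← c]; group
  have e2 : b⁻¹ * t * b = a * t * a⁻¹ := by
    rw [e1] at n2
    rw [mul_assoc, cm _ (hN.conj_mem t ht a) _ (hN.conj_mem' t ht a), ← mul_assoc, ← n2] at n1
    exact (mul_left_cancel n1).symm
  have ai := ha.inv_eq
  have bi := hb.inv_eq
  have s1 : (a * b⁻¹) * t * (a * b⁻¹)⁻¹ = a⁻¹ * t * a := by
    calc _ = a * (b⁻¹ * t * b) * a⁻¹ := by group
      _ = a * a * t * (a * a)⁻¹ := by rw [e2]; group
      _ = _ := by rw [← ai, inv_inv]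
  have s2 : (a * b⁻¹) * (a⁻¹ * t * a) * (a * b⁻¹)⁻¹ = a * t * a⁻¹ := by rw [← e1]; group
  have s3 : (a * b⁻¹) * (a * t * a⁻¹) * (a * b⁻¹)⁻¹ = t := by
    calc _ = a * ((b * b)⁻¹ * t * (b * b)) * a⁻¹ := by rw [← e2]; group
      _ = _ := by rw [← bi, inv_inv, e1]; group
  set z := a * b⁻¹
  have c3 : Commute (z ^ 3) t := by
    have : z ^ 3 * t * (z ^ 3)⁻¹ = t := by
      calc _ = z * (z * (z * t * z⁻¹) * z⁻¹) * z⁻¹ := by rw [pow_succ, pow_two]; group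
        _ = _ := by rw [s1, s2, s3]
    exact mul_inv_eq_iff_eq_mul.1 this
  have c1 : Commute z t := by
    have := (c3.pow_left 2).mul_left (Commute.inv_left (cm _ h5 _ ht : Commute (z ^ 5) t))
    rwa [show (z ^ 3) ^ 2 * (z ^ 5)⁻¹ = z by group] at this
  rw [c1.eq, mul_inv_cancel_right] at s1
  refine ha.fix_eq_one (nmem ha two) ht ?_
  calc t * a = a * (a⁻¹ * t * a) := by group
    _ = _ := by rw [← s1]

theorem one (h : Sc x) (ch : IsOfCharacteristicTwo H) (ne : pCore 2 H ≠ ⊥) {q : ℕ} (hq : q.Prime)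
    (q5 : 5 ≤ q) {t y : H} (ht : orderOf t = 2) (hy : orderOf y = q) : t * y ≠ y * t := by
  intro c
  obtain ⟨N, _, two, -, e⟩ := cls h ch ne
  have d : q ∣ Nat.card (H ⧸ N) := by
    obtain ⟨n, hn⟩ := two.exists_card_eq
    have := hy ▸ orderOf_dvd_natCard y
    rw [card_eq_card_quotient_mul_card_subgroup N, hn] at this
    exact ((Nat.Prime.dvd_mul hq).1 this).resolve_right fun d => by
      have := Nat.le_of_dvd two_pos (hq.dvd_of_dvd_pow d); omega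
  rcases e with e | ⟨⟨e⟩⟩ | ⟨hc, -, ⟨e⟩⟩
  · have := Nat.le_of_dvd (by norm_num) (e ▸ d); omega
  · rw [Nat.card_congr e.toEquiv, Nat.card_perm, Nat.card_fin] at d
    have := (Nat.Prime.dvd_factorial hq).1 d; omega
  obtain ⟨f, hf, hk⟩ := surj e
  obtain rfl : q = 5 := by
    have := d.trans ((Nat.card_congr e.toEquiv).symm ▸ card_subgroup_dvd_card (alternatingGroup (Fin 5)))
    rw [Nat.card_perm, Nat.card_fin] at this
    have := (Nat.Prime.dvd_factorial hq).1 this; omega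
  have t2 : t ^ 2 = 1 := ht ▸ pow_orderOf_eq_one t
  have y5 : y ^ 5 = 1 := hy ▸ pow_orderOf_eq_one y
  have yN : ∀ k, y ^ k ∈ N → 5 ∣ k := fun k hk => by
    obtain ⟨n, hn⟩ := two ⟨_, hk⟩
    have : y ^ (k * 2 ^ n) = 1 := by rw [pow_mul]; exact congrArg Subtype.val hn
    exact (Nat.Coprime.pow_right n (by norm_num)).dvd_of_dvd_mul_right
      (hy ▸ orderOf_dvd_of_pow_eq_one this)
  have cm : Commute t y := c
  have tN : t ∈ N := by
    have p : ∀ k, ((f (t * y) : Equiv.Perm (Fin 5))) ^ k = 1 ↔ t ^ k * y ^ k ∈ N := fun k => by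
      rw [← hk, ← cm.mul_pow, map_pow, Subtype.ext_iff]; rfl
    rcases a5a _ ((p 10).2 (by
      rw [show 10 = 2 * 5 from rfl, pow_mul, t2, one_pow, mul_comm 2, pow_mul, y5, one_pow, one_mul]
      exact N.one_mem)) with z | z
    · have := (p 5).1 z
      rwa [y5, mul_one, show 5 = 2 * 2 + 1 from rfl, pow_succ, pow_mul, t2, one_pow, one_mul] at this
    · have := (p 2).1 z
      rw [t2, one_mul] at this
      have := yN 2 this; omega
  obtain ⟨a, a3, a1, b3, b1, z⟩ := a5b (f y) (by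
    rw [← SubgroupClass.coe_pow, ← map_pow, y5, map_one]; rfl) fun z => by
      have := yN 1 (by rw [pow_one, ← hk]; exact Subtype.ext z); omega
  have sa : a ∈ alternatingGroup (Fin 5) := by
    have := congrArg Equiv.Perm.sign a3
    rw [map_pow, map_one, pow_succ, Int.units_sq, one_mul] at this
    exact this
  obtain ⟨a', ha⟩ := hf ⟨a, sa⟩
  have e1 : t = 1 := fpf5 two hc (a := a') (b := a'⁻¹ * y)
    (sc_lift h f (by rw [ha]; exact Subtype.ext a3) (by rw [ha]; exact fun z => a1 (congrArg Subtype.val z)))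
    (sc_lift h f (by rw [map_mul, map_inv, ha]; exact Subtype.ext b3)
      (by rw [map_mul, map_inv, ha]; exact fun z => b1 (congrArg Subtype.val z)))
    (by rw [← hk, map_pow, map_mul, map_inv, map_mul, map_inv, ha]; exact Subtype.ext z) tN
    (by rw [mul_inv_cancel_left, c])
  simp [e1] at ht

/-- the Klein four-subgroup of the alternating group of degree five -/
def vL : Finset (Equiv.Perm (Fin 5)) :=
  {1, Equiv.swap 0 1 * Equiv.swap 2 3, Equiv.swap 0 2 * Equiv.swap 1 3,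
    Equiv.swap 0 3 * Equiv.swap 1 2}

theorem vL_prop : (1 ∈ vL ∧ (∀ a ∈ vL, ∀ b ∈ vL, a * b ∈ vL) ∧ (∀ a ∈ vL, a⁻¹ ∈ vL) ∧
    (∀ a ∈ vL, Equiv.Perm.sign a = 1) ∧ vL.card = 4) ∧ ∃ k : Equiv.Perm (Fin 5),
      Equiv.Perm.sign k = 1 ∧ k ^ 3 = 1 ∧ k ≠ 1 ∧ ∀ v ∈ vL, k * v * k⁻¹ ∈ vL :=
  ⟨by decide +kernel, Equiv.swap 0 1 * Equiv.swap 1 2, by decide +kernel⟩

theorem a5v : ∃ (V : Subgroup (alternatingGroup (Fin 5))) (k : alternatingGroup (Fin 5)),
    IsPGroup 2 V ∧ ¬ 2 ∣ V.index ∧ k ^ 3 = 1 ∧ k ≠ 1 ∧ ∀ v ∈ V, k * v * k⁻¹ ∈ V := by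
  obtain ⟨⟨p1, p2, p3, p4, p5⟩, k, k0, k3, k1, hk⟩ := vL_prop
  let V : Subgroup (Equiv.Perm (Fin 5)) :=
    { carrier := vL
      one_mem' := p1
      mul_mem' := fun {a b} ha hb => p2 a ha b hb
      inv_mem' := fun {a} ha => p3 a ha }
  have c : Nat.card (V.subgroupOf (alternatingGroup (Fin 5))) = 4 := by
    rw [Nat.card_congr (subgroupOfEquivOfLe (H := V) fun a ha => p4 a ha).toEquiv, ← p5]
    exact Nat.card_eq_finsetCard vL
  refine ⟨V.subgroupOf _, ⟨k, k0⟩, IsPGroup.of_card (n := 2) c, ?_, Subtype.ext k3,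
    fun z => k1 (congrArg Subtype.val z), fun v hv => hk v hv⟩
  have := (V.subgroupOf (alternatingGroup (Fin 5))).card_mul_index
  rw [c, nat_card_alternatingGroup, Nat.card_fin] at this
  norm_num [Nat.factorial] at this
  omega

theorem s3a : ∀ a : Equiv.Perm (Fin 3), a ^ 3 = 1 → ∃ b, b * a * b⁻¹ = a⁻¹ := by decide

theorem s3b : ∀ a b g : Equiv.Perm (Fin 3), a ^ 3 = 1 → a ≠ 1 → b * a * b⁻¹ = a⁻¹ →
    g = 1 ∨ g * a⁻¹ = 1 ∨ g * a = 1 ∨ g * b⁻¹ = 1 ∨ g * a⁻¹ * b⁻¹ = 1 ∨ g * a * b⁻¹ = 1 := by decide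

theorem two' (h : Sc x) (ch : IsOfCharacteristicTwo H) (ne : pCore 2 H ≠ ⊥) :
    (∃ (N : Subgroup H) (_ : N.Normal) (s : H), IsPGroup 2 N ∧ N ≠ ⊥ ∧ s * s = 1 ∧ s * x * s = x⁻¹ ∧
      ∀ g, ∃ u ∈ N, g = u ∨ g = u * x ∨ g = u * x⁻¹ ∨ g = u * s ∨ g = u * s * x ∨ g = u * s * x⁻¹) ∨
    ∃ (P : Subgroup H) (k : H), IsSylowIn 2 P ⊤ ∧ orderOf k = 3 ∧ ∀ v ∈ P, k * v * k⁻¹ ∈ P := by
  obtain ⟨N, hN, two, n1, e⟩ := cls h ch ne
  have xN := nmem h two
  rcases e with e | ⟨⟨e⟩⟩ | ⟨-, -, ⟨e⟩⟩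
  · refine .inr ⟨N, x, isSylowIn_of_not_dvd le_top two ?_, h.ord, fun v hv => hN.conj_mem v hv x⟩
    rw [relIndex_top_right, index_eq_card, e]; norm_num
  · obtain ⟨f, hf, hk⟩ := surj e
    have x3 : f x ^ 3 = 1 := by rw [← map_pow, h.cube, map_one]
    obtain ⟨b, hb⟩ := s3a _ x3
    obtain ⟨t, rfl⟩ := hf b
    have m : t * x * t⁻¹ * x ∈ N := by rw [← hk]; simp [hb]
    obtain ⟨c, -, hc⟩ := h.inv.coset_conj (nmem h.inv two) (fun k hk => hN.conj_mem k hk _) m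
    have i : c⁻¹ * t * x * (c⁻¹ * t)⁻¹ = x⁻¹ := by
      calc _ = c⁻¹ * (t * x * t⁻¹ * x * x⁻¹) * c := by group
        _ = _ := by rw [hc]; group
    generalize c⁻¹ * t = s at i
    have nc : s * x ≠ x * s := fun z => by
      rw [z, mul_inv_cancel_right] at i
      have := h.cube'
      rw [mul_assoc] at this
      nth_rw 3 [i] at this
      exact h.ne_one (by simpa using this)
    have ss : s * s = 1 := by
      have : s * s * x = x * (s * s) := by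
        calc s * s * x = s * (s * x * s⁻¹) * s := by group
          _ = (s * x * s⁻¹)⁻¹ * (s * s) := by
            conv_lhs => rw [i]
            group
          _ = _ := by rw [i, inv_inv]
      rcases h.of_comm this with z | z | z
      · exact z
      · exact absurd (by rw [← z, mul_assoc]) nc
      · exact absurd (by rw [← inv_inv x, ← z]; group) nc
    have si : s⁻¹ = s := inv_eq_of_mul_eq_one_right ss
    refine .inl ⟨N, hN, s, two, n1, ss, by rw [← i, si], fun g => ?_⟩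
    rcases s3b (f x) (f s) (f g) x3 (fun z => xN ((hk x).1 z))
      (by rw [← map_inv, ← map_inv, ← i, map_mul, map_mul]) with z | z | z | z | z | z <;>
    simp only [← map_inv, ← map_mul, hk] at z <;> refine ⟨_, z, ?_⟩ <;> simp
  · obtain ⟨f, hf, hk⟩ := surj e
    obtain ⟨V, k, v1, v2, k3, k1, hv⟩ := a5v
    exact .inr (syl h f hf (by rwa [show f.ker = N from Subgroup.ext hk]) V v1 v2 k3 k1 hv)

end abstract

variable {G : Type*} [Group G] [Finite G] {q : ℕ}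

theorem pre (h : Hy G q) {Y : Subgroup G} (hY : IsTwoLocal Y) (h3 : 3 ∣ Nat.card Y) :
    ∃ x : Y, Sc x ∧ IsOfCharacteristicTwo Y ∧ pCore 2 Y ≠ ⊥ := by
  haveI := Fact.mk Nat.prime_three
  obtain ⟨x, hx⟩ := exists_prime_orderOf_dvd_card' (G := Y) 3 h3
  have n9 := h.n9 Y hY
  obtain ⟨T, hT, T1, rfl⟩ := hY
  refine ⟨x, ⟨hx, ?_⟩, h.ch.2 T hT T1, fun e => T1 ?_⟩
  · have le : zpowers x ≤ centralizer {x} := zpowers_le.2 (mem_centralizer_singleton_iff.2 rfl)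
    have p : IsPGroup 3 (centralizer ({x} : Set (normalizer (T : Set G)))) := fun g => ⟨1, by
      have := h.c3 x g (by rw [Subgroup.orderOf_coe, hx])
        (congrArg Subtype.val (mem_centralizer_singleton_iff.1 g.2))
      exact Subtype.ext (Subtype.ext (by simpa using this))⟩
    obtain ⟨n, hn⟩ := p.exists_card_eq
    refine (eq_of_le_of_card_ge le ?_).symm
    rw [Nat.card_zpowers, hx, hn]
    have : n ≤ 1 := by
      by_contra l
      exact n9 ((pow_dvd_pow 3 (show 2 ≤ n by omega)).trans (hn ▸ card_subgroup_dvd_card _))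
    exact (Nat.pow_le_pow_right (by norm_num) this).trans (by norm_num)
  · have : T.subgroupOf (normalizer (T : Set G)) ≤ ⊥ := e ▸ H1.le_pCore (isPGroup_subgroupOf hT _)
    rw [le_bot_iff, subgroupOf_eq_bot] at this
    exact le_bot_iff.1 (this.le_bot.trans' (le_inf le_rfl le_normalizer))

theorem typ1 (h : Hy G q) : T1 G q := fun Y hY h3 t ht y hy o1 o2 c => by
  obtain ⟨x, h1, h2, h4⟩ := pre h hY h3
  exact one h1 h2 h4 h.hq h.q5 (t := ⟨t, ht⟩) (y := ⟨y, hy⟩) (by rw [← Subgroup.orderOf_coe]; exact o1)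
    (by rw [← Subgroup.orderOf_coe]; exact o2) (Subtype.ext c)

theorem typ2 (h : Hy G q) {Y : Subgroup G} (hY : IsMaximalTwoLocal Y) (h3 : 3 ∣ Nat.card Y) :
    (∃ U k s, S3 Y U k s) ∨ ∃ (P : Subgroup G) (k : G), IsSylowIn 2 P Y ∧ orderOf k = 3 ∧
      k ∈ NN(P) := by
  obtain ⟨x, h1, h2, h4⟩ := pre h hY.1 h3
  rcases two' h1 h2 h4 with ⟨N, _, s, two, n1, ss, sx, m⟩ | ⟨P, k, hP, k3, hk⟩
  · have ne : N.map Y.subtype ≠ ⊥ := fun e => n1 ((map_eq_bot_iff_of_injective N Y.subtype_injective).1 e)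
    refine .inl ⟨N.map Y.subtype, x, s, two.map _, ne,
      hY.2 _ ⟨_, two.map _, ne, rfl⟩ (le_NN_map_subtype N), by rw [Subgroup.orderOf_coe, h1.ord],
      congrArg Subtype.val ss, congrArg Subtype.val sx, x.2, s.2, fun g hg => ?_, hY⟩
    obtain ⟨u, hu, e⟩ := m ⟨g, hg⟩
    exact ⟨u, mem_map_of_mem _ hu, by simpa [Subtype.ext_iff] using e⟩
  · refine .inr ⟨P.map Y.subtype, k, hP.of_top_subtype, by rw [Subgroup.orderOf_coe, k3],
      mem_NN_of_conj_mem ?_⟩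
    rintro _ ⟨v, hv, rfl⟩
    exact ⟨_, hk v hv, rfl⟩

end H18.Typ
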